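import Cfsg.Agent.Lib.LocalEven.AmalgamZ.Basic

/-!
Cubic amalgams one of whose vertex groups centralizes the central involutions of the edge groups:
axioms, iterated kernels, walks.
-/

set_option autoImplicit false

namespace CfsgLib.LocalEven.AmalgamCentral

open MulAction AmalgamZ

variable {X Ω : Type*} [Group X] [MulAction X Ω]

/-- The axioms of a faithful locally arc transitive cubic graph whose vertex groups have
characteristic two, one class of which centralizes the central involutions of the edge groups. -/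
structure CD (X Ω : Type*) [Group X] [MulAction X Ω] where
  Adj : Ω → Ω → Prop
  isB : Ω → Prop
  symm' : ∀ a b, Adj a b → Adj b a
  irrefl' : ∀ a, ¬ Adj a a
  adj_smul : ∀ (g : X) (a b : Ω), Adj a b → Adj (g • a) (g • b)
  conn : ∀ a b : Ω, Relation.ReflTransGen Adj a b
  faithful : ∀ g : X, (∀ v : Ω, g • v = v) → g = 1
  fin : ∀ v : Ω, Finite (stabilizer X v)
  trans : ∀ v a b, Adj v a → Adj v b → ∃ g ∈ stabilizer X v, g • a = b
  valency : ∀ v, Nat.card {u // Adj v u} = 3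
  twogroup : ∀ u v, Adj u v → IsPGroup 2 ↥(edgeGrp (X := X) u v)
  half : ∀ u v, Adj u v → Nat.card ↥(edgeGrp (X := X) u v) = 2 * Nat.card ↥(nbrKer X Adj v)
  char : ∀ v, ∀ g ∈ stabilizer X v, (∀ x ∈ nbrKer X Adj v, g * x = x * g) → g ∈ nbrKer X Adj v
  isB_smul : ∀ (g : X) (v : Ω), isB (g • v) ↔ isB v
  isB_adj : ∀ u v, Adj u v → (isB v ↔ ¬ isB u)
  exB : ∃ c, isB c
  central : ∀ a c, Adj a c → isB c → ∀ w ∈ edgeGrp (X := X) a c, w * w = 1 →
    (∀ t ∈ edgeGrp (X := X) a c, t * w = w * t) → ∀ g ∈ stabilizer X c, g * w = w * g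

/-- A subgroup whose fibres under a map with values in a finite set lie in cosets of `A`. -/
theorem card_le_mul {α : Type*} {W A : Subgroup X} [Finite ↥(W ⊓ A : Subgroup X)] (f : X → α)
    (S : Finset α) (hS : ∀ x ∈ W, f x ∈ S) (hf : ∀ x ∈ W, ∀ y ∈ W, f x = f y → x⁻¹ * y ∈ A) :
    Nat.card ↥W ≤ S.card * Nat.card ↥(W ⊓ A : Subgroup X) := by
  classical
  let R : α → X := fun v => if h : ∃ x ∈ W, f x = v then h.choose else 1
  have hR : ∀ x ∈ W, R (f x) ∈ W ∧ f (R (f x)) = f x := by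
    intro x hx
    have h : ∃ y ∈ W, f y = f x := ⟨x, hx, rfl⟩
    simp only [R, dif_pos h]
    exact h.choose_spec
  let F : ↥W → S × ↥(W ⊓ A : Subgroup X) := fun x =>
    (⟨f x, hS x x.2⟩, ⟨(R (f x))⁻¹ * x, W.mul_mem (W.inv_mem (hR x x.2).1) x.2,
      hf _ (hR x x.2).1 _ x.2 (hR x x.2).2⟩)
  have hinj : Function.Injective F := by
    intro x y hxy
    simp only [F, Prod.mk.injEq, Subtype.mk.injEq] at hxy
    obtain ⟨h1, h2⟩ := hxy
    exact Subtype.ext (mul_left_cancel (((congrArg (fun v => (R v)⁻¹ * x.1) h1).symm).trans (congrArg Subtype.val h2)))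
  have := Nat.card_le_card_of_injective F hinj
  rwa [Nat.card_prod, Nat.card_eq_finsetCard] at this

/-- A subgroup in which the elements outside `A` lie in one coset. -/
theorem card_le_two_mul {W A : Subgroup X} [Finite ↥(W ⊓ A : Subgroup X)]
    (h : ∀ x ∈ W, ∀ y ∈ W, x ∉ A → y ∉ A → x⁻¹ * y ∈ A) :
    Nat.card ↥W ≤ 2 * Nat.card ↥(W ⊓ A : Subgroup X) := by
  classical
  refine (card_le_mul (A := A) (fun x => decide (x ∈ A)) Finset.univ (fun x _ => Finset.mem_univ _) ?_).trans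
    (by simp)
  intro x hx y hy hxy
  simp only [decide_eq_decide] at hxy
  by_cases hxA : x ∈ A
  · exact A.mul_mem (A.inv_mem hxA) (hxy.1 hxA)
  · exact h x hx y hy hxA fun hyA => hxA (hxy.2 hyA)

/-- Two subgroups of a finite subgroup meeting trivially. -/
theorem card_mul_le {S S' K : Subgroup X} [Finite ↥K] (hS : S ≤ K) (hS' : S' ≤ K)
    (h : S ⊓ S' = ⊥) : Nat.card ↥S * Nat.card ↥S' ≤ Nat.card ↥K := by
  rw [← Nat.card_prod]
  refine Nat.card_le_card_of_injective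
    (fun p => (⟨p.1.1 * p.2.1, K.mul_mem (hS p.1.2) (hS' p.2.2)⟩ : ↥K)) ?_
  rintro ⟨a, b⟩ ⟨a', b'⟩ hxy
  simp only [Subtype.mk.injEq] at hxy
  have e : a'.1⁻¹ * a.1 = b'.1 * b.1⁻¹ := by
    rw [inv_mul_eq_iff_eq_mul, ← mul_assoc, ← hxy, mul_inv_cancel_right]
  have hmem : a'.1⁻¹ * a.1 ∈ S ⊓ S' :=
    ⟨S.mul_mem (S.inv_mem a'.2) a.2, e ▸ S'.mul_mem b'.2 (S'.inv_mem b.2)⟩
  rw [h, Subgroup.mem_bot] at hmem
  have ha : a = a' := Subtype.ext (inv_mul_eq_one.1 hmem).symm
  subst ha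
  exact Prod.ext rfl (Subtype.ext (mul_left_cancel hxy))

namespace CD

variable (D : CD X Ω)

/-- The kernel of a vertex group on the neighbours of its vertex. -/
abbrev Q (v : Ω) : Subgroup X := nbrKer X D.Adj v

/-- The pointwise stabilizer of the ball of radius `n`. -/
def ker (D : CD X Ω) : ℕ → Ω → Subgroup X
  | 0, v => stabilizer X v
  | n + 1, v => stabilizer X v ⊓ ⨅ (u : Ω) (_ : D.Adj v u), D.ker n u

theorem symm {a b : Ω} (h : D.Adj a b) : D.Adj b a := D.symm' a b h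

theorem ne_of_adj {a b : Ω} (h : D.Adj a b) : a ≠ b := fun e => D.irrefl' b (e ▸ h)

theorem mem_Q {v : Ω} {g : X} : g ∈ D.Q v ↔ g • v = v ∧ ∀ u, D.Adj v u → g • u = u := by
  simp [Q, nbrKer, Subgroup.mem_iInf, mem_stabilizer_iff]

theorem adj_smul_iff (g : X) {a b : Ω} : D.Adj (g • a) (g • b) ↔ D.Adj a b :=
  ⟨fun h => by simpa using D.adj_smul g⁻¹ _ _ h, D.adj_smul g a b⟩

theorem adj_fix {g : X} {v u : Ω} (hg : g • v = v) (h : D.Adj v u) : D.Adj v (g • u) := by
  have := D.adj_smul g _ _ h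
  rwa [hg] at this

theorem mem_edge {u v : Ω} {g : X} : g ∈ edgeGrp (X := X) u v ↔ g • u = u ∧ g • v = v :=
  Data.mem_edgeGrp

theorem Q_le_edge {u v : Ω} (h : D.Adj u v) : D.Q v ≤ edgeGrp u v := fun _ hg =>
  mem_edge.2 ⟨(D.mem_Q.1 hg).2 u (D.symm h), (D.mem_Q.1 hg).1⟩

theorem Q_le_stab (v : Ω) : D.Q v ≤ stabilizer X v := inf_le_left

theorem isB_left {a c : Ω} (h : D.Adj a c) (hc : D.isB c) : ¬ D.isB a := (D.isB_adj a c h).1 hc

theorem isB_right {a c : Ω} (h : D.Adj a c) (ha : ¬ D.isB a) : D.isB c := (D.isB_adj a c h).2 ha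

theorem not_isB {a c : Ω} (h : D.Adj c a) (hc : D.isB c) : ¬ D.isB a := D.isB_left (D.symm h) hc

theorem conj_mem_Q {g x : X} {v : Ω} (h : x ∈ D.Q v) : g * x * g⁻¹ ∈ D.Q (g • v) := by
  refine D.mem_Q.2 ⟨Data.conj_smul_eq (D.mem_Q.1 h).1, fun u hu => ?_⟩
  have hu' : D.Adj v (g⁻¹ • u) := (D.adj_smul_iff g).1 (by simpa using hu)
  simpa using Data.conj_smul_eq (g := g) ((D.mem_Q.1 h).2 _ hu')

theorem conj_mem_Q_fix {g x : X} {v : Ω} (hg : g • v = v) (h : x ∈ D.Q v) :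
    g * x * g⁻¹ ∈ D.Q v := by
  have := D.conj_mem_Q (g := g) h
  rwa [hg] at this

/-! ### Iterated kernels -/

theorem mem_ker_zero {v : Ω} {g : X} : g ∈ D.ker 0 v ↔ g • v = v := mem_stabilizer_iff

theorem mem_ker_succ {n : ℕ} {v : Ω} {g : X} :
    g ∈ D.ker (n + 1) v ↔ g • v = v ∧ ∀ u, D.Adj v u → g ∈ D.ker n u := by
  simp [ker, Subgroup.mem_iInf, mem_stabilizer_iff]

theorem ker_one (v : Ω) : D.ker 1 v = D.Q v := rfl

theorem ker_fix_self {n : ℕ} {v : Ω} {g : X} (h : g ∈ D.ker n v) : g • v = v := by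
  cases n
  · exact D.mem_ker_zero.1 h
  · exact (D.mem_ker_succ.1 h).1

theorem ker_succ_le (n : ℕ) : ∀ v, D.ker (n + 1) v ≤ D.ker n v := by
  induction n with
  | zero => exact fun v => inf_le_left
  | succ n ih =>
    intro v g hg
    obtain ⟨h1, h2⟩ := D.mem_ker_succ.1 hg
    exact D.mem_ker_succ.2 ⟨h1, fun u hu => ih u (h2 u hu)⟩

theorem ker_antitone {m n : ℕ} (h : m ≤ n) (v : Ω) : D.ker n v ≤ D.ker m v := by
  induction h with
  | refl => exact le_rfl
  | step _ ih => exact (D.ker_succ_le _ v).trans ih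

theorem conj_mem_ker {g x : X} : ∀ {n : ℕ} {v : Ω}, x ∈ D.ker n v → g * x * g⁻¹ ∈ D.ker n (g • v) := by
  intro n
  induction n with
  | zero => exact fun h => D.mem_ker_zero.2 (Data.conj_smul_eq (D.mem_ker_zero.1 h))
  | succ n ih =>
    intro v h
    obtain ⟨h1, h2⟩ := D.mem_ker_succ.1 h
    refine D.mem_ker_succ.2 ⟨Data.conj_smul_eq h1, fun u hu => ?_⟩
    have hu' : D.Adj v (g⁻¹ • u) := (D.adj_smul_iff g).1 (by simpa using hu)
    simpa using ih (h2 _ hu')

theorem conj_mem_ker_fix {g x : X} {n : ℕ} {v : Ω} (hg : g • v = v) (h : x ∈ D.ker n v) :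
    g * x * g⁻¹ ∈ D.ker n v := by
  have := D.conj_mem_ker (g := g) h
  rwa [hg] at this

/-! ### Walks -/

/-- A walk of length `n`. -/
def Walk (n : ℕ) (w : ℕ → Ω) : Prop := ∀ i, i < n → D.Adj (w i) (w (i + 1))

/-- A walk of length `n` without backtracking. -/
def NB (n : ℕ) (w : ℕ → Ω) : Prop := D.Walk n w ∧ ∀ i, i + 2 ≤ n → w (i + 2) ≠ w i

variable {D}

theorem Walk.mono {m n : ℕ} {w : ℕ → Ω} (h : D.Walk n w) (hm : m ≤ n) : D.Walk m w :=
  fun i hi => h i (by omega)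

theorem Walk.shift {n k : ℕ} {w : ℕ → Ω} (h : D.Walk n w) (s : ℕ) (hk : s + k ≤ n) :
    D.Walk k (fun i => w (s + i)) := fun i hi => h (s + i) (by omega)

theorem Walk.rev {n : ℕ} {w : ℕ → Ω} (h : D.Walk n w) : D.Walk n (fun i => w (n - i)) := by
  intro i hi
  have := D.symm (h (n - (i + 1)) (by omega))
  rwa [show n - (i + 1) + 1 = n - i by omega] at this

theorem NB.mono {m n : ℕ} {w : ℕ → Ω} (h : D.NB n w) (hm : m ≤ n) : D.NB m w :=
  ⟨h.1.mono hm, fun i hi => h.2 i (by omega)⟩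

theorem NB.shift {n k : ℕ} {w : ℕ → Ω} (h : D.NB n w) (s : ℕ) (hk : s + k ≤ n) :
    D.NB k (fun i => w (s + i)) :=
  ⟨h.1.shift s hk, fun i hi => by simpa [← add_assoc] using h.2 (s + i) (by omega)⟩

theorem NB.rev {n : ℕ} {w : ℕ → Ω} (h : D.NB n w) : D.NB n (fun i => w (n - i)) := by
  refine ⟨h.1.rev, fun i hi => ?_⟩
  have := h.2 (n - (i + 2)) (by omega)
  rw [show n - (i + 2) + 2 = n - i by omega] at this
  exact this.symm

theorem NB.congr {n : ℕ} {w w' : ℕ → Ω} (h : D.NB n w) (he : ∀ i, i ≤ n → w' i = w i) :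
    D.NB n w' :=
  ⟨fun i hi => by rw [he i (by omega), he (i + 1) (by omega)]; exact h.1 i hi,
    fun i hi => by rw [he i (by omega), he (i + 2) (by omega)]; exact h.2 i hi⟩

theorem NB.smul {n : ℕ} {w : ℕ → Ω} (h : D.NB n w) (g : X) : D.NB n (fun i => g • w i) :=
  ⟨fun i hi => D.adj_smul g _ _ (h.1 i hi), fun i hi e => h.2 i hi (smul_left_cancel g e)⟩

/-- The concatenation of two walks. -/
def app (m : ℕ) (p q : ℕ → Ω) : ℕ → Ω := fun i => if i ≤ m then p i else q (i - m)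

omit [Group X] [MulAction X Ω] in
theorem app_left {m i : ℕ} (p q : ℕ → Ω) (h : i ≤ m) : app m p q i = p i := if_pos h

omit [Group X] [MulAction X Ω] in
theorem app_right {m : ℕ} {p q : ℕ → Ω} (he : p m = q 0) (i : ℕ) : app m p q (m + i) = q i := by
  rcases Nat.eq_zero_or_pos i with rfl | hi
  · simp [app, he]
  · simp [app, show ¬ m + i ≤ m by omega]

theorem Walk.app {m n : ℕ} {p q : ℕ → Ω} (hp : D.Walk m p) (hq : D.Walk n q) (he : p m = q 0) :
    D.Walk (m + n) (app m p q) := by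
  intro i hi
  by_cases h : i < m
  · rw [app_left _ _ h.le, app_left _ _ h]
    exact hp i h
  · obtain ⟨j, rfl⟩ := Nat.exists_eq_add_of_le (le_of_not_gt h)
    rw [app_right he, add_assoc, app_right he]
    exact hq j (by omega)

theorem NB.app {m n : ℕ} {p q : ℕ → Ω} (hp : D.NB m p) (hq : D.NB n q) (he : p m = q 0)
    (hj : 1 ≤ m → 1 ≤ n → q 1 ≠ p (m - 1)) : D.NB (m + n) (app m p q) := by
  refine ⟨hp.1.app hq.1 he, fun i hi => ?_⟩
  by_cases h : i + 2 ≤ m
  · rw [app_left _ _ h, app_left _ _ (by omega)]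
    exact hp.2 i h
  by_cases h' : m ≤ i
  · obtain ⟨j, rfl⟩ := Nat.exists_eq_add_of_le h'
    rw [app_right he, add_assoc, app_right he]
    exact hq.2 j (by omega)
  · rw [show i + 2 = m + 1 by omega, app_right he, app_left _ _ (by omega), show i = m - 1 by omega]
    exact hj (by omega) (by omega)

variable (D)

/-- A walk given by its first vertex and the rest. -/
def cons (v : Ω) (w : ℕ → Ω) : ℕ → Ω := fun i => if i = 0 then v else w (i - 1)

omit [Group X] [MulAction X Ω] in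
theorem cons_succ (v : Ω) (w : ℕ → Ω) (i : ℕ) : cons v w (i + 1) = w i := by simp [cons]

omit [Group X] [MulAction X Ω] in
theorem cons_zero (v : Ω) (w : ℕ → Ω) : cons v w 0 = v := by simp [cons]

theorem walk_cons {n : ℕ} {v : Ω} {w : ℕ → Ω} (hv : D.Adj v (w 0)) (hw : D.Walk n w) :
    D.Walk (n + 1) (cons v w) := by
  intro i hi
  cases i with
  | zero => simpa [cons] using hv
  | succ i => rw [cons_succ, cons_succ]; exact hw i (by omega)

theorem nb_cons {n : ℕ} {v : Ω} {w : ℕ → Ω} (hv : D.Adj v (w 0)) (hw : D.NB n w)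
    (hne : 1 ≤ n → w 1 ≠ v) : D.NB (n + 1) (cons v w) := by
  refine ⟨D.walk_cons hv hw.1, fun i hi => ?_⟩
  cases i with
  | zero => rw [cons_zero, cons_succ]; exact hne (by omega)
  | succ i => rw [cons_succ, cons_succ]; exact hw.2 i (by omega)

/-- The extension of a walk by one vertex. -/
def snoc (n : ℕ) (w : ℕ → Ω) (v : Ω) : ℕ → Ω := fun i => if i ≤ n then w i else v

omit [Group X] [MulAction X Ω] in
theorem snoc_le {n i : ℕ} (w : ℕ → Ω) (v : Ω) (h : i ≤ n) : snoc n w v i = w i := if_pos h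

omit [Group X] [MulAction X Ω] in
theorem snoc_last (n : ℕ) (w : ℕ → Ω) (v : Ω) : snoc n w v (n + 1) = v := if_neg (by omega)

theorem nb_snoc {n : ℕ} {v : Ω} {w : ℕ → Ω} (hv : D.Adj (w n) v) (hw : D.NB n w)
    (hne : 1 ≤ n → v ≠ w (n - 1)) : D.NB (n + 1) (snoc n w v) := by
  refine ⟨fun i hi => ?_, fun i hi => ?_⟩
  · rw [snoc_le _ _ (Nat.lt_succ_iff.1 hi)]
    rcases Nat.lt_succ_iff_lt_or_eq.1 hi with h | rfl
    · rw [snoc_le _ _ h]; exact hw.1 i h
    · rw [snoc_last]; exact hv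
  · rw [snoc_le _ _ (show i ≤ n by omega)]
    rcases Nat.lt_succ_iff_lt_or_eq.1 (show i + 1 < n + 1 by omega) with h | h
    · rw [snoc_le _ _ h]; exact hw.2 i h
    · subst h; rw [snoc_last]; simpa using hne (by omega)

theorem ker_fix_walk {g : X} : ∀ {k n : ℕ} {w : ℕ → Ω}, g ∈ D.ker n (w 0) → D.Walk k w → k ≤ n →
    g • w k = w k := by
  intro k
  induction k with
  | zero => exact fun h _ _ => D.ker_fix_self h
  | succ k ih =>
    intro n w h hw hk
    obtain ⟨n, rfl⟩ : ∃ m, n = m + 1 := ⟨n - 1, by omega⟩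
    have h1 := (D.mem_ker_succ.1 h).2 _ (hw 0 (by omega))
    have hw' : D.Walk k (fun i => w (i + 1)) := fun i hi => hw (i + 1) (by omega)
    exact ih (w := fun i => w (i + 1)) h1 hw' (by omega)

theorem ker_fix {g : X} {n L i j : ℕ} {w : ℕ → Ω} (hw : D.Walk L w) (h : g ∈ D.ker n (w i))
    (hi : i ≤ L) (hj : j ≤ L) (h1 : i ≤ j + n) (h2 : j ≤ i + n) : g • w j = w j := by
  rcases le_total i j with hij | hij
  · obtain ⟨k, rfl⟩ := Nat.exists_eq_add_of_le hij
    exact D.ker_fix_walk (w := fun m => w (i + m)) (by simpa using h) (hw.shift i (by omega)) (by omega)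
  · obtain ⟨k, rfl⟩ := Nat.exists_eq_add_of_le hij
    have hw' := (hw.mono hi).rev
    have := D.ker_fix_walk (w := fun m => w (j + k - m)) (by simpa using h) (hw'.mono (m := k) (by omega))
      (by omega)
    simpa using this

/-- An element in the kernel of radius `n` but not `n + 1` moves the end of a path of length
`n + 1`. -/
theorem exists_moved {g : X} : ∀ {n : ℕ} {v : Ω}, g ∈ D.ker n v → g ∉ D.ker (n + 1) v →
    ∃ w : ℕ → Ω, w 0 = v ∧ D.NB (n + 1) w ∧ g • w (n + 1) ≠ w (n + 1) := by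
  intro n
  induction n with
  | zero =>
    intro v h h'
    obtain ⟨u, hu, hgu⟩ : ∃ u, D.Adj v u ∧ g • u ≠ u := by
      by_contra hcon
      push Not at hcon
      exact h' (D.mem_ker_succ.2 ⟨D.mem_ker_zero.1 h, fun u hu => D.mem_ker_zero.2 (hcon u hu)⟩)
    refine ⟨cons v (fun _ => u), cons_zero _ _, ⟨fun i hi => ?_, fun i hi => by omega⟩, ?_⟩
    · obtain rfl : i = 0 := by omega
      simpa [cons] using hu
    · simpa [cons] using hgu
  | succ n ih =>
    intro v h h'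
    obtain ⟨h1, h2⟩ := D.mem_ker_succ.1 h
    obtain ⟨u, hu, hgu⟩ : ∃ u, D.Adj v u ∧ g ∉ D.ker (n + 1) u := by
      by_contra hcon
      push Not at hcon
      exact h' (D.mem_ker_succ.2 ⟨h1, hcon⟩)
    obtain ⟨w, hw0, hw, hmv⟩ := ih (h2 u hu) hgu
    subst hw0
    refine ⟨cons v w, cons_zero _ _, D.nb_cons hu hw fun _ he => hmv ?_, by rwa [cons_succ]⟩
    exact D.ker_fix (i := 1) (n := n + 1) hw.1 (he ▸ h) (by omega) le_rfl (by omega) (by omega)

/-- A criterion for membership in an iterated kernel. -/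
theorem mem_ker_of_paths {g : X} {v : Ω} (hv : g • v = v) : ∀ n : ℕ,
    (∀ (w : ℕ → Ω) (k : ℕ), k ≤ n → D.NB k w → w 0 = v → g • w k = w k) → g ∈ D.ker n v := by
  intro n
  induction n with
  | zero => exact fun _ => D.mem_ker_zero.2 hv
  | succ n ih =>
    intro h
    by_contra hcon
    obtain ⟨w, hw0, hw, hmv⟩ := D.exists_moved (ih fun w k hk => h w k (by omega)) hcon
    exact hmv (h w _ le_rfl hw hw0)

theorem isB_walk {n : ℕ} {w : ℕ → Ω} (hw : D.Walk n w) (h0 : D.isB (w 0)) :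
    ∀ i, i ≤ n → (D.isB (w i) ↔ Even i) := by
  intro i
  induction i with
  | zero => exact fun _ => iff_of_true h0 Even.zero
  | succ i ih => intro hi; rw [D.isB_adj _ _ (hw i (by omega)), ih (by omega), Nat.even_add_one]

/-! ### The neighbours of a vertex -/

theorem exists_adj (v : Ω) : ∃ u, D.Adj v u := by
  obtain ⟨⟨u, hu⟩⟩ := (Nat.card_pos_iff.1 (by rw [D.valency v]; norm_num :
    0 < Nat.card {u // D.Adj v u})).1
  exact ⟨u, hu⟩

theorem exists_third {v a c : Ω} (ha : D.Adj v a) (hc : D.Adj v c) :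
    ∃ d, D.Adj v d ∧ d ≠ a ∧ d ≠ c := by
  by_contra hcon
  push Not at hcon
  have hcard : Set.ncard {w | D.Adj v w} = 3 := by
    rw [← Nat.card_coe_set_eq]; exact D.valency v
  have hsub : {w | D.Adj v w} ⊆ ({a, c} : Set Ω) := fun w hw => by
    by_cases h : w = a
    · exact Or.inl h
    · exact Or.inr (hcon w hw h)
  have h2 := Set.ncard_le_ncard hsub (Set.toFinite _)
  have h2' : Set.ncard ({a, c} : Set Ω) ≤ 2 :=
    (Set.ncard_insert_le _ _).trans (by simp)
  omega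

theorem exists_other {v a : Ω} (ha : D.Adj v a) : ∃ d, D.Adj v d ∧ d ≠ a := by
  obtain ⟨d, hd, hda, -⟩ := D.exists_third ha ha
  exact ⟨d, hd, hda⟩

theorem nbr_cases {v a c d u : Ω} (ha : D.Adj v a) (hc : D.Adj v c) (hd : D.Adj v d) (hac : a ≠ c)
    (had : a ≠ d) (hcd : c ≠ d) (hu : D.Adj v u) : u = a ∨ u = c ∨ u = d := by
  have hcard : Set.ncard {w | D.Adj v w} = 3 := by
    rw [← Nat.card_coe_set_eq]; exact D.valency v
  have hsub : ({a, c, d} : Set Ω) ⊆ {w | D.Adj v w} := by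
    rintro w (rfl | rfl | rfl)
    exacts [ha, hc, hd]
  have h3 : Set.ncard ({a, c, d} : Set Ω) = 3 := Set.ncard_eq_three.2 ⟨a, c, d, hac, had, hcd, rfl⟩
  have := Set.eq_of_subset_of_ncard_le hsub (by rw [hcard, h3])
    (Set.finite_of_ncard_pos (by rw [hcard]; norm_num))
  have hu' : u ∈ ({a, c, d} : Set Ω) := by rw [this]; exact hu
  simpa using hu'

theorem eq_third {v a c x y : Ω} (ha : D.Adj v a) (hc : D.Adj v c) (hac : a ≠ c) (hx : D.Adj v x)
    (hy : D.Adj v y) (hxa : x ≠ a) (hxc : x ≠ c) (hya : y ≠ a) (hyc : y ≠ c) : x = y := by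
  rcases D.nbr_cases ha hc hx hac hxa.symm hxc.symm hy with h | h | h
  exacts [absurd h hya, absurd h hyc, h.symm]

theorem smul_ne {g : X} {a c : Ω} (hga : g • a = a) (hne : c ≠ a) : g • c ≠ a := fun h =>
  hne (smul_left_cancel g (h.trans hga.symm))

theorem fix_two {v a c : Ω} {g : X} (hgv : g • v = v) (ha : D.Adj v a) (hc : D.Adj v c) (hac : a ≠ c)
    (hga : g • a = a) (hgc : g • c = c) : g ∈ D.Q v := by
  refine D.mem_Q.2 ⟨hgv, fun u hu => ?_⟩
  by_cases hua : u = a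
  · rw [hua, hga]
  by_cases huc : u = c
  · rw [huc, hgc]
  exact D.eq_third ha hc hac (D.adj_fix hgv hu) hu (smul_ne hga hua) (smul_ne hgc huc) hua huc

theorem moves_of_not_mem_Q {v a c : Ω} {t : X} (ha : D.Adj v a) (hc : D.Adj v c) (hac : a ≠ c)
    (htv : t • v = v) (hta : t • a = a) (htQ : t ∉ D.Q v) : t • c ≠ c := fun h =>
  htQ (D.fix_two htv ha hc hac hta h)

theorem finite_edge (D : CD X Ω) (u v : Ω) : Finite ↥(edgeGrp (X := X) u v) := by
  haveI := D.fin u
  exact Finite.of_injective _ (Subgroup.inclusion_injective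
    (inf_le_left : edgeGrp (X := X) u v ≤ stabilizer X u))

theorem finite_of_le (D : CD X Ω) {v : Ω} {K : Subgroup X} (h : K ≤ stabilizer X v) : Finite ↥K := by
  haveI := D.fin v
  exact Finite.of_injective _ (Subgroup.inclusion_injective h)

theorem finite_Q (v : Ω) : Finite ↥(D.Q v) := D.finite_of_le (D.Q_le_stab v)

theorem card_stab {u v : Ω} (h : D.Adj v u) :
    Nat.card ↥(stabilizer X v) = 3 * Nat.card ↥(edgeGrp (X := X) u v) := by
  have horb : MulAction.orbit ↥(stabilizer X v) u = {w | D.Adj v w} := by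
    ext w
    constructor
    · rintro ⟨⟨g, hg⟩, rfl⟩
      exact D.adj_fix (mem_stabilizer_iff.1 hg) h
    · intro hw
      obtain ⟨g, hg, hgu⟩ := D.trans v u w h hw
      exact ⟨⟨g, hg⟩, hgu⟩
  have h1 := Subgroup.card_eq_card_quotient_mul_card_subgroup
    (stabilizer ↥(stabilizer X v) u)
  have h2 : Nat.card (↥(stabilizer X v) ⧸ stabilizer ↥(stabilizer X v) u) = 3 := by
    rw [← Nat.card_congr (MulAction.orbitEquivQuotientStabilizer ↥(stabilizer X v) u), horb]
    exact D.valency v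
  have h3 : Nat.card ↥(stabilizer ↥(stabilizer X v) u) = Nat.card ↥(edgeGrp (X := X) u v) :=
    Nat.card_congr
      { toFun := fun g => ⟨g.1.1, mem_edge.2 ⟨g.2, g.1.2⟩⟩
        invFun := fun g => ⟨⟨g.1, (mem_edge.1 g.2).2⟩, (mem_edge.1 g.2).1⟩
        left_inv := fun _ => rfl
        right_inv := fun _ => rfl }
  rw [h1, h2, h3]

theorem stab_le_of {u v : Ω} (h : D.Adj v u) {L : Subgroup X} (hT : edgeGrp u v ≤ L) {g : X}
    (hgL : g ∈ L) (hgv : g • v = v) (hgu : g • u ≠ u) : stabilizer X v ≤ L := by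
  haveI := D.fin v
  haveI := D.finite_edge u v
  have hTL : edgeGrp u v ≤ L ⊓ stabilizer X v := le_inf hT inf_le_right
  have hfin : Finite ↥(L ⊓ stabilizer X v) := D.finite_of_le inf_le_right
  obtain ⟨m, hm⟩ := Subgroup.card_dvd_of_le hTL
  have hdvd := Subgroup.card_dvd_of_le (inf_le_right : L ⊓ stabilizer X v ≤ stabilizer X v)
  rw [hm, D.card_stab h, mul_comm 3] at hdvd
  have hmq : m ∣ 3 := Nat.dvd_of_mul_dvd_mul_left Nat.card_pos hdvd
  rcases (Nat.dvd_prime Nat.prime_three).1 hmq with rfl | rfl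
  · rw [mul_one] at hm
    have := Subgroup.eq_of_le_of_card_ge hTL hm.le
    have hg : g ∈ edgeGrp u v := this ▸ ⟨hgL, mem_stabilizer_iff.2 hgv⟩
    exact absurd (mem_edge.1 hg).1 hgu
  · have := Subgroup.eq_of_le_of_card_ge (inf_le_right : L ⊓ stabilizer X v ≤ stabilizer X v)
      (by rw [hm, D.card_stab h, mul_comm])
    rw [← this]
    exact inf_le_left

theorem vertex_cases {a c : Ω} (h : D.Adj a c) (v : Ω) : ∃ g : X, g • a = v ∨ g • c = v := by
  induction D.conn a v with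
  | refl => exact ⟨1, Or.inl (one_smul _ _)⟩
  | @tail w w' _ hww' ih =>
    obtain ⟨g, rfl | rfl⟩ := ih
    · obtain ⟨k, hk, hkc⟩ := D.trans a c (g⁻¹ • w') h (by
        simpa using D.adj_smul g⁻¹ _ _ hww')
      exact ⟨g * k, Or.inr (by rw [mul_smul, hkc, smul_inv_smul])⟩
    · obtain ⟨k, hk, hkc⟩ := D.trans c a (g⁻¹ • w') (D.symm h) (by
        simpa using D.adj_smul g⁻¹ _ _ hww')
      exact ⟨g * k, Or.inl (by rw [mul_smul, hkc, smul_inv_smul])⟩

theorem exists_smul_eq {c c' : Ω} (hc : D.isB c) (hc' : D.isB c') : ∃ g : X, g • c = c' := by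
  obtain ⟨a, ha⟩ := D.exists_adj c
  obtain ⟨g, rfl | rfl⟩ := D.vertex_cases (D.symm ha) c'
  · exact absurd ((D.isB_smul g a).1 hc') (D.not_isB ha hc)
  · exact ⟨g, rfl⟩

/-- Arcs starting in the same class are conjugate. -/
theorem exists_smul_arc {c a c' a' : Ω} (hc : D.isB c) (hc' : D.isB c') (ha : D.Adj c a)
    (ha' : D.Adj c' a') : ∃ g : X, g • c = c' ∧ g • a = a' := by
  obtain ⟨g, rfl⟩ := D.exists_smul_eq hc hc'
  obtain ⟨k, hk, hka⟩ := D.trans (g • c) (g • a) a' (D.adj_smul g _ _ ha) ha'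
  exact ⟨k * g, by rw [mul_smul, mem_stabilizer_iff.1 hk], by rw [mul_smul, hka]⟩

/-- The subgroup of the elements normalizing a subgroup. -/
def normK (K : Subgroup X) : Subgroup X where
  carrier := {g | (∀ x ∈ K, g * x * g⁻¹ ∈ K) ∧ ∀ x ∈ K, g⁻¹ * x * g ∈ K}
  one_mem' := by simp
  mul_mem' := fun {g k} hg hk => ⟨fun x hx => by
      have := hg.1 _ (hk.1 x hx)
      simpa [mul_assoc] using this, fun x hx => by
      have := hk.2 _ (hg.2 x hx)
      simpa [mul_assoc] using this⟩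
  inv_mem' := fun {g} hg => ⟨fun x hx => by simpa using hg.2 x hx,
    fun x hx => by simpa using hg.1 x hx⟩

omit [MulAction X Ω] in
theorem le_normK {K L : Subgroup X} (h : ∀ g ∈ L, ∀ x ∈ K, g * x * g⁻¹ ∈ K) : L ≤ normK K :=
  fun g hg => ⟨h g hg, fun x hx => by simpa using h g⁻¹ (L.inv_mem hg) x hx⟩

/-- A subgroup fixing an edge and normalized by both vertex groups is trivial. -/
theorem eq_bot_of_normalized {a c : Ω} (h : D.Adj a c) {K : Subgroup X}
    (hK : K ≤ edgeGrp a c) (haN : stabilizer X a ≤ normK K) (hcN : stabilizer X c ≤ normK K) :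
    K = ⊥ := by
  have hall : ∀ v, ∃ g ∈ normK K, g • a = v ∨ g • c = v := by
    intro v
    induction D.conn a v with
    | refl => exact ⟨1, one_mem _, Or.inl (one_smul _ _)⟩
    | @tail w w' _ hww' ih =>
      obtain ⟨g, hg, rfl | rfl⟩ := ih
      · obtain ⟨k, hk, hkc⟩ := D.trans a c (g⁻¹ • w') h (by
          simpa using D.adj_smul g⁻¹ _ _ hww')
        exact ⟨g * k, mul_mem hg (haN hk), Or.inr (by rw [mul_smul, hkc, smul_inv_smul])⟩
      · obtain ⟨k, hk, hkc⟩ := D.trans c a (g⁻¹ • w') (D.symm h) (by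
          simpa using D.adj_smul g⁻¹ _ _ hww')
        exact ⟨g * k, mul_mem hg (hcN hk), Or.inl (by rw [mul_smul, hkc, smul_inv_smul])⟩
  rw [Subgroup.eq_bot_iff_forall]
  intro x hx
  refine D.faithful x fun v => ?_
  obtain ⟨g, hg, rfl | rfl⟩ := hall v
  · have := (mem_edge.1 (hK (hg.2 x hx))).1
    rwa [mul_smul, mul_smul, inv_smul_eq_iff] at this
  · have := (mem_edge.1 (hK (hg.2 x hx))).2
    rwa [mul_smul, mul_smul, inv_smul_eq_iff] at this

/-! ### The kernels `Q` -/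

theorem card_Q_eq {u v : Ω} (h : D.Adj u v) : Nat.card ↥(D.Q u) = Nat.card ↥(D.Q v) := by
  have h1 := D.half u v h
  have h2 := D.half v u (D.symm h)
  rw [Data.edgeGrp_comm] at h2
  change Nat.card ↥(nbrKer X D.Adj u) = Nat.card ↥(nbrKer X D.Adj v)
  omega

theorem mul_mem_Q {u v : Ω} (h : D.Adj u v) {s t : X} (hs : s ∈ edgeGrp u v) (ht : t ∈ edgeGrp u v)
    (hsQ : s ∉ D.Q v) (htQ : t ∉ D.Q v) : s * t ∈ D.Q v := by
  haveI := D.finite_edge u v
  have hidx : ((D.Q v).subgroupOf (edgeGrp u v)).index = 2 := by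
    have h1 := Subgroup.card_eq_card_quotient_mul_card_subgroup ((D.Q v).subgroupOf (edgeGrp u v))
    rw [Nat.card_congr (Subgroup.subgroupOfEquivOfLe (D.Q_le_edge h)).toEquiv, D.half u v h] at h1
    haveI := D.finite_Q v
    exact (Nat.eq_of_mul_eq_mul_right Nat.card_pos h1).symm
  have := Subgroup.mul_mem_iff_of_index_two hidx (a := ⟨s, hs⟩) (b := ⟨t, ht⟩)
  simp only [Subgroup.mem_subgroupOf] at this
  exact this.2 ⟨fun hh => absurd hh hsQ, fun hh => absurd hh htQ⟩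

theorem inv_mul_mem_Q {u v : Ω} (h : D.Adj u v) {s t : X} (hs : s ∈ edgeGrp u v)
    (ht : t ∈ edgeGrp u v) (hsQ : s ∉ D.Q v) (htQ : t ∉ D.Q v) : s⁻¹ * t ∈ D.Q v :=
  D.mul_mem_Q h (Subgroup.inv_mem _ hs) ht (fun hh => hsQ (by simpa using Subgroup.inv_mem _ hh)) htQ

theorem exists_not_mem_Q {u v : Ω} (h : D.Adj u v) : ∃ t ∈ edgeGrp (X := X) u v, t ∉ D.Q v := by
  by_contra hcon
  push Not at hcon
  haveI := D.finite_Q v
  have heq : edgeGrp u v = D.Q v := le_antisymm hcon (D.Q_le_edge h)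
  have h2 := D.half u v h
  rw [heq] at h2
  have hpos : 0 < Nat.card ↥(D.Q v) := Nat.card_pos
  change Nat.card ↥(D.Q v) = 2 * Nat.card ↥(D.Q v) at h2
  omega

/-- A vertex group is transitive on the pairs of neighbours fixed with one of them. -/
theorem exists_swap {v a c d : Ω} (ha : D.Adj v a) (hc : D.Adj v c) (hd : D.Adj v d) (hca : c ≠ a)
    (hda : d ≠ a) : ∃ t ∈ edgeGrp (X := X) a v, t • c = d := by
  by_cases hcd : c = d
  · exact ⟨1, one_mem _, by rw [one_smul, hcd]⟩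
  obtain ⟨t, ht, htQ⟩ := D.exists_not_mem_Q (D.symm ha)
  obtain ⟨hta, htv⟩ := mem_edge.1 ht
  have htc := D.moves_of_not_mem_Q ha hc hca.symm htv hta htQ
  exact ⟨t, ht, D.eq_third ha hc hca.symm (D.adj_fix htv hc) hd (smul_ne hta hca) htc hda (Ne.symm hcd)⟩

theorem Q_ne_bot (v : Ω) : D.Q v ≠ ⊥ := by
  intro hbot
  obtain ⟨u, hu⟩ := D.exists_adj v
  obtain ⟨t, ht, htQ⟩ := D.exists_not_mem_Q (D.symm hu)
  exact htQ (D.char v t ht.2 fun x hx => by
    rw [show nbrKer X D.Adj v = ⊥ from hbot, Subgroup.mem_bot] at hx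
    simp [hx])

theorem Q_not_le {u v : Ω} (h : D.Adj u v) : ¬ D.Q u ≤ D.Q v := by
  intro hle
  haveI := D.finite_Q v
  have heq : D.Q u = D.Q v := Subgroup.eq_of_le_of_card_ge hle (D.card_Q_eq h).ge
  refine D.Q_ne_bot v (D.eq_bot_of_normalized h (D.Q_le_edge h) ?_ ?_)
  · refine le_normK fun g hg x hx => ?_
    rw [← heq] at hx ⊢
    exact D.conj_mem_Q_fix hg hx
  · exact le_normK fun g hg x hx => D.conj_mem_Q_fix hg hx

theorem exists_mem_Q_not {u v : Ω} (h : D.Adj u v) : ∃ q ∈ D.Q u, q ∉ D.Q v :=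
  SetLike.not_le_iff_exists.1 (D.Q_not_le h)

theorem two_pow_stab (D : CD X Ω) (v : Ω) : ∃ k, Nat.card ↥(stabilizer X v) = 2 ^ k * 3 := by
  haveI := Fact.mk Nat.prime_two
  obtain ⟨u, hu⟩ := D.exists_adj v
  haveI := D.finite_edge u v
  obtain ⟨k, hk⟩ := IsPGroup.iff_card.1 (D.twogroup u v (D.symm hu))
  exact ⟨k, by rw [D.card_stab hu, hk, mul_comm]⟩

/-- An element of order dividing `3` moving all neighbours in a normal subgroup not contained in the
kernel. -/
theorem exists_three {v : Ω} {N : Subgroup X} (hle : N ≤ stabilizer X v)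
    (hnorm : stabilizer X v ≤ normK N) {t a : _} (ht : t ∈ N) (ha : D.Adj v a) (hta : t • a = a)
    (htQ : t ∉ D.Q v) :
    ∃ d ∈ N, d • v = v ∧ d ^ 3 = 1 ∧ ∀ u, D.Adj v u → d • u ≠ u := by
  have htv : t • v = v := hle ht
  obtain ⟨c, hc, hca⟩ := D.exists_other ha
  obtain ⟨e, he, hea, hec⟩ := D.exists_third ha hc
  obtain ⟨g, hg, hge⟩ := D.exists_swap hc ha he hca.symm hec
  obtain ⟨hgc, hgv⟩ := mem_edge.1 hg
  have htc : t • c = e :=
    D.eq_third ha hc hca.symm (D.adj_fix htv hc) he (smul_ne hta hca)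
      (D.moves_of_not_mem_Q ha hc hca.symm htv hta htQ) hea hec
  have hte : t • e = c :=
    D.eq_third ha he hea.symm (D.adj_fix htv he) hc (smul_ne hta hea)
      (D.moves_of_not_mem_Q ha he hea.symm htv hta htQ) hca hec.symm
  have ht'e : (g * t * g⁻¹) • e = e := by rw [← hge]; exact Data.conj_smul_eq hta
  have hge' : g • e = a :=
    D.eq_third hc he hec.symm (D.adj_fix hgv he) ha (smul_ne hgc hec)
      (fun h => hea (smul_left_cancel g (h.trans hge.symm))) hca.symm hea.symm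
  have ht'c : (g * t * g⁻¹) • c = a := by
    rw [mul_smul, mul_smul, show g⁻¹ • c = c by rw [inv_smul_eq_iff, hgc], htc, hge']
  have ht'a : (g * t * g⁻¹) • a = c := by
    rw [mul_smul, mul_smul, show g⁻¹ • a = e by rw [inv_smul_eq_iff, hge'], hte, hgc]
  let s := t * (g * t * g⁻¹)
  have hsN : s ∈ N := N.mul_mem ht ((hnorm hgv).1 t ht)
  have hsa : s • a = e := by rw [mul_smul, ht'a, htc]
  have hsc : s • c = a := by rw [mul_smul, ht'c, hta]
  have hse : s • e = c := by rw [mul_smul, ht'e, hte]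
  have hpow : ∀ (k : ℕ) (u : Ω), D.Adj v u → (s ^ 2 ^ k) • u ≠ u := by
    intro k
    induction k with
    | zero =>
      intro u hu
      rw [pow_zero, pow_one]
      rcases D.nbr_cases ha hc he hca.symm hea.symm hec.symm hu with rfl | rfl | rfl
      · rw [hsa]; exact hea
      · rw [hsc]; exact hca.symm
      · rw [hse]; exact hec.symm
    | succ k ih =>
      intro u hu hfix
      have hv : (s ^ 2 ^ k) • v = v := hle (N.pow_mem hsN _)
      set h := s ^ 2 ^ k
      have h2 : h • h • u = u := by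
        rwa [pow_succ, pow_mul, pow_two, mul_smul] at hfix
      obtain ⟨w, hw, hwu, hwhu⟩ := D.exists_third hu (D.adj_fix hv hu)
      exact ih w hw (D.eq_third hu (D.adj_fix hv hu) (Ne.symm (ih u hu)) (D.adj_fix hv hw) hw
        (fun e => hwhu (smul_left_cancel h (e.trans h2.symm)))
        (fun e => hwu (smul_left_cancel h e)) hwu hwhu)
  obtain ⟨k, hk⟩ := D.two_pow_stab v
  refine ⟨s ^ 2 ^ k, N.pow_mem hsN _, hle (N.pow_mem hsN _), ?_, hpow k⟩
  rw [← pow_mul, ← hk]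
  exact congrArg Subtype.val (pow_card_eq_one' (x := (⟨s, hle hsN⟩ : ↥(stabilizer X v))))

end CD

end CfsgLib.LocalEven.AmalgamCentral
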