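import Cfsg.Agent.Lib.LocalEven.AmalgamCentral.Even

/-!
Products of the involutions of three vertices at distance two in different branches.
-/

set_option autoImplicit false

namespace CfsgLib.LocalEven.AmalgamCentral

open MulAction AmalgamZ

variable {X Ω : Type*} [Group X] [MulAction X Ω] {D : CD X Ω} (E : CZ D)

namespace CZ

/-- The product over three branches at `c`. -/
def IsSig (c : Ω) (S : X) : Prop :=
  ∃ a₁ a₂ a₃ d₁ d₂ d₃, D.Adj c a₁ ∧ D.Adj c a₂ ∧ D.Adj c a₃ ∧ a₁ ≠ a₂ ∧ a₁ ≠ a₃ ∧ a₂ ≠ a₃ ∧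
    D.Adj a₁ d₁ ∧ D.Adj a₂ d₂ ∧ D.Adj a₃ d₃ ∧ d₁ ≠ c ∧ d₂ ≠ c ∧ d₃ ≠ c ∧
    S = E.z d₁ * E.z d₂ * E.z d₃

theorem isB_two {c a d : Ω} (hc : D.isB c) (ha : D.Adj c a) (hd : D.Adj a d) : D.isB d :=
  D.isB_right hd (D.not_isB ha hc)

theorem comm_branches (h4 : 4 ≤ E.r) {c a a' d d' : Ω} (hc : D.isB c) (ha : D.Adj c a)
    (ha' : D.Adj c a') (hd : D.Adj a d) (hd' : D.Adj a' d') :
    E.z d * E.z d' = E.z d' * E.z d := by
  have hv : D.Walk 4 (CD.seq5 d a c a' d') := fun i hi => by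
    interval_cases i
    exacts [D.symm hd, D.symm ha, ha', hd']
  exact E.comm_walk (i := 0) (j := 4) hv (isB_two hc ha hd) (isB_two hc ha' hd') (by omega) le_rfl
    (by omega) (by omega)

theorem comm_center {c a d : Ω} (hc : D.isB c) (ha : D.Adj c a) (hd : D.Adj a d) :
    E.z c * E.z d = E.z d * E.z c :=
  E.comm_nbrs hc ha hd

theorem isSig_smul {c : Ω} (hc : D.isB c) {S : X} (h : E.IsSig c S) (g : X) :
    E.IsSig (g • c) (g * S * g⁻¹) := by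
  obtain ⟨a₁, a₂, a₃, d₁, d₂, d₃, h1, h2, h3, n12, n13, n23, e1, e2, e3, m1, m2, m3, rfl⟩ := h
  refine ⟨g • a₁, g • a₂, g • a₃, g • d₁, g • d₂, g • d₃, D.adj_smul g _ _ h1, D.adj_smul g _ _ h2,
    D.adj_smul g _ _ h3, by simpa using n12, by simpa using n13, by simpa using n23,
    D.adj_smul g _ _ e1, D.adj_smul g _ _ e2, D.adj_smul g _ _ e3, by simpa using m1,
    by simpa using m2, by simpa using m3, ?_⟩
  rw [← E.z_conj g _ (isB_two hc h1 e1), ← E.z_conj g _ (isB_two hc h2 e2),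
    ← E.z_conj g _ (isB_two hc h3 e3)]
  group

theorem isSig_unique (h4 : 4 ≤ E.r) {c : Ω} (hc : D.isB c) {S S' : X} (h : E.IsSig c S)
    (h' : E.IsSig c S') : S' = S ∨ S' = S * E.z c := by
  obtain ⟨a₁, a₂, a₃, d₁, d₂, d₃, h1, h2, h3, n12, n13, n23, e1, e2, e3, m1, m2, m3, rfl⟩ := h
  obtain ⟨b₁, b₂, b₃, f₁, f₂, f₃, g1, g2, g3, k12, k13, k23, l1, l2, l3, p1, p2, p3, rfl⟩ := h'
  have c12 := E.comm_branches h4 hc g1 g2 l1 l2
  have c13 := E.comm_branches h4 hc g1 g3 l1 l3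
  have c23 := E.comm_branches h4 hc g2 g3 l2 l3
  obtain ⟨q₁, q₂, q₃, r1, r2, r3, s1, s2, s3, hS⟩ : ∃ q₁ q₂ q₃, D.Adj a₁ q₁ ∧ D.Adj a₂ q₂ ∧
      D.Adj a₃ q₃ ∧ q₁ ≠ c ∧ q₂ ≠ c ∧ q₃ ≠ c ∧
        E.z f₁ * E.z f₂ * E.z f₃ = E.z q₁ * E.z q₂ * E.z q₃ := by
    have e132 : E.z f₁ * E.z f₂ * E.z f₃ = E.z f₁ * E.z f₃ * E.z f₂ := by
      rw [mul_assoc, c23, ← mul_assoc]
    have e213 : E.z f₁ * E.z f₂ * E.z f₃ = E.z f₂ * E.z f₁ * E.z f₃ := by rw [c12]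
    have e231 : E.z f₁ * E.z f₂ * E.z f₃ = E.z f₂ * E.z f₃ * E.z f₁ := by
      rw [c12, mul_assoc, c13, ← mul_assoc]
    have e312 : E.z f₁ * E.z f₂ * E.z f₃ = E.z f₃ * E.z f₁ * E.z f₂ := by
      rw [mul_assoc, c23, ← mul_assoc, c13]
    have e321 : E.z f₁ * E.z f₂ * E.z f₃ = E.z f₃ * E.z f₂ * E.z f₁ := by
      rw [c12, mul_assoc, c13, ← mul_assoc, c23]
    rcases D.nbr_cases g1 g2 g3 k12 k13 k23 h1 with x1 | x1 | x1 <;>
      rcases D.nbr_cases g1 g2 g3 k12 k13 k23 h2 with x2 | x2 | x2 <;>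
      rcases D.nbr_cases g1 g2 g3 k12 k13 k23 h3 with x3 | x3 | x3 <;>
      first
        | exact absurd (x1.trans x2.symm) n12
        | exact absurd (x1.trans x3.symm) n13
        | exact absurd (x2.trans x3.symm) n23
        | (subst x1 x2 x3
           first
            | exact ⟨f₁, f₂, f₃, l1, l2, l3, p1, p2, p3, rfl⟩
            | exact ⟨f₁, f₃, f₂, l1, l3, l2, p1, p3, p2, e132⟩
            | exact ⟨f₂, f₁, f₃, l2, l1, l3, p2, p1, p3, e213⟩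
            | exact ⟨f₂, f₃, f₁, l2, l3, l1, p2, p3, p1, e231⟩
            | exact ⟨f₃, f₁, f₂, l3, l1, l2, p3, p1, p2, e312⟩
            | exact ⟨f₃, f₂, f₁, l3, l2, l1, p3, p2, p1, e321⟩)
  rw [hS]
  have hz : E.z c * E.z c = 1 := E.z_sq c hc
  have hc1 := E.comm_center hc h1 e1
  have hc2 := E.comm_center hc h2 e2
  have hc3 := E.comm_center hc h3 e3
  rcases E.z_sib hc (D.symm h1) e1 r1 m1 s1 with u1 | u1 <;>
    rcases E.z_sib hc (D.symm h2) e2 r2 m2 s2 with u2 | u2 <;>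
    rcases E.z_sib hc (D.symm h3) e3 r3 m3 s3 with u3 | u3 <;> rw [u1, u2, u3]
  all_goals simp only [mul_assoc, true_or, or_true]
  · exact Or.inr (by rw [hc3])
  · exact Or.inl (by rw [← mul_assoc (E.z c), hc3, mul_assoc, hz, mul_one])
  · exact Or.inr (by rw [← mul_assoc (E.z c), hc2, mul_assoc, hc3])
  · exact Or.inl (by rw [← mul_assoc (E.z c), hc2, mul_assoc, ← mul_assoc (E.z c), hc3, mul_assoc,
      hz, mul_one])
  · exact Or.inl (by rw [← mul_assoc (E.z c), hc2, mul_assoc, ← mul_assoc (E.z c) (E.z c), hz,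
      one_mul])
  · exact Or.inr (by rw [← mul_assoc (E.z c), hc2, mul_assoc, ← mul_assoc (E.z c) (E.z c), hz,
      one_mul])

end CZ

end CfsgLib.LocalEven.AmalgamCentral
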