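import Cfsg.Agent.Lib.LocalEven.AmalgamCentral.Small
import Cfsg.Agent.Lib.LocalEven.AmalgamCentral.Sigma

/-!
The largest radius four: the vertex kernels have order at most 64.
-/

set_option autoImplicit false

namespace CfsgLib.LocalEven.AmalgamCentral

open MulAction AmalgamZ

variable {X Ω : Type*} [Group X] [MulAction X Ω] {D : CD X Ω} (E : CZ D)

namespace CZ

/-- The subgroup generated by the involutions at distance at most two. -/
def V (x : Ω) : Subgroup X := Subgroup.closure {g | ∃ e d, D.Adj x e ∧ D.Adj e d ∧ g = E.z d}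

/-- The commutator with the involution at the beginning of a path. -/
def cm (v : ℕ → Ω) (n : X) : X := n * E.z (v 0) * n⁻¹ * E.z (v 0)

/-- The commutator of the involutions at the ends of a path of length six. -/
def yv (v : ℕ → Ω) : X := E.z (v 6) * E.z (v 0) * E.z (v 6) * E.z (v 0)

/-- Membership in the subgroup attached to the middle of a path of length six. -/
def InF (v : ℕ → Ω) (n : X) : Prop := E.cm v n = 1 ∨ E.cm v n = E.yv v

theorem moved_four (hr : E.r = 4) {v : ℕ → Ω} (hv : D.NB 5 v) (hB : D.isB (v 0)) :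
    E.z (v 0) • v 5 ≠ v 5 := by
  have := (E.all_moved (by rw [hr]; decide) hr.ge (by rw [hr]; exact hv) hB).2.2
  rwa [hr] at this

theorem moves_at {v : ℕ → Ω} {u : Ω} (hr : E.r = 4) (hv : D.NB 4 v) (hB : D.isB (v 0))
    (hu : D.Adj (v 4) u) (hne : u ≠ v 3) : E.z (v 0) • u ≠ u := by
  have := E.moved_four hr (D.nb_snoc hu hv fun _ => hne) (by simpa [CD.snoc] using hB)
  simpa [CD.snoc] using this

variable {v v' : ℕ → Ω}

theorem six_isB (hv : D.NB 6 v) (hB : D.isB (v 0)) :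
    D.isB (v 2) ∧ D.isB (v 4) ∧ D.isB (v 6) :=
  ⟨(D.isB_walk hv.1 hB 2 (by omega)).2 (by decide), (D.isB_walk hv.1 hB 4 (by omega)).2 (by decide),
    (D.isB_walk hv.1 hB 6 le_rfl).2 (by decide)⟩

theorem six_fix (hr : E.r = 4) (hv : D.NB 6 v) (hB : D.isB (v 0)) :
    (∀ i, i ≤ 4 → E.z (v 0) • v i = v i) ∧ (∀ i, 2 ≤ i → i ≤ 6 → E.z (v 6) • v i = v i) :=
  ⟨fun i hi => E.z_fix_walk hv.1 hB (by omega) (by omega) (by omega) (by omega),
    fun i h2 hi => E.z_fix_walk hv.1 (six_isB hv hB).2.2 le_rfl hi (by omega) (by omega)⟩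

theorem six_moves (hr : E.r = 4) (hv : D.NB 6 v) (hB : D.isB (v 0)) :
    E.z (v 0) • v 5 ≠ v 5 ∧ E.z (v 6) • v 1 ≠ v 1 :=
  ⟨E.moved_four hr (hv.mono (by omega)) hB, by
    have := E.moved_four hr (hv.rev.mono (m := 5) (by omega)) (six_isB hv hB).2.2
    simpa using this⟩

theorem six_comm (hr : E.r = 4) (hv : D.NB 6 v) (hB : D.isB (v 0)) :
    E.z (v 6) * E.z (v 0) * E.z (v 6) * E.z (v 0) =
      E.z (v 0) * E.z (v 6) * E.z (v 0) * E.z (v 6) := by
  have hM : E.Moved v :=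
    E.all_moved (by rw [hr]; decide) hr.ge (hv.mono (by omega)) hB
  have := E.comm_ends (L := v) (by rw [hr]; decide) hr.ge (by rw [hr]; exact hv) hM
  rwa [hr] at this

theorem yv_sq (hr : E.r = 4) (hv : D.NB 6 v) (hB : D.isB (v 0)) : E.yv v * E.yv v = 1 := by
  unfold yv
  nth_rewrite 2 [E.six_comm hr hv hB]
  simp only [mul_assoc, E.z_sq _ hB, E.mul_left_z hB, E.mul_left_z (six_isB hv hB).2.2,
    E.z_sq _ (six_isB hv hB).2.2]

theorem z_mem_V {x e d : Ω} (h1 : D.Adj x e) (h2 : D.Adj e d) : E.z d ∈ E.V x :=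
  Subgroup.subset_closure ⟨e, d, h1, h2, rfl⟩

theorem V_le (hr : E.r = 4) {x : Ω} (hx : D.isB x) : E.V x ≤ D.ker 2 x := by
  rw [V, Subgroup.closure_le]
  rintro g ⟨e, d, h1, h2, rfl⟩
  have h := D.ker_antitone hr.ge d (E.z_mem d (isB_two hx h1 h2))
  exact (D.mem_ker_succ.1 ((D.mem_ker_succ.1 h).2 _ (D.symm h2))).2 _ (D.symm h1)

theorem V_comm {x : Ω} (hx : D.isB x) {n g : X} (hn : n ∈ D.ker 2 x) (hg : g ∈ E.V x) :
    n * g = g * n := by
  have hle : E.V x ≤ Subgroup.centralizer {n} := by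
    rw [V, Subgroup.closure_le]
    rintro g ⟨e, d, h1, h2, rfl⟩
    refine Subgroup.mem_centralizer_singleton_iff.2 ?_
    exact (E.comm_of_fix (isB_two hx h1 h2)
      ((D.mem_Q.1 ((D.mem_ker_two.1 hn).2 e h1)).2 d h2)).symm
  exact (Subgroup.mem_centralizer_singleton_iff.1 (hle hg)).symm

theorem yv_eq (hr : E.r = 4) (hv : D.NB 6 v) (hB : D.isB (v 0)) :
    E.yv v = E.z (v 6) * E.z (E.z (v 0) • v 6) := by
  rw [← E.conj_z hB (six_isB hv hB).2.2, yv]
  simp [mul_assoc]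

theorem yv_mem_V (hr : E.r = 4) (hv : D.NB 6 v) (hB : D.isB (v 0)) : E.yv v ∈ E.V (v 4) := by
  rw [E.yv_eq hr hv hB]
  have h5 : D.Adj (v 4) (v 5) := hv.1 4 (by omega)
  refine mul_mem (E.z_mem_V h5 (hv.1 5 (by omega))) (E.z_mem_V (D.adj_fix (g := E.z (v 0)) ?_ h5) ?_)
  · exact (E.six_fix hr hv hB).1 4 le_rfl
  · exact D.adj_smul _ _ _ (hv.1 5 (by omega))

theorem yv_ne_one (hr : E.r = 4) (hv : D.NB 6 v) (hB : D.isB (v 0)) : E.yv v ≠ 1 := by
  intro h
  obtain ⟨-, hB4, hB6⟩ := six_isB hv hB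
  refine (E.six_moves hr hv hB).1 (E.fix_of_comm₂ hB6 (D.symm (hv.1 5 (by omega)))
    (D.symm (hv.1 4 (by omega))) (hv.2 4 le_rfl).symm ((E.six_fix hr hv hB).1 4 le_rfl) ?_).1
  have e : E.z (v 6) * E.z (v 0) = (E.z (v 6) * E.z (v 0))⁻¹ :=
    eq_inv_of_mul_eq_one_left (by simpa [yv, mul_assoc] using h)
  rw [mul_inv_rev, E.z_inv hB, E.z_inv hB6] at e
  exact e.symm

theorem yv_ne_z (hr : E.r = 4) (hv : D.NB 6 v) (hB : D.isB (v 0)) : E.yv v ≠ E.z (v 4) := by
  intro h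
  obtain ⟨-, hB4, hB6⟩ := six_isB hv hB
  have h45 := hv.1 4 (by omega)
  have h56 := hv.1 5 (by omega)
  obtain ⟨d, hd, hd4, hd6⟩ := D.exists_third (D.symm h45) h56
  have ht4 := (E.six_fix hr hv hB).1 4 le_rfl
  rw [E.yv_eq hr hv hB] at h
  have e : E.z (E.z (v 0) • v 6) = E.z d := by
    rw [← E.z_triple hB6 h56 (D.symm h45) hd (hv.2 4 le_rfl) hd6.symm hd4.symm, ← h, E.mul_left_z hB6]
  exact E.ne_of_four ((D.isB_smul _ _).2 hB6) (D.symm (D.adj_smul _ _ _ h56))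
    (D.symm (D.adj_fix ht4 h45)) h45 hd (CD.smul_ne ht4 (hv.2 4 le_rfl)).symm
    (Ne.symm (E.six_moves hr hv hB).1) hd4 e

/-- The possible commutators. -/
theorem cm_cases (hr : E.r = 4) (hv : D.NB 6 v) (hB : D.isB (v 0)) {n : X}
    (hn : n ∈ D.ker 2 (v 4)) :
    E.cm v n = 1 ∨ E.cm v n = E.z (v 2) ∨ E.cm v n = E.yv v ∨ E.cm v n = E.yv v * E.z (v 2) := by
  obtain ⟨hB2, hB4, hB6⟩ := six_isB hv hB
  obtain ⟨ht, hu⟩ := E.six_fix hr hv hB
  have hn2 : n • v 2 = v 2 := D.ker_fix hv.1 hn (by omega) (by omega) (by omega) (by omega)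
  have hn3 : n • v 3 = v 3 := D.ker_fix hv.1 hn (by omega) (by omega) (by omega) (by omega)
  have h10 : D.Adj (v 1) (v 0) := D.symm (hv.1 0 (by omega))
  have h12 : D.Adj (v 1) (v 2) := hv.1 1 (by omega)
  have n02 : v 0 ≠ v 2 := (hv.2 0 (by omega)).symm
  have hc2 : E.z (v 2) * E.z (v 0) = E.z (v 0) * E.z (v 2) := E.comm_nbrs hB2 (D.symm h12) h10
  unfold cm
  rw [E.z_conj n _ hB]
  by_cases h1 : n • v 1 = v 1
  · rcases E.z_sib hB2 h12 h10 (D.adj_fix h1 h10) n02 (CD.smul_ne hn2 n02) with h | h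
    · exact Or.inl (by rw [h, E.z_sq _ hB])
    · exact Or.inr (Or.inl (by rw [h, mul_assoc, hc2, E.mul_left_z hB]))
  · have hu2 := hu 2 le_rfl (by omega)
    have hu3 := hu 3 (by omega) (by omega)
    have hne : v 1 ≠ v 3 := (hv.2 1 (by omega)).symm
    have e : n • v 1 = E.z (v 6) • v 1 :=
      D.eq_third (hv.1 2 (by omega)) (D.symm h12) hne.symm (D.adj_fix hn2 (D.symm h12))
        (D.adj_fix hu2 (D.symm h12)) (CD.smul_ne hn3 hne) h1 (CD.smul_ne hu3 hne)
        (E.six_moves hr hv hB).2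
    have ha : D.Adj (E.z (v 6) • v 1) (n • v 0) := e ▸ D.adj_smul n _ _ h10
    rcases E.z_sib hB2 (D.symm (D.adj_fix hu2 (D.symm h12))) (D.adj_smul (E.z (v 6)) _ _ h10) ha
      (CD.smul_ne hu2 n02) (CD.smul_ne hn2 n02) with h | h
    · exact Or.inr (Or.inr (Or.inl (by rw [h, ← E.conj_z hB6 hB, yv])))
    · refine Or.inr (Or.inr (Or.inr ?_))
      rw [h, ← E.conj_z hB6 hB, yv, mul_assoc _ (E.z (v 2)), hc2]
      simp [mul_assoc]

theorem cm_mem_V (hr : E.r = 4) (hv : D.NB 6 v) (hB : D.isB (v 0)) {n : X}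
    (hn : n ∈ D.ker 2 (v 4)) : E.cm v n ∈ E.V (v 4) := by
  have hy := E.yv_mem_V hr hv hB
  have h2 : E.z (v 2) ∈ E.V (v 4) :=
    E.z_mem_V (D.symm (hv.1 3 (by omega))) (D.symm (hv.1 2 (by omega)))
  rcases E.cm_cases hr hv hB hn with h | h | h | h <;> rw [h]
  exacts [one_mem _, h2, hy, mul_mem hy h2]

theorem cm_mul (hr : E.r = 4) (hv : D.NB 6 v) (hB : D.isB (v 0)) {n m : X}
    (hn : n ∈ D.ker 2 (v 4)) (hm : m ∈ D.ker 2 (v 4)) :
    E.cm v (n * m) = E.cm v m * E.cm v n := by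
  have e := E.V_comm (six_isB hv hB).2.1 hn (E.cm_mem_V hr hv hB hm)
  calc E.cm v (n * m) = n * E.cm v m * E.z (v 0) * n⁻¹ * E.z (v 0) := by
        unfold cm; simp only [mul_assoc, mul_inv_rev, E.mul_left_z hB]
    _ = E.cm v m * n * E.z (v 0) * n⁻¹ * E.z (v 0) := by rw [e]
    _ = E.cm v m * E.cm v n := by unfold cm; group

theorem cm_self (hr : E.r = 4) (hv : D.NB 6 v) (hB : D.isB (v 0)) {n : X}
    (hn : n ∈ D.ker 2 (v 4)) : E.cm v n * E.cm v n = 1 := by
  have hy2 := E.yv_sq hr hv hB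
  have hz := E.z_sq _ (six_isB hv hB).1
  rcases E.cm_cases hr hv hB hn with h | h | h | h <;> rw [h]
  · exact one_mul 1
  · exact hz
  · exact hy2
  · have e := E.V_comm (six_isB hv hB).2.1
      (E.V_le hr (six_isB hv hB).2.1 (E.z_mem_V (D.symm (hv.1 3 (by omega)))
        (D.symm (hv.1 2 (by omega))))) (E.yv_mem_V hr hv hB)
    rw [mul_assoc, ← mul_assoc (E.z (v 2)), e, mul_assoc (E.yv v), hz, mul_one, hy2]

theorem cm_inv_mul (hr : E.r = 4) (hv : D.NB 6 v) (hB : D.isB (v 0)) {a b : X}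
    (ha : a ∈ D.ker 2 (v 4)) (hb : b ∈ D.ker 2 (v 4)) (h : E.cm v a = E.cm v b) :
    E.cm v (a⁻¹ * b) = 1 := by
  have h1 := E.cm_mul hr hv hB ha (inv_mem ha)
  rw [mul_inv_cancel] at h1
  have h0 : E.cm v 1 = 1 := by simp [cm, E.z_sq _ hB]
  rw [h0] at h1
  have e : E.cm v a⁻¹ = E.cm v a := by
    rw [← mul_one (E.cm v a⁻¹), ← E.cm_self hr hv hB ha, ← mul_assoc, ← h1, one_mul]
  rw [E.cm_mul hr hv hB (inv_mem ha) hb, e, ← h, E.cm_self hr hv hB ha]

theorem cm_eq_one_fix (hr : E.r = 4) (hv : D.NB 6 v) (hB : D.isB (v 0)) {n : X}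
    (hn : n ∈ D.ker 2 (v 4)) (h : E.cm v n = 1) :
    n • v 0 = v 0 ∧ n • v 1 = v 1 := by
  have h' : n * E.z (v 0) = E.z (v 0) * n := by
    have := eq_inv_of_mul_eq_one_left h
    rw [E.z_inv hB] at this
    exact mul_inv_eq_iff_eq_mul.1 this
  have := E.fix_of_comm₂ hB (hv.1 0 (by omega)) (hv.1 1 (by omega)) (hv.2 0 (by omega))
    (D.ker_fix hv.1 (i := 4) hn (by omega) (by omega) (by omega) (by omega)) h'
  exact ⟨this.2, this.1⟩

theorem cm_smul (g n : X) (hB : D.isB (v 0)) :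
    E.cm (fun i => g • v i) (g * n * g⁻¹) = g * E.cm v n * g⁻¹ := by
  unfold cm
  rw [← E.z_conj g _ hB]
  group

theorem yv_smul (g : X) (hB : D.isB (v 0)) (hB6 : D.isB (v 6)) :
    E.yv (fun i => g • v i) = g * E.yv v * g⁻¹ := by
  unfold yv
  rw [← E.z_conj g _ hB, ← E.z_conj g _ hB6]
  group

theorem yv_rev (hr : E.r = 4) (hv : D.NB 6 v) (hB : D.isB (v 0)) :
    E.yv (fun i => v (6 - i)) = E.yv v := (E.six_comm hr hv hB).symm

theorem yv_congr_end (hr : E.r = 4) (hv : D.NB 6 v) (hv' : D.NB 6 v') (hB : D.isB (v 0))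
    (he : ∀ i, i ≤ 4 → v' i = v i) : E.yv v' = E.yv v := by
  obtain ⟨-, hB4, hB6⟩ := six_isB hv hB
  obtain ⟨ht, hu⟩ := E.six_fix hr hv hB
  have h0 := he 0 (by omega)
  have h3 := he 3 (by omega)
  have h4 := he 4 le_rfl
  have h45 : D.Adj (v 4) (v 5) := hv.1 4 (by omega)
  have h56 : D.Adj (v 5) (v 6) := hv.1 5 (by omega)
  have h45' : D.Adj (v 4) (v' 5) := h4 ▸ hv'.1 4 (by omega)
  have h56' : D.Adj (v' 5) (v' 6) := hv'.1 5 (by omega)
  have n53 : v 5 ≠ v 3 := hv.2 3 (by omega)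
  have n53' : v' 5 ≠ v 3 := h3 ▸ hv'.2 3 (by omega)
  have n64 : v 6 ≠ v 4 := hv.2 4 le_rfl
  have n64' : v' 6 ≠ v 4 := h4 ▸ hv'.2 4 le_rfl
  have key : ∀ b : X, b * E.z (v 4) = E.z (v 4) * b →
      b * E.z (v 4) * E.z (v 0) * (b * E.z (v 4)) * E.z (v 0) = b * E.z (v 0) * b * E.z (v 0) := by
    intro b hb
    have hc : E.z (v 4) * E.z (v 0) = E.z (v 0) * E.z (v 4) := (E.comm_of_fix hB4 (ht 4 le_rfl)).symm
    calc b * E.z (v 4) * E.z (v 0) * (b * E.z (v 4)) * E.z (v 0)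
        = b * ((E.z (v 4) * E.z (v 0)) * b * E.z (v 4)) * E.z (v 0) := by group
      _ = b * ((E.z (v 0) * E.z (v 4)) * b * E.z (v 4)) * E.z (v 0) := by rw [hc]
      _ = b * (E.z (v 0) * (E.z (v 4) * b) * E.z (v 4)) * E.z (v 0) := by group
      _ = b * (E.z (v 0) * (b * E.z (v 4)) * E.z (v 4)) * E.z (v 0) := by rw [hb]
      _ = b * (E.z (v 0) * b * (E.z (v 4) * E.z (v 4))) * E.z (v 0) := by group
      _ = _ := by rw [E.z_sq _ hB4, mul_one]; group
  show E.z (v' 6) * E.z (v' 0) * E.z (v' 6) * E.z (v' 0) =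
    E.z (v 6) * E.z (v 0) * E.z (v 6) * E.z (v 0)
  rw [h0]
  by_cases h5 : v' 5 = v 5
  · rcases E.z_sib hB4 (D.symm h45) h56 (h5 ▸ h56') n64 n64' with h | h <;> rw [h]
    exact key _ (E.comm_nbrs hB4 h45 h56).symm
  · have e : v' 5 = E.z (v 0) • v 5 :=
      D.eq_third (D.symm (hv.1 3 (by omega))) h45 n53.symm h45' (D.adj_fix (ht 4 le_rfl) h45) n53'
        h5 (CD.smul_ne (ht 3 (by omega)) n53) (E.six_moves hr hv hB).1
    have hu' : E.z (E.z (v 0) • v 6) * E.z (v 4) = E.z (v 4) * E.z (E.z (v 0) • v 6) :=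
      (E.comm_nbrs hB4 (D.adj_fix (ht 4 le_rfl) h45) (D.adj_smul _ _ _ h56)).symm
    have hmain : E.z (E.z (v 0) • v 6) * E.z (v 0) * E.z (E.z (v 0) • v 6) * E.z (v 0) =
        E.z (v 6) * E.z (v 0) * E.z (v 6) * E.z (v 0) := by
      rw [← E.conj_z hB hB6, E.six_comm hr hv hB]
      simp [mul_assoc, E.z_sq _ hB, E.mul_left_z hB]
    rcases E.z_sib hB4 (D.symm (D.adj_fix (ht 4 le_rfl) h45)) (D.adj_smul _ _ _ h56) (e ▸ h56')
      (CD.smul_ne (ht 4 le_rfl) n64) n64' with h | h <;> rw [h]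
    · exact hmain
    · rw [key _ hu', hmain]

theorem yv_congr (hr : E.r = 4) (hv : D.NB 6 v) (hv' : D.NB 6 v') (hB : D.isB (v 0))
    (h2 : v' 2 = v 2) (h3 : v' 3 = v 3) (h4 : v' 4 = v 4) : E.yv v' = E.yv v := by
  let m : ℕ → Ω := fun i => if i ≤ 4 then v i else v' i
  have hm : D.NB 6 m := by
    refine ⟨fun i hi => ?_, fun i hi => ?_⟩
    · interval_cases i <;> simp [m] <;> first
        | exact hv.1 _ (by omega)
        | exact h4 ▸ hv'.1 4 (by omega)
        | exact hv'.1 _ (by omega)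
    · have hi' : i ≤ 4 := by omega
      interval_cases i <;> simp [m] <;> first
        | exact hv.2 _ (by omega)
        | exact h3 ▸ hv'.2 3 (by omega)
        | exact h4 ▸ hv'.2 4 (by omega)
  have hB' : D.isB (v' 0) := by
    have hb := (six_isB hv hB).1
    rw [← h2] at hb
    have hA : ¬ D.isB (v' 1) := D.isB_left (hv'.1 1 (by omega)) hb
    exact D.isB_right (D.symm (hv'.1 0 (by omega))) hA
  have e1 : E.yv m = E.yv v :=
    E.yv_congr_end hr hv hm hB fun i hi => by simp [m, hi]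
  rw [← E.yv_rev hr hv' hB', ← e1, ← E.yv_rev hr hm (by simpa [m] using hB)]
  refine E.yv_congr_end hr hm.rev hv'.rev (by simpa [m] using (six_isB hv' hB').2.2) fun i hi => ?_
  interval_cases i <;> simp [m, h2, h3, h4]

/-- The commutator depends only on the middle of the path. -/
theorem cm_congr (hr : E.r = 4) (hv : D.NB 6 v) (hv' : D.NB 6 v') (hB : D.isB (v 0))
    (h2 : v' 2 = v 2) (h3 : v' 3 = v 3) {n : X} (hn : n ∈ D.ker 2 (v 4)) :
    E.cm v' n = E.cm v n := by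
  obtain ⟨hB2, hB4, hB6⟩ := six_isB hv hB
  obtain ⟨ht, hu⟩ := E.six_fix hr hv hB
  have hn2 : n • v 2 = v 2 := D.ker_fix hv.1 hn (by omega) (by omega) (by omega) (by omega)
  have hn6 : n • v 6 = v 6 := D.ker_fix hv.1 hn (by omega) (by omega) (by omega) (by omega)
  have hu2 := hu 2 le_rfl (by omega)
  have h10 : D.Adj (v 1) (v 0) := D.symm (hv.1 0 (by omega))
  have h12 : D.Adj (v 1) (v 2) := hv.1 1 (by omega)
  have h21' : D.Adj (v 2) (v' 1) := h2 ▸ D.symm (hv'.1 1 (by omega))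
  have h10' : D.Adj (v' 1) (v' 0) := D.symm (hv'.1 0 (by omega))
  have n02 : v 0 ≠ v 2 := (hv.2 0 (by omega)).symm
  have n02' : v' 0 ≠ v 2 := h2 ▸ (hv'.2 0 (by omega)).symm
  have key : ∀ a : X, a * E.z (v 2) = E.z (v 2) * a →
      n * (a * E.z (v 2)) * n⁻¹ * (a * E.z (v 2)) = n * a * n⁻¹ * a := by
    intro a ha
    have hn' : n * E.z (v 2) * n⁻¹ = E.z (v 2) :=
      mul_inv_eq_iff_eq_mul.2 (E.comm_of_fix hB2 hn2)
    calc n * (a * E.z (v 2)) * n⁻¹ * (a * E.z (v 2))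
        = n * a * n⁻¹ * ((n * E.z (v 2) * n⁻¹) * (a * E.z (v 2))) := by group
      _ = n * a * n⁻¹ * (E.z (v 2) * (E.z (v 2) * a)) := by rw [hn', ha]
      _ = n * a * n⁻¹ * a := by rw [E.mul_left_z hB2]
  show n * E.z (v' 0) * n⁻¹ * E.z (v' 0) = n * E.z (v 0) * n⁻¹ * E.z (v 0)
  by_cases h1 : v' 1 = v 1
  · rcases E.z_sib hB2 h12 h10 (h1 ▸ h10') n02 n02' with h | h <;> rw [h]
    exact key _ (E.comm_nbrs hB2 (D.symm h12) h10).symm
  · have hne : v 1 ≠ v 3 := (hv.2 1 (by omega)).symm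
    have hne' : v' 1 ≠ v 3 := h3 ▸ (hv'.2 1 (by omega)).symm
    have e : v' 1 = E.z (v 6) • v 1 :=
      D.eq_third (hv.1 2 (by omega)) (D.symm h12) hne.symm h21' (D.adj_fix hu2 (D.symm h12)) hne' h1
        (CD.smul_ne (hu 3 (by omega) (by omega)) hne) (E.six_moves hr hv hB).2
    have hadj := D.adj_smul (E.z (v 6)) _ _ h10
    have hmain : n * E.z (E.z (v 6) • v 0) * n⁻¹ * E.z (E.z (v 6) • v 0) =
        n * E.z (v 0) * n⁻¹ * E.z (v 0) := by
      rw [← E.z_conj _ _ hB]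
      have hnu : n * E.z (v 6) * n⁻¹ = E.z (v 6) :=
        mul_inv_eq_iff_eq_mul.2 (E.comm_of_fix hB6 hn6)
      have hc := E.V_comm hB4 (E.V_le hr hB4 (E.z_mem_V (hv.1 4 (by omega)) (hv.1 5 (by omega))))
        (E.cm_mem_V hr hv hB hn)
      calc n * (E.z (v 6) * E.z (v 0) * (E.z (v 6))⁻¹) * n⁻¹ *
            (E.z (v 6) * E.z (v 0) * (E.z (v 6))⁻¹)
          = (n * E.z (v 6) * n⁻¹) * (n * E.z (v 0) * n⁻¹) * (n * E.z (v 6) * n⁻¹)⁻¹ *
            (E.z (v 6) * E.z (v 0) * (E.z (v 6))⁻¹) := by group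
        _ = E.z (v 6) * E.cm v n * (E.z (v 6))⁻¹ := by rw [hnu, cm]; group
        _ = n * E.z (v 0) * n⁻¹ * E.z (v 0) := by rw [hc, mul_inv_cancel_right]; rfl
    rcases E.z_sib hB2 (D.symm (D.adj_fix hu2 (D.symm h12))) hadj (e ▸ h10')
      (CD.smul_ne hu2 n02) n02' with h | h <;> rw [h]
    · exact hmain
    · rw [key _ (E.comm_nbrs hB2 (D.adj_fix hu2 (D.symm h12)) hadj).symm, hmain]

theorem exists_six {p m q : Ω} (hp : D.isB p) (h1 : D.Adj p m) (h2 : D.Adj m q) (hne : q ≠ p) :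
    ∃ v : ℕ → Ω, D.NB 6 v ∧ D.isB (v 0) ∧ v 2 = p ∧ v 3 = m ∧ v 4 = q := by
  have h : D.NB 2 (CD.cons q (CD.cons m (fun _ => p))) :=
    D.nb_cons (by simpa [CD.cons] using D.symm h2)
      (D.nb_cons (D.symm h1) ⟨fun i hi => absurd hi (by omega), fun i hi => absurd hi (by omega)⟩
        (by omega)) (fun _ => by simpa [CD.cons] using hne.symm)
  obtain ⟨w, hw, hwe⟩ := D.exists_extend h one_le_two 4 (by omega)
  obtain ⟨v, hv, hve⟩ := D.exists_extend hw.rev (by omega) 6 (by omega)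
  have e2 : v 2 = p := by rw [hve 2 (by omega)]; simpa [CD.cons] using hwe 2 le_rfl
  have e3 : v 3 = m := by rw [hve 3 (by omega)]; simpa [CD.cons] using hwe 1 (by omega)
  have e4 : v 4 = q := by rw [hve 4 (by omega)]; simpa [CD.cons] using hwe 0 (by omega)
  have hA : ¬ D.isB (v 1) := D.isB_left (hv.1 1 (by omega)) (by rw [e2]; exact hp)
  exact ⟨v, hv, D.isB_right (D.symm (hv.1 0 (by omega))) hA, e2, e3, e4⟩

/-- The generated group of all involutions at distance four. -/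
def E4 (x : Ω) : Subgroup X :=
  Subgroup.closure {g | ∃ v : ℕ → Ω, D.NB 4 v ∧ v 4 = x ∧ g = E.z (v 0)}

theorem isB_start {x : Ω} (hx : D.isB x) (hv : D.NB 4 v) (he : v 4 = x) : D.isB (v 0) := by
  have h := hv.1.rev
  have := (D.isB_walk h (by simpa [he] using hx) 4 le_rfl).2 (by decide)
  simpa using this

theorem E4_le (hr : E.r = 4) {x : Ω} (hx : D.isB x) : E.E4 x ≤ stabilizer X x := by
  rw [E4, Subgroup.closure_le]
  rintro g ⟨v, hv, he, rfl⟩
  refine mem_stabilizer_iff.2 ?_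
  rw [← he]
  exact E.z_fix_walk hv.1 (isB_start hx hv he) (by omega) le_rfl (by omega) (by omega)

theorem E4_comm (hr : E.r = 4) {x : Ω} (hx : D.isB x) {g : X} (hg : g ∈ E.E4 x) :
    ∀ n ∈ D.ker 2 x, g * n * g⁻¹ * n⁻¹ ∈ E.V x := by
  rw [E4] at hg
  induction hg using Subgroup.closure_induction with
  | mem g hg =>
    obtain ⟨v, hv, he, rfl⟩ := hg
    intro n hn
    obtain ⟨w, hw, hwe⟩ := D.exists_extend hv (by omega) 6 (by omega)
    have e0 := hwe 0 (by omega)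
    have hB : D.isB (w 0) := e0 ▸ isB_start hx hv he
    have e4 : w 4 = x := (hwe 4 le_rfl).trans he
    have h := inv_mem (E.cm_mem_V hr hw hB (n := n) (by rwa [e4]))
    rw [e4, cm, e0] at h
    simpa [mul_assoc, E.z_inv (isB_start hx hv he)] using h
  | one => intro n _; simp
  | mul a b ha hb iha ihb =>
    intro n hn
    have hax : a • x = x := mem_stabilizer_iff.1 (E.E4_le hr hx ha)
    have hV : ∀ w ∈ E.V x, a * w * a⁻¹ ∈ E.V x := by
      have hle : E.V x ≤ (E.V x).comap (MulAut.conj a).toMonoidHom := by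
        rw [V, Subgroup.closure_le]
        rintro w ⟨e, d, h1, h2, rfl⟩
        exact Subgroup.subset_closure ⟨a • e, a • d, D.adj_fix hax h1, D.adj_smul a _ _ h2,
          E.z_conj a d (isB_two hx h1 h2)⟩
      exact fun w hw => hle hw
    have := mul_mem (hV _ (ihb n hn)) (iha n hn)
    simpa [mul_assoc] using this
  | inv a ha iha =>
    intro n hn
    have hax : a⁻¹ • x = x := mem_stabilizer_iff.1 (inv_mem (E.E4_le hr hx ha))
    have hm := D.conj_mem_ker_fix hax hn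
    rw [inv_inv] at hm
    have := inv_mem (iha _ hm)
    simpa [mul_assoc] using this

theorem stab_le_normK_E4 {x : Ω} (hx : D.isB x) : stabilizer X x ≤ CD.normK (E.E4 x) :=
  CD.le_normK fun g hg => by
    have hle : E.E4 x ≤ (E.E4 x).comap (MulAut.conj g).toMonoidHom := by
      rw [E4, Subgroup.closure_le]
      rintro w ⟨v, hv, he, rfl⟩
      exact Subgroup.subset_closure ⟨fun i => g • v i, hv.smul g,
        by simp only [he]; exact mem_stabilizer_iff.1 hg, E.z_conj g _ (isB_start hx hv he)⟩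
    exact fun w hw => hle hw

/-- An involution at distance four fixing one branch and swapping the other two. -/
theorem exists_branch_mover (hr : E.r = 4) {x b e : Ω} (hx : D.isB x) (hb : D.Adj x b)
    (he : D.Adj x e) (hbe : e ≠ b) :
    ∃ w : ℕ → Ω, D.NB 4 w ∧ D.isB (w 0) ∧ w 4 = x ∧ E.z (w 0) • b = b ∧ E.z (w 0) • e ≠ e := by
  obtain ⟨u, hu, hue⟩ := D.exists_extend (m := 1) (w := CD.cons x fun _ => b)
    ⟨fun i hi => by obtain rfl : i = 0 := by omega
                    simpa [CD.cons] using hb, fun i hi => by omega⟩ le_rfl 4 (by omega)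
  have e0 : u 0 = x := by simpa [CD.cons] using hue 0 (by omega)
  have e1 : u 1 = b := by simpa [CD.cons] using hue 1 le_rfl
  have hw := hu.rev
  have hB := isB_start hx hw (by simpa using e0)
  refine ⟨_, hw, hB, by simpa using e0, ?_, ?_⟩
  · rw [← e1]
    exact E.z_fix_walk (i := 4) (j := 1) hu.1 (by simpa using hB) le_rfl (by omega) (by omega)
      (by omega)
  · exact E.moves_at hr hw hB (by simpa [e0] using he) (by simpa [e1] using hbe)

theorem E4_trans (hr : E.r = 4) (hNE : D.NE) {x e e' d d' : Ω} (hx : D.isB x) (he : D.Adj x e)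
    (he' : D.Adj x e') (hd : D.Adj e d) (hd' : D.Adj e' d') (hdx : d ≠ x) (hdx' : d' ≠ x) :
    ∃ g ∈ E.E4 x, g • x = x ∧ g • e = e' ∧ g • d = d' := by
  have hle : ∀ g ∈ E.E4 x, g • x = x := fun g hg => mem_stabilizer_iff.1 (E.E4_le hr hx hg)
  have hb : ∀ a a', D.Adj x a → D.Adj x a' → ∃ g ∈ E.E4 x, g • a = a' := by
    intro a a' ha ha'
    by_cases h : a = a'
    · exact ⟨1, one_mem _, by rw [one_smul, h]⟩
    obtain ⟨b, hb, hba, hba'⟩ := D.exists_third ha ha'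
    obtain ⟨w, hw, -, hw4, hfix, hmv⟩ := E.exists_branch_mover hr hx hb ha hba.symm
    have hmem : E.z (w 0) ∈ E.E4 x := Subgroup.subset_closure ⟨w, hw, hw4, rfl⟩
    exact ⟨_, hmem, D.eq_third hb ha hba (D.adj_fix (hle _ hmem) ha) ha'
      (CD.smul_ne hfix hba.symm) hmv hba'.symm (Ne.symm h)⟩
  obtain ⟨b, hbx, hbe⟩ := D.exists_other he
  obtain ⟨w, hw, hwB, hw4, hwfix, hwmv⟩ := E.exists_branch_mover hr hx hbx he hbe.symm
  have ht : E.z (w 0) ∈ E.E4 x := Subgroup.subset_closure ⟨w, hw, hw4, rfl⟩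
  obtain ⟨f, hf, hfx, -, hfmv⟩ := D.exists_three (E.E4_le hr hx) (E.stab_le_normK_E4 hx) ht hbx hwfix
    (fun h => hwmv ((D.mem_Q.1 h).2 e he))
  obtain ⟨q, hq, hqe⟩ := D.exists_mem_H_not hNE hx hbx he hbe
  let g0 := q * f * q⁻¹ * f⁻¹
  have hg0 : g0 ∈ E.E4 x :=
    mul_mem (((E.stab_le_normK_E4 hx) (mem_stabilizer_iff.2 (D.mem_Q.1 hq.2).1)).1 f hf) (inv_mem hf)
  have hfq : f * q⁻¹ * f⁻¹ ∈ D.Q x := D.conj_mem_Q_fix hfx (inv_mem hq.2)
  have hg0Q : g0 ∈ D.Q x := by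
    have := mul_mem hq.2 hfq
    simpa [g0, mul_assoc] using this
  obtain ⟨a, ha, hga⟩ : ∃ a, D.Adj x a ∧ g0 ∉ D.Q a := by
    by_cases hfb : f • b = e
    · refine ⟨e, he, fun h => hqe ?_⟩
      have h1 : f * q⁻¹ * f⁻¹ ∈ D.Q e := hfb ▸ D.conj_mem_Q (g := f) (inv_mem hq.1)
      have := mul_mem h (inv_mem h1)
      simpa [g0, mul_assoc] using this
    · have hfe : f • e = b := D.eq_third he (D.adj_fix hfx hbx) (Ne.symm hfb) (D.adj_fix hfx he) hbx
        (hfmv e he) (fun h => hbe (smul_left_cancel f h).symm) hbe (Ne.symm (hfmv b hbx))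
      refine ⟨b, hbx, fun h => hqe ?_⟩
      have h1 : f * q⁻¹ * f⁻¹ ∈ D.Q b := by
        have := (D.Q b).mul_mem ((D.Q b).inv_mem hq.1) h
        simpa [g0, mul_assoc] using this
      have h2 := D.conj_mem_Q (g := f⁻¹) h1
      rw [← hfe, inv_smul_smul] at h2
      simpa [mul_assoc] using inv_mem h2
  obtain ⟨g1, hg1, hg1e⟩ := hb e e' he he'
  by_cases hsame : g1 • d = d'
  · exact ⟨g1, hg1, hle _ hg1, hg1e, hsame⟩
  obtain ⟨k, hk, hka⟩ := hb a e' ha he'
  have hkx := hle _ hk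
  have hh : k * g0 * k⁻¹ ∈ D.Q x := D.conj_mem_Q_fix hkx hg0Q
  have hhe : (k * g0 * k⁻¹) • e' = e' := (D.mem_Q.1 hh).2 e' he'
  have hhx : (k * g0 * k⁻¹) • x = x := (D.mem_Q.1 hh).1
  have hhQ : k * g0 * k⁻¹ ∉ D.Q e' := fun h => hga (by
    have := D.conj_mem_Q (g := k⁻¹) h
    rw [← hka, inv_smul_smul] at this
    simpa [mul_assoc] using this)
  have hd1 : D.Adj e' (g1 • d) := hg1e ▸ D.adj_smul g1 _ _ hd
  have hd1x : g1 • d ≠ x := CD.smul_ne (hle _ hg1) hdx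
  refine ⟨k * g0 * k⁻¹ * g1, mul_mem (mul_mem (mul_mem hk hg0) (inv_mem hk)) hg1, ?_, ?_, ?_⟩
  · rw [mul_smul, hle _ hg1, hhx]
  · rw [mul_smul, hg1e, hhe]
  · rw [mul_smul]
    exact D.eq_third (D.symm he') hd1 hd1x.symm (D.adj_fix hhe hd1) hd' (CD.smul_ne hhx hd1x)
      (D.moves_of_not_mem_Q (D.symm he') hd1 hd1x.symm hhe hhx hhQ) hdx' (Ne.symm hsame)

theorem inF_mul (hr : E.r = 4) (hv : D.NB 6 v) (hB : D.isB (v 0)) {n m : X}
    (hn : n ∈ D.ker 2 (v 4)) (hm : m ∈ D.ker 2 (v 4)) (h1 : E.InF v n) (h2 : E.InF v m) :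
    E.InF v (n * m) := by
  have hy := E.yv_sq hr hv hB
  unfold InF at h1 h2 ⊢
  rw [E.cm_mul hr hv hB hn hm]
  rcases h1 with h1 | h1 <;> rcases h2 with h2 | h2 <;> rw [h1, h2]
  exacts [Or.inl (one_mul 1), Or.inr (mul_one _), Or.inr (one_mul _), Or.inl hy]

theorem V_inF (hr : E.r = 4) (hv : D.NB 6 v) (hB : D.isB (v 0)) {g : X} (hg : g ∈ E.V (v 4)) :
    E.InF v g := by
  have hB4 := (six_isB hv hB).2.1
  rw [V] at hg
  induction hg using Subgroup.closure_induction with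
  | mem g hg =>
    obtain ⟨e, d, he, hed, rfl⟩ := hg
    have hBd := isB_two hB4 he hed
    have hfixed : E.z d • v 0 = v 0 → E.InF v (E.z d) := fun h => by
      left
      rw [cm, E.comm_of_fix hB h, mul_inv_cancel_right, E.z_sq _ hB]
    by_cases h3 : e = v 3
    · subst h3
      have hw : D.Walk 4 (CD.cons d (fun i => v (3 - i))) :=
        D.walk_cons (by simpa using D.symm hed) ((hv.mono (m := 3) (by omega)).1.rev)
      have := E.z_fix_walk (i := 0) (j := 4) hw (by simpa [CD.cons] using hBd) (by omega) le_rfl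
        (by omega) (by omega)
      exact hfixed (by simpa [CD.cons] using this)
    by_cases h4 : d = v 4
    · subst h4
      exact hfixed (E.z_fix_walk hv.1 hBd (by omega) (by omega) (by omega) (by omega))
    · let v' := CD.snoc 5 (CD.snoc 4 v e) d
      have hv' : D.NB 6 v' := D.nb_snoc (by simpa [CD.snoc] using hed)
        (D.nb_snoc he (hv.mono (m := 4) (by omega)) fun _ => h3)
        fun _ => by simpa [CD.snoc] using h4
      have e0 : v' 0 = v 0 := by simp [v', CD.snoc]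
      have e6 : v' 6 = d := by simp [v', CD.snoc]
      right
      rw [← E.yv_congr hr hv hv' hB (by simp [v', CD.snoc]) (by simp [v', CD.snoc])
        (by simp [v', CD.snoc]), cm, yv, e0, e6, E.z_inv hBd]
  | one => left; simp [cm, E.z_sq _ hB]
  | mul a b ha hb iha ihb => exact E.inF_mul hr hv hB (E.V_le hr hB4 ha) (E.V_le hr hB4 hb) iha ihb
  | inv a ha iha =>
    have ha' := E.V_le hr hB4 ha
    have h := E.cm_mul hr hv hB ha' (inv_mem ha')
    rw [mul_inv_cancel] at h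
    have h1 : E.cm v 1 = 1 := by simp [cm, E.z_sq _ hB]
    rw [h1] at h
    rcases iha with h' | h'
    · exact Or.inl (by rw [h', mul_one] at h; exact h.symm)
    · refine Or.inr ?_
      rw [h'] at h
      rw [eq_inv_of_mul_eq_one_left h.symm]
      exact inv_eq_of_mul_eq_one_right (E.yv_sq hr hv hB)

theorem inF_all (hr : E.r = 4) (hNE : D.NE) (hv : D.NB 6 v) (hv' : D.NB 6 v') (hB : D.isB (v 0))
    (h4 : v' 4 = v 4) {n : X} (hn : n ∈ D.ker 2 (v 4)) (h : E.InF v n) : E.InF v' n := by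
  have hB4 := (six_isB hv hB).2.1
  have h43 : D.Adj (v 4) (v 3) := D.symm (hv.1 3 (by omega))
  have h43' : D.Adj (v 4) (v' 3) := h4 ▸ D.symm (hv'.1 3 (by omega))
  obtain ⟨g, hg, hgx, hge, hgd⟩ := E.E4_trans hr hNE hB4 h43 h43' (D.symm (hv.1 2 (by omega)))
    (D.symm (hv'.1 2 (by omega))) (hv.2 2 (by omega)).symm (h4 ▸ (hv'.2 2 (by omega)).symm)
  have hw : D.NB 6 (fun i => g • v i) := hv.smul g
  have hBw : D.isB (g • v 0) := (D.isB_smul _ _).2 hB
  have hVw := E.V_inF hr hw hBw (g := g * n * g⁻¹ * n⁻¹)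
    (by rw [hgx]; exact E.E4_comm hr hB4 hg n hn)
  have h1 : E.InF (fun i => g • v i) (g * n * g⁻¹) := by
    unfold InF
    rw [E.cm_smul g n hB, E.yv_smul g hB (six_isB hv hB).2.2]
    rcases h with h | h <;> rw [h]
    · left; group
    · right; rfl
  have hn1 : g * n * g⁻¹ ∈ D.ker 2 (v 4) := D.conj_mem_ker_fix hgx hn
  have hW : g * n * g⁻¹ * n⁻¹ ∈ D.ker 2 (v 4) := mul_mem hn1 (inv_mem hn)
  have hW' : E.InF (fun i => g • v i) (g * n * g⁻¹ * n⁻¹)⁻¹ :=
    E.V_inF hr hw hBw (by rw [hgx]; exact inv_mem (E.E4_comm hr hB4 hg n hn))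
  have h2 := E.inF_mul hr hw hBw (by rw [hgx]; exact inv_mem hW) (by rw [hgx]; exact hn1) hW' h1
  rw [show (g * n * g⁻¹ * n⁻¹)⁻¹ * (g * n * g⁻¹) = n by group] at h2
  unfold InF at h2 ⊢
  rwa [E.cm_congr hr hw hv' hBw hgd.symm hge.symm (by rw [hgx]; exact hn),
    E.yv_congr hr hw hv' hBw hgd.symm hge.symm (by rw [h4, hgx])]

theorem cm_eq_one_ker (hr : E.r = 4) (hv : D.NB 6 v) (hB : D.isB (v 0)) {n : X}
    (hn : n ∈ D.ker 2 (v 4)) (h : E.cm v n = 1) : n ∈ D.ker 2 (v 2) := by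
  obtain ⟨-, hu⟩ := E.six_fix hr hv hB
  have hn2 : n • v 2 = v 2 := D.ker_fix hv.1 hn (by omega) (by omega) (by omega) (by omega)
  obtain ⟨hn0, hn1⟩ := E.cm_eq_one_fix hr hv hB hn h
  have h12 : D.Adj (v 1) (v 2) := hv.1 1 (by omega)
  have h23 : D.Adj (v 2) (v 3) := hv.1 2 (by omega)
  have h10 : D.Adj (v 1) (v 0) := D.symm (hv.1 0 (by omega))
  have n02 : v 0 ≠ v 2 := (hv.2 0 (by omega)).symm
  refine D.mem_ker_two.2 ⟨hn2, fun a ha => ?_⟩
  by_cases h3 : a = v 3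
  · rw [h3]; exact (D.mem_ker_two.1 hn).2 _ (D.symm (hv.1 3 (by omega)))
  by_cases h1 : a = v 1
  · rw [h1]; exact D.fix_two hn1 h10 h12 n02 hn0 hn2
  have hu2 := hu 2 le_rfl (by omega)
  have hne : v 1 ≠ v 3 := (hv.2 1 (by omega)).symm
  have e : a = E.z (v 6) • v 1 :=
    D.eq_third h23 (D.symm h12) hne.symm ha (D.adj_fix hu2 (D.symm h12)) h3 h1
      (CD.smul_ne (hu 3 (by omega) (by omega)) hne) (E.six_moves hr hv hB).2
  let v' : ℕ → Ω := fun i => if i ≤ 1 then E.z (v 6) • v i else v i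
  have hv' : D.NB 6 v' := (hv.smul (E.z (v 6))).congr fun i hi => by
    by_cases h : i ≤ 1
    · simp [v', h]
    · simp only [v', h, if_false]; exact (hu i (by omega) hi).symm
  have hc := E.cm_congr hr hv hv' hB (by simp [v']) (by simp [v']) hn
  obtain ⟨hn0', hn1'⟩ := E.cm_eq_one_fix hr hv' (by simpa [v'] using (D.isB_smul _ _).2 hB)
    (by simpa [v'] using hn) (hc.trans h)
  simp only [v', zero_le_one, le_refl, if_true] at hn0' hn1'
  rw [e]
  exact D.fix_two hn1' (D.adj_smul _ _ _ h10) (D.symm (D.adj_fix hu2 (D.symm h12)))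
    (CD.smul_ne hu2 n02) hn0' hn2

theorem yv_ne_of_middle (hr : E.r = 4) (hv : D.NB 6 v) (hv' : D.NB 6 v') (hB : D.isB (v 0))
    (h2 : v' 2 = v 2) (h3 : v' 3 = v 3) (h4 : v' 4 ≠ v 4) : E.yv v' ≠ E.yv v := by
  intro hy
  obtain ⟨hB2, hB4, hB6⟩ := six_isB hv hB
  have hB0' : D.isB (v' 0) := by
    have hA : ¬ D.isB (v' 1) := D.isB_left (hv'.1 1 (by omega)) (h2 ▸ hB2)
    exact D.isB_right (D.symm (hv'.1 0 (by omega))) hA
  have hB6' : D.isB (v' 6) := (six_isB hv' hB0').2.2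
  set m := v 3
  have hms : D.Adj m (v 2) := D.symm (hv.1 2 (by omega))
  have hmp : D.Adj m (v 4) := hv.1 3 (by omega)
  have hmq : D.Adj m (v' 4) := h3 ▸ hv'.1 3 (by omega)
  have nsp : v 2 ≠ v 4 := (hv.2 2 (by omega)).symm
  have nsq : v 2 ≠ v' 4 := h2 ▸ (hv'.2 2 (by omega)).symm
  obtain ⟨g, hg, hgs⟩ := D.exists_swap hmp hms hmq nsp h4
  obtain ⟨hgp, hgm⟩ := CD.mem_edge.1 hg
  have hgq : g • v' 4 = v 2 := D.eq_third hmp hmq h4.symm (D.adj_fix hgm hmq) hms
    (CD.smul_ne hgp h4) (fun e => nsq (smul_left_cancel g (hgs.trans e.symm))) nsp nsq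
  have hrev : E.yv (fun i => g • v' i) = E.yv v' := by
    have hv'' := hv'.smul g
    have hB'' : D.isB (g • v' 0) := (D.isB_smul _ _).2 hB0'
    rw [← E.yv_rev hr hv'' hB'']
    exact E.yv_congr hr hv' hv''.rev hB0' (by simp [h2, hgq]) (by simp [h3, hgm])
      (by simp [h2, hgs])
  have hpq : E.yv (fun i => g • v i) = E.yv v := by
    rw [E.yv_smul g hB hB6, ← hy, ← E.yv_smul g hB0' hB6', hrev]
  have hall : ∀ k : X, k • m = m → k * E.yv v * k⁻¹ = E.yv v := by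
    intro k hk
    rw [← E.yv_smul k hB hB6]
    have hw : D.NB 6 (fun i => k • v i) := hv.smul k
    have hBw : D.isB (k • v 0) := (D.isB_smul _ _).2 hB
    have cands : ∀ (u : ℕ → Ω), D.NB 6 u → D.isB (u 0) → u 3 = m → k • v 2 = u 2 → k • v 4 = u 4 →
        E.yv u = E.yv v → E.yv (fun i => k • v i) = E.yv v := fun u hu hBu e3 e2 e4 hyu => by
      rw [← hyu]; exact E.yv_congr hr hu hw hBu e2 (by rw [e3]; exact hk) e4
    have cands' : ∀ (u : ℕ → Ω), D.NB 6 u → D.isB (u 0) → u 3 = m → k • v 2 = u 4 → k • v 4 = u 2 →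
        E.yv u = E.yv v → E.yv (fun i => k • v i) = E.yv v := fun u hu hBu e3 e2 e4 hyu =>
      cands _ hu.rev (by simpa using (six_isB hu hBu).2.2) (by simpa using e3) (by simpa using e2)
        (by simpa using e4) ((E.yv_rev hr hu hBu).trans hyu)
    have hg3 : g • v 3 = m := hgm
    have hne : k • v 2 ≠ k • v 4 := fun e => nsp (smul_left_cancel k e)
    rcases D.nbr_cases hms hmp hmq nsp nsq h4.symm (D.adj_fix hk hms) with e | e | e <;>
      rcases D.nbr_cases hms hmp hmq nsp nsq h4.symm (D.adj_fix hk hmp) with f | f | f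
    · exact absurd (e.trans f.symm) hne
    · exact cands v hv hB rfl e f rfl
    · exact cands v' hv' hB0' h3 (e.trans h2.symm) f hy
    · exact cands' v hv hB rfl e f rfl
    · exact absurd (e.trans f.symm) hne
    · exact cands' _ (hv.smul g) ((D.isB_smul _ _).2 hB) hg3 (e.trans hgp.symm)
        (f.trans hgs.symm) hpq
    · exact cands' v' hv' hB0' h3 e (f.trans h2.symm) hy
    · exact cands _ (hv.smul g) ((D.isB_smul _ _).2 hB) hg3 (e.trans hgs.symm)
        (f.trans hgp.symm) hpq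
    · exact absurd (e.trans f.symm) hne
  have hyV := E.V_le hr hB4 (E.yv_mem_V hr hv hB)
  have hedge : E.yv v ∈ edgeGrp (X := X) m (v 4) :=
    CD.mem_edge.2 ⟨(D.mem_Q.1 ((D.mem_ker_two.1 hyV).2 m (D.symm hmp))).1, D.ker_fix_self hyV⟩
  have hcomm : ∀ k : X, k • m = m → k * E.yv v = E.yv v * k := fun k hk =>
    mul_inv_eq_iff_eq_mul.1 (hall k hk)
  have hp := D.central m (v 4) hmp hB4 _ hedge (E.yv_sq hr hv hB)
    fun t ht => hcomm t (CD.mem_edge.1 ht).1
  have hle : ∀ k : X, k * E.yv v = E.yv v * k → k ∈ CD.normK (Subgroup.zpowers (E.yv v)) := by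
    intro k hk
    refine ⟨fun x hx => ?_, fun x hx => ?_⟩ <;> obtain ⟨i, rfl⟩ := hx
    · rw [(Commute.zpow_right hk i).eq, mul_inv_cancel_right]; exact ⟨i, rfl⟩
    · rw [mul_assoc, ← (Commute.zpow_right hk i).eq, inv_mul_cancel_left]; exact ⟨i, rfl⟩
  have hbot := D.eq_bot_of_normalized hmp (Subgroup.zpowers_le.2 hedge)
    (fun k hk => hle k (hcomm k (mem_stabilizer_iff.1 hk))) (fun k hk => hle k (hp k hk))
  exact E.yv_ne_one hr hv hB (Subgroup.zpowers_eq_bot.1 hbot)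

/-- Two radius-two kernels around a vertex lie in the third. -/
theorem ker_two_inf_le (hr : E.r = 4) (hNE : D.NE) {m p q s : Ω} (hp : D.isB p) (hmp : D.Adj m p)
    (hmq : D.Adj m q) (hms : D.Adj m s) (npq : p ≠ q) (nps : p ≠ s) (nqs : q ≠ s) {n : X}
    (hnp : n ∈ D.ker 2 p) (hnq : n ∈ D.ker 2 q) : n ∈ D.ker 2 s := by
  have hmA : ¬ D.isB m := D.isB_left hmp hp
  have hs : D.isB s := D.isB_right hms hmA
  have hq : D.isB q := D.isB_right hmq hmA
  have hnm : n ∈ D.Q m := (D.mem_ker_two.1 hnp).2 m (D.symm hmp)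
  obtain ⟨w, hw, hBw, w2, w3, w4⟩ := exists_six hq (D.symm hmq) hmp npq
  obtain ⟨α, hα, hBα, a2, a3, a4⟩ := exists_six hs (D.symm hms) hmp nps
  obtain ⟨β, hβ, hBβ, b2, b3, b4⟩ := exists_six hs (D.symm hms) hmq nqs
  have hwr := hw.rev
  have hone : ∀ (u : ℕ → Ω), D.isB (u 0) → n • u 0 = u 0 → E.cm u n = 1 := fun u hu h => by
    rw [cm, E.comm_of_fix hu h, mul_inv_cancel_right, E.z_sq _ hu]
  have hp0 : n • w 0 = w 0 :=
    D.ker_fix hw.1 (i := 2) (by rwa [w2]) (by omega) (by omega) (by omega) (by omega)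
  have hq0 : n • w 6 = w 6 :=
    D.ker_fix hw.1 (i := 4) (by rwa [w4]) (by omega) (by omega) (by omega) (by omega)
  have hFp : E.InF α n :=
    E.inF_all hr hNE hw hα hBw (a4.trans w4.symm) (by rwa [w4]) (Or.inl (hone w hBw hp0))
  have hFq : E.InF β n :=
    E.inF_all hr hNE hwr hβ (six_isB hw hBw).2.2 (b4.trans w2.symm) (by simpa [w2] using hnq)
      (Or.inl (hone _ (six_isB hw hBw).2.2 (by simpa using hq0)))
  have hsame : E.cm β n = E.cm α n :=
    E.cm_congr hr hα hβ hBα (b2.trans a2.symm) (b3.trans a3.symm) (by rwa [a4])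
  have hone' : E.cm α n = 1 := by
    rcases hFp with h | h
    · exact h
    rcases hFq with h' | h'
    · exact hsame ▸ h'
    · exact absurd ((h'.symm.trans hsame).trans h) (E.yv_ne_of_middle hr hα hβ hBα
        (b2.trans a2.symm) (b3.trans a3.symm) (by rw [a4, b4]; exact npq.symm))
  have := E.cm_eq_one_ker hr hα hBα (n := n) (by rwa [a4]) hone'
  rwa [a2] at this

theorem mem_ker_four {x : Ω} {n : X} (hn : n ∈ D.ker 2 x)
    (h : ∀ e d, D.Adj x e → D.Adj e d → n ∈ D.ker 2 d) : n ∈ D.ker 4 x :=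
  D.mem_ker_succ.2 ⟨D.ker_fix_self hn, fun e he => D.mem_ker_succ.2
    ⟨(D.mem_Q.1 ((D.mem_ker_two.1 hn).2 e he)).1, fun d hd => h e d he hd⟩⟩

theorem card_Q_le_of_r_four (hr : E.r = 4) {x : Ω} (hx : D.isB x) : Nat.card ↥(D.Q x) ≤ 64 := by
  classical
  have hev : Even E.r := by rw [hr]; decide
  have hNE := E.even_NE hev hr.ge
  obtain ⟨m, hm⟩ := D.exists_adj x
  obtain ⟨p, hp, hpx⟩ := D.exists_other (D.symm hm)
  have hBp : D.isB p := isB_two hx hm hp
  obtain ⟨v, hv, hB, v2, v3, v4⟩ := exists_six hBp (D.symm hp) (D.symm hm) hpx.symm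
  subst v4
  obtain ⟨hB2, hB4, hB6⟩ := six_isB hv hB
  obtain ⟨ht, -⟩ := E.six_fix hr hv hB
  have h43 : D.Adj (v 4) (v 3) := D.symm (hv.1 3 (by omega))
  have h32 : D.Adj (v 3) (v 2) := D.symm (hv.1 2 (by omega))
  have h45 : D.Adj (v 4) (v 5) := hv.1 4 (by omega)
  have h56 : D.Adj (v 5) (v 6) := hv.1 5 (by omega)
  have n35 : v 3 ≠ v 5 := (hv.2 3 (by omega)).symm
  have n64 : v 6 ≠ v 4 := hv.2 4 le_rfl
  have ht4 := ht 4 le_rfl
  have ht5 : D.Adj (v 4) (E.z (v 0) • v 5) := D.adj_fix ht4 h45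
  have ht56 : D.Adj (E.z (v 0) • v 5) (E.z (v 0) • v 6) := D.adj_smul _ _ _ h56
  have htne : E.z (v 0) • v 5 ≠ v 5 := (E.six_moves hr hv hB).1
  have ht53 : E.z (v 0) • v 5 ≠ v 3 := CD.smul_ne (ht 3 (by omega)) n35.symm
  set N := D.ker 2 (v 4)
  set M : Subgroup X := D.ker 2 (v 4) ⊓ D.ker 2 (v 2)
  set R := D.ker 4 (v 4)
  haveI hNfin : Finite ↥N := D.finite_of_le (D.ker_antitone (Nat.zero_le 2) _)
  haveI hMfin : Finite ↥M := Finite.of_injective _ (Subgroup.inclusion_injective (inf_le_left : M ≤ N))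
  haveI hRfin : Finite ↥R := D.finite_of_le (D.ker_antitone (Nat.zero_le 4) _)
  -- the radius-two kernel over the meet
  have hNM : Nat.card ↥N ≤ 4 * Nat.card ↥M := by
    haveI : Finite ↥(N ⊓ D.ker 2 (v 2) : Subgroup X) := hMfin
    refine (card_le_mul (A := D.ker 2 (v 2)) (E.cm v)
      {1, E.z (v 2), E.yv v, E.yv v * E.z (v 2)} (fun n hn => ?_) fun a ha b hb he => ?_).trans
      (Nat.mul_le_mul_right _ Finset.card_le_four)
    · simpa using E.cm_cases hr hv hB hn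
    · exact E.cm_eq_one_ker hr hv hB (mul_mem (inv_mem ha) hb) (E.cm_inv_mul hr hv hB ha hb he)
  obtain ⟨v', hv', hB', v'2, v'3, v'4⟩ :=
    exists_six hB6 (D.symm h56) (D.symm h45) n64.symm
  -- the meet over the largest kernel
  have hMR : Nat.card ↥M ≤ 2 * Nat.card ↥R := by
    haveI : Finite ↥(M ⊓ D.ker 2 (v 6) : Subgroup X) :=
      Finite.of_injective _ (Subgroup.inclusion_injective (inf_le_left : M ⊓ D.ker 2 (v 6) ≤ M))
    refine (card_le_mul (A := D.ker 2 (v 6)) (E.cm v') {1, E.yv v'} (fun n hn => ?_)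
      fun a ha b hb he => ?_).trans (Nat.mul_le_mul Finset.card_le_two (Subgroup.card_le_of_le ?_))
    · have hn0 : n • v 0 = v 0 :=
        D.ker_fix hv.1 (i := 2) hn.2 (by omega) (by omega) (by omega) (by omega)
      have : E.InF v n := Or.inl (by
        rw [cm, E.comm_of_fix hB hn0, mul_inv_cancel_right, E.z_sq _ hB])
      simpa [InF] using E.inF_all hr hNE hv hv' hB v'4 hn.1 this
    · have hab := mul_mem (inv_mem ha) hb
      have := E.cm_eq_one_ker hr hv' hB' (n := a⁻¹ * b) (by rw [v'4]; exact hab.1)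
        (E.cm_inv_mul hr hv' hB' (by rw [v'4]; exact ha.1) (by rw [v'4]; exact hb.1) he)
      rwa [v'2] at this
    · rintro n ⟨⟨hnN, hn2⟩, hn6⟩
      obtain ⟨alt, halt, ha4, ha2⟩ := D.exists_third (D.symm h43) h32
      obtain ⟨alt', halt', ha4', ha6⟩ := D.exists_third (D.symm h45) h56
      have hnalt := E.ker_two_inf_le hr hNE hB4 (D.symm h43) h32 halt (hv.2 2 (by omega)) ha4.symm
        ha2.symm hnN hn2
      have hnalt' := E.ker_two_inf_le hr hNE hB4 (D.symm h45) h56 halt' n64.symm ha4'.symm ha6.symm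
        hnN hn6
      have hnt : E.z (v 0) * n * (E.z (v 0))⁻¹ = n := mul_inv_eq_iff_eq_mul.2
        (E.comm_of_fix hB (D.ker_fix hv.1 (i := 2) hn2 (by omega) (by omega) (by omega) (by omega))).symm
      have htr : ∀ d, n ∈ D.ker 2 d → n ∈ D.ker 2 (E.z (v 0) • d) := fun d hd => by
        have := D.conj_mem_ker (g := E.z (v 0)) hd
        rwa [hnt] at this
      refine mem_ker_four hnN fun e d he hd => ?_
      rcases D.nbr_cases h43 h45 ht5 n35 ht53.symm htne.symm he with rfl | rfl | rfl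
      · rcases D.nbr_cases (D.symm h43) h32 halt (hv.2 2 (by omega)) ha4.symm ha2.symm hd
          with rfl | rfl | rfl
        exacts [hnN, hn2, hnalt]
      · rcases D.nbr_cases (D.symm h45) h56 halt' n64.symm ha4'.symm ha6.symm hd with rfl | rfl | rfl
        exacts [hnN, hn6, hnalt']
      · rcases D.nbr_cases (D.symm ht5) ht56 (D.adj_smul (E.z (v 0)) _ _ halt')
          (CD.smul_ne ht4 n64).symm (CD.smul_ne ht4 ha4').symm
          (fun e => ha6 (smul_left_cancel _ e).symm) hd with rfl | rfl | rfl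
        exacts [hnN, htr _ hn6, htr _ hnalt']
  -- the largest kernel
  have hker : ∀ {y : Ω} {n : X} {e d : Ω}, n ∈ D.ker 4 y → D.Adj y e → D.Adj e d → n ∈ D.ker 2 d :=
    fun {y n e d} hn he hd => (D.mem_ker_succ.1 ((D.mem_ker_succ.1 hn).2 e he)).2 d hd
  have hR2 : Nat.card ↥R ≤ 2 := by
    have key : ∀ y, D.isB y → D.Adj y (v 3) →
        ∃ d : X, d • y = y ∧ d • v 3 ≠ v 3 ∧ ∀ n ∈ D.ker 4 y, d * n = n * d := by
      intro y hy hy3
      obtain ⟨b, hb, hb3⟩ := D.exists_other hy3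
      obtain ⟨w, hw, hwB, hw4, -, hmv⟩ := E.exists_branch_mover hr hy hb hy3 hb3.symm
      refine ⟨_, ?_, hmv, fun n hn => ?_⟩
      · rw [← hw4]; exact E.z_fix_walk hw.1 hwB (by omega) le_rfl (by omega) (by omega)
      · exact (E.comm_of_fix hwB (D.ker_fix hw.1 (i := 4) (by rwa [hw4]) le_rfl (by omega)
          (by omega) (by omega))).symm
    have hnorm : ∀ y, D.Adj y (v 3) → D.Q (v 3) ≤ CD.normK (D.ker 4 y) := fun y hy =>
      CD.le_normK fun g hg n hn => D.conj_mem_ker_fix ((D.mem_Q.1 hg).2 y (D.symm hy)) hn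
    have hbot := D.inf_eq_bot hNE h43 (D.symm h32) hB4 (hv.2 2 (by omega))
      (S := D.ker 4 (v 4)) (S' := D.ker 4 (v 2))
      (fun n hn => CD.mem_edge.2
        ⟨(D.mem_Q.1 (D.ker_antitone (show 1 ≤ 4 by norm_num) _ hn)).2 _ h43, D.ker_fix_self hn⟩)
      (hnorm _ h43) (hnorm _ (D.symm h32)) (key _ hB4 h43) (key _ hB2 (D.symm h32))
    have h1 : D.ker 4 (v 4) ≤ M := fun n hn =>
      ⟨D.ker_antitone (show 2 ≤ 4 by norm_num) _ hn, hker hn h43 h32⟩
    have h2 : D.ker 4 (v 2) ≤ M := fun n hn =>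
      ⟨hker hn (D.symm h32) (D.symm h43), D.ker_antitone (show 2 ≤ 4 by norm_num) _ hn⟩
    have := card_mul_le h1 h2 hbot
    rw [D.card_ker_eq hB2 hB4] at this
    change Nat.card ↥R * Nat.card ↥R ≤ Nat.card ↥M at this
    nlinarith [Nat.card_pos (α := ↥R)]
  -- the product over the branches
  set S := E.z (v 2) * E.z (v 6) * E.z (E.z (v 0) • v 6) with hS
  have hsig : E.IsSig (v 4) S := ⟨v 3, v 5, _, v 2, v 6, _, h43, h45, ht5, n35, ht53.symm, htne.symm,
    h32, h56, ht56, (hv.2 2 (by omega)).symm, n64, CD.smul_ne ht4 n64, rfl⟩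
  have hSV : S ∈ E.V (v 4) :=
    mul_mem (mul_mem (E.z_mem_V h43 h32) (E.z_mem_V h45 h56)) (E.z_mem_V ht5 ht56)
  have hSN := E.V_le hr hB4 hSV
  have hSslot : ∀ e d, D.Adj (v 4) e → D.Adj e d → d ≠ v 4 → S ∈ D.ker 2 d := by
    intro e d he hd hne
    obtain ⟨u, hu, hBu, u2, u3, u4⟩ :=
      exists_six (isB_two hB4 he hd) (D.symm hd) (D.symm he) hne.symm
    have hSN' : S ∈ D.ker 2 (u 4) := by rwa [u4]
    have hF : E.InF u S := E.V_inF hr hu hBu (by rwa [u4])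
    have h1 : E.cm u S = 1 := by
      rcases hF with h | h
      · exact h
      exfalso
      have hfix := (E.six_fix hr hu hBu).1 4 le_rfl
      have hs2 := E.isSig_smul hB4 hsig (E.z (u 0))
      rw [← u4, hfix] at hs2
      rcases E.isSig_unique hr.ge (six_isB hu hBu).2.1 (u4 ▸ hsig) hs2 with h' | h'
      · have hc : E.cm u S = 1 := by
          rw [cm]
          have hcomm : E.z (u 0) * S = S * E.z (u 0) := mul_inv_eq_iff_eq_mul.1 h'
          rw [← hcomm, mul_inv_cancel_right, E.z_sq _ hBu]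
        exact E.yv_ne_one hr hu hBu (h ▸ hc)
      · refine E.yv_ne_z hr hu hBu ?_
        rw [← h, cm]
        rw [E.z_inv hBu] at h'
        have h3 := congrArg (fun a => a⁻¹) h'
        simp only [mul_inv_rev, E.z_inv hBu, E.z_inv (six_isB hu hBu).2.1] at h3
        have h5 := E.V_comm (six_isB hu hBu).2.1 hSN'
          (E.z_mem_V (D.symm (hu.1 3 (by omega))) (hu.1 3 (by omega)))
        calc S * E.z (u 0) * S⁻¹ * E.z (u 0) = S * (E.z (u 0) * (S⁻¹ * E.z (u 0))) := by group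
          _ = S * (E.z (u 4) * S⁻¹) := by rw [h3]
          _ = E.z (u 4) := by rw [← mul_assoc, h5, mul_inv_cancel_right]
    have := E.cm_eq_one_ker hr hu hBu hSN' h1
    rwa [u2] at this
  have hSR : S ∈ R := mem_ker_four hSN fun e d he hd => by
    by_cases h : d = v 4
    · rw [h]; exact hSN
    · exact hSslot e d he hd h
  have hzR : E.z (v 4) ∈ R := D.ker_antitone hr.ge _ (E.z_mem _ hB4)
  have hScases : S = 1 ∨ S = E.z (v 4) := by
    by_contra hcon
    push Not at hcon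
    let f : Fin 3 → ↥R := ![1, ⟨E.z (v 4), hzR⟩, ⟨S, hSR⟩]
    have hf : Function.Injective f := by
      intro i j hij
      have := congrArg Subtype.val hij
      fin_cases i <;> fin_cases j <;>
        first
          | rfl
          | exact absurd this (E.z_ne _ hB4)
          | exact absurd this.symm (E.z_ne _ hB4)
          | exact absurd this hcon.1
          | exact absurd this.symm hcon.1
          | exact absurd this hcon.2
          | exact absurd this.symm hcon.2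
    have := Nat.card_le_card_of_injective f hf
    rw [Nat.card_eq_fintype_card, Fintype.card_fin] at this
    omega
  have hNeq : D.Q (v 4) ⊓ D.Q (v 3) ⊓ D.Q (v 5) ≤ N := by
    rintro q ⟨⟨hq4, hq3⟩, hq5⟩
    obtain ⟨hqx, hqn⟩ := D.mem_Q.1 hq4
    have hq2 : q • v 2 = v 2 := (D.mem_Q.1 hq3).2 _ h32
    have hq6 : q • v 6 = v 6 := (D.mem_Q.1 hq5).2 _ h56
    have hqt : q • (E.z (v 0) • v 5) = E.z (v 0) • v 5 := hqn _ ht5
    have hqS : q * S * q⁻¹ = S := by
      rcases hScases with h | h <;> rw [h]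
      · group
      · exact mul_inv_eq_iff_eq_mul.2 (E.comm_of_fix hB4 hqx)
    have hBt : D.isB (E.z (v 0) • v 6) := (D.isB_smul _ _).2 hB6
    have e : q * S * q⁻¹ = E.z (v 2) * E.z (v 6) * E.z (q • (E.z (v 0) • v 6)) := by
      rw [← E.z_conj q _ hBt, hS]
      calc q * (E.z (v 2) * E.z (v 6) * E.z (E.z (v 0) • v 6)) * q⁻¹
          = (q * E.z (v 2) * q⁻¹) * (q * E.z (v 6) * q⁻¹) * (q * E.z (E.z (v 0) • v 6) * q⁻¹) := by
            group
        _ = _ := by rw [E.z_conj q _ hB2, E.z_conj q _ hB6, hq2, hq6]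
    rw [e, hS, mul_right_inj] at hqS
    have hq7 : q • (E.z (v 0) • v 6) = E.z (v 0) • v 6 := by
      by_contra hne
      exact E.ne_of_nbr hBt (D.symm ht56) (D.adj_fix hqt ht56) (Ne.symm hne) hqS.symm
    refine D.mem_ker_two.2 ⟨hqx, fun e he => ?_⟩
    rcases D.nbr_cases h43 h45 ht5 n35 ht53.symm htne.symm he with rfl | rfl | rfl
    exacts [hq3, hq5, D.fix_two hqt (D.symm ht5) ht56 (CD.smul_ne ht4 n64).symm hqx hq7]
  have hQ := D.card_Q_le_inter h43 h45
  have := Subgroup.card_le_of_le hNeq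
  omega

end CZ

end CfsgLib.LocalEven.AmalgamCentral
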