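import Cfsg.Agent.Lib.LocalEven.AmalgamCentral.Sigma

/-!
The largest radius cannot be even and at least six.
-/

set_option autoImplicit false

namespace CfsgLib.LocalEven.AmalgamCentral

open MulAction AmalgamZ

variable {X Ω : Type*} [Group X] [MulAction X Ω] {D : CD X Ω} (E : CZ D)

namespace CZ

/-- A product over the branches at `c`, up to the involution of `c`. -/
def Lift (c : Ω) (l : X) : Prop := ∃ S, E.IsSig c S ∧ (l = S ∨ l = S * E.z c)

theorem sig_fix (h4 : 4 ≤ E.r) {c : Ω} (hc : D.isB c) {S : X} (h : E.IsSig c S) : S • c = c := by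
  obtain ⟨a₁, a₂, a₃, d₁, d₂, d₃, h1, h2, h3, -, -, -, e1, e2, e3, -, -, -, rfl⟩ := h
  have key : ∀ a d, D.Adj c a → D.Adj a d → E.z d • c = c := fun a d ha hd =>
    (D.mem_Q.1 (E.z_mem_Q_nbr (isB_two hc ha hd) (D.symm hd))).2 c (D.symm ha)
  rw [mul_smul, mul_smul, key _ _ h3 e3, key _ _ h2 e2, key _ _ h1 e1]

theorem lift_fix (h4 : 4 ≤ E.r) {c : Ω} (hc : D.isB c) {l : X} (h : E.Lift c l) : l • c = c := by
  obtain ⟨S, hS, rfl | rfl⟩ := h
  · exact E.sig_fix h4 hc hS
  · rw [mul_smul, E.z_fix hc, E.sig_fix h4 hc hS]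

theorem lift_unique (h4 : 4 ≤ E.r) {c : Ω} (hc : D.isB c) {l l' : X} (h : E.Lift c l)
    (h' : E.Lift c l') : l' = l ∨ l' = l * E.z c := by
  obtain ⟨S, hS, e⟩ := h
  obtain ⟨S', hS', e'⟩ := h'
  have hz := E.z_sq c hc
  rcases E.isSig_unique h4 hc hS hS' with u | u <;> rcases e with rfl | rfl <;>
    rcases e' with rfl | rfl <;> rw [u] <;> simp [mul_assoc, hz]

/-- The line through the ends of a prolonged path relates the products around two of its vertices. -/
theorem line_sig (hr : Even E.r) (h4 : 4 ≤ E.r) {L : ℕ → Ω} (hL : D.NB (E.r + 2) L)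
    (hB : D.isB (L 0)) :
    ∃ S S', E.IsSig (L 2) S ∧ E.IsSig (L E.r) S' ∧
      S * E.z (L 4) = E.z (L 0) * E.z (L (E.r + 2)) * E.z (L 0) * E.z (L (E.r + 2)) ∧
      S' * E.z (L (E.r - 2)) = E.z (L 0) * E.z (L (E.r + 2)) * E.z (L 0) * E.z (L (E.r + 2)) := by
  have hM : E.Moved L := E.all_moved hr h4 (hL.mono (by omega)) hB
  have hR := (E.rev_moved hr hL hM).2.2
  simp only [Nat.sub_zero, show E.r + 2 - (E.r + 1) = 1 by omega] at hR
  obtain ⟨hBc, hBr, -⟩ := E.even_isB_end hr hL hB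
  have hB4 : D.isB (L 4) := (D.isB_walk hL.1 hB 4 (by omega)).2 (by decide)
  have hBr2 : D.isB (L (E.r - 2)) :=
    (D.isB_walk hL.1 hB _ (by omega)).2 (by obtain ⟨j, hj⟩ := hr; exact ⟨j - 1, by omega⟩)
  set t := E.z (L 0)
  set u := E.z (L (E.r + 2))
  set r := E.r with hr'
  have hu : ∀ i, 2 ≤ i → i ≤ r + 2 → u • L i = L i := fun i h2 hi =>
    E.z_fix_walk hL.1 hBc le_rfl hi (by omega) (by omega)
  have ht : ∀ i, i ≤ r → t • L i = L i := fun i hi =>
    E.z_fix_walk hL.1 hB (by omega) (by omega) (by omega) (by omega)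
  have h21 : D.Adj (L 2) (L 1) := D.symm (hL.1 1 (by omega))
  have h10 : D.Adj (L 1) (L 0) := D.symm (hL.1 0 (by omega))
  have h23 : D.Adj (L 2) (L 3) := hL.1 2 (by omega)
  have h34 : D.Adj (L 3) (L 4) := hL.1 3 (by omega)
  have hrr : D.Adj (L r) (L (r + 1)) := hL.1 r (by omega)
  have hrc : D.Adj (L (r + 1)) (L (r + 2)) := hL.1 (r + 1) (by omega)
  have hrm : D.Adj (L r) (L (r - 1)) := by
    have := D.symm (hL.1 (r - 1) (by omega))
    rwa [show r - 1 + 1 = r by omega] at this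
  have hrm2 : D.Adj (L (r - 1)) (L (r - 2)) := by
    have := D.symm (hL.1 (r - 2) (by omega))
    rwa [show r - 2 + 1 = r - 1 by omega] at this
  have nr : L (r + 1) ≠ L (r - 1) := by
    have := hL.2 (r - 1) (by omega)
    rwa [show r - 1 + 2 = r + 1 by omega] at this
  have nr2 : L (r - 2) ≠ L r := by
    have := (hL.2 (r - 2) (by omega)).symm
    rwa [show r - 2 + 2 = r by omega] at this
  have n13 : L 1 ≠ L 3 := (hL.2 1 (by omega)).symm
  have n02 : L 0 ≠ L 2 := (hL.2 0 (by omega)).symm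
  refine ⟨t * E.z (u • L 0) * E.z (L 4), E.z (t • L (r + 2)) * u * E.z (L (r - 2)),
    ⟨L 1, u • L 1, L 3, L 0, u • L 0, L 4, h21, D.adj_fix (hu 2 le_rfl (by omega)) h21, h23,
      Ne.symm hR, n13, CD.smul_ne (hu 3 (by omega) (by omega)) n13, h10, D.adj_smul u _ _ h10, h34,
      n02, CD.smul_ne (hu 2 le_rfl (by omega)) n02, hL.2 2 (by omega), rfl⟩,
    ⟨t • L (r + 1), L (r + 1), L (r - 1), t • L (r + 2), L (r + 2), L (r - 2),
      D.adj_fix (ht r le_rfl) hrr, hrr, hrm, hM.2.2, CD.smul_ne (ht (r - 1) (by omega)) nr, nr,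
      D.adj_smul t _ _ hrc, hrc, hrm2, CD.smul_ne (ht r le_rfl) (hL.2 r le_rfl), hL.2 r le_rfl,
      nr2, rfl⟩, ?_, ?_⟩
  · rw [mul_assoc _ (E.z (L 4)), E.z_sq _ hB4, mul_one, ← E.conj_z hBc hB]
    simp [t, u, r, mul_assoc]
  · rw [mul_assoc _ (E.z (L (r - 2))), E.z_sq _ hBr2, mul_one, ← E.conj_z hB hBc]

/-! ### All products over branches trivial -/

theorem exists_nbr_value (h4 : 4 ≤ E.r) {c a m : Ω} (hc : D.isB c) (ha : D.Adj c a) (hm : D.Adj a m)
    (hne : m ≠ c) {S : X} (hS : S = 1 ∨ S = E.z c) :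
    ∃ e, D.Adj a e ∧ e ≠ c ∧ S * E.z m = E.z e := by
  rcases hS with rfl | rfl
  · exact ⟨m, hm, hne, one_mul _⟩
  · obtain ⟨e, he, hec, hem⟩ := D.exists_third (D.symm ha) hm
    exact ⟨e, he, hec, E.z_triple hc (D.symm ha) hm he hne.symm hec.symm hem.symm⟩

/-- With trivial products the commutator of the ends is the middle involution and the radius six. -/
theorem middle_of_triv (hr : Even E.r) (h6 : 6 ≤ E.r)
    (htriv : ∀ c S, D.isB c → E.IsSig c S → S = 1 ∨ S = E.z c) {L : ℕ → Ω}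
    (hL : D.NB (E.r + 2) L) (hB : D.isB (L 0)) :
    E.r = 6 ∧ E.z (L 0) * E.z (L (E.r + 2)) * E.z (L 0) * E.z (L (E.r + 2)) = E.z (L 4) := by
  classical
  obtain ⟨S, S', hS, hS', e1, e2⟩ := E.line_sig hr (by omega) hL hB
  obtain ⟨hBc, hBr, -⟩ := E.even_isB_end hr hL hB
  have hB2 : D.isB (L 2) := (D.isB_walk hL.1 hB 2 (by omega)).2 even_two
  set r := E.r with hr'
  have hrm : D.Adj (L r) (L (r - 1)) := by
    have := D.symm (hL.1 (r - 1) (by omega))
    rwa [show r - 1 + 1 = r by omega] at this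
  have hrm2 : D.Adj (L (r - 1)) (L (r - 2)) := by
    have := D.symm (hL.1 (r - 2) (by omega))
    rwa [show r - 2 + 1 = r - 1 by omega] at this
  have nr2 : L (r - 2) ≠ L r := by
    have := (hL.2 (r - 2) (by omega)).symm
    rwa [show r - 2 + 2 = r by omega] at this
  obtain ⟨e, he, he2, hye⟩ := E.exists_nbr_value (by omega) hB2 (hL.1 2 (by omega)) (hL.1 3 (by omega))
    (hL.2 2 (by omega)) (htriv _ _ hB2 hS)
  obtain ⟨e', he', he'r, hye'⟩ :=
    E.exists_nbr_value (by omega) hBr hrm hrm2 nr2 (htriv _ _ hBr hS')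
  by_cases hboth : e = L 4 ∧ e' = L (r - 2) ∧ r = 6
  · exact ⟨hboth.2.2, by rw [← e1, hye, hboth.1]⟩
  exfalso
  let s := if e = L 4 then 4 else 2
  let f := if e' = L (r - 2) then r - 2 else r
  let P : ℕ → Ω := fun i => if i = 2 then e else if i = r then e' else L i
  have hBe : D.isB e := isB_two hB2 (hL.1 2 (by omega)) he
  have hBe' : D.isB e' := isB_two hBr hrm he'
  have hPs : P s = e := by
    by_cases h : e = L 4
    · simp only [s, if_pos h, P, show (4 : ℕ) ≠ 2 by omega, show (4 : ℕ) ≠ r by omega, if_false]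
      exact h.symm
    · simp [s, if_neg h, P]
  have hPf : P f = e' := by
    by_cases h : e' = L (r - 2)
    · simp only [f, if_pos h, P, show r - 2 ≠ 2 by omega, show r - 2 ≠ r by omega, if_false]
      exact h.symm
    · simp [f, if_neg h, P, show r ≠ 2 by omega]
  have hsf : 1 ≤ f - s ∧ f - s ≤ 2 * r + 1 ∧ s + (f - s) = f ∧ 2 ≤ s ∧ f ≤ r ∧
      (s = 2 → e ≠ L 4) ∧ (f = r → e' ≠ L (r - 2)) := by
    by_cases h : e = L 4 <;> by_cases h' : e' = L (r - 2) <;>
      simp only [s, f, h, h', if_true, if_false] <;>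
      refine ⟨?_, by omega, by omega, by omega, by omega, fun hh => ?_, fun hh => ?_⟩ <;>
      first
        | omega
        | assumption
        | (by_contra hlt; exact hboth ⟨h, h', by obtain ⟨j, hj⟩ := hr; omega⟩)
        | simpa using h
        | simpa using h'
  obtain ⟨hlen1, hlen2, hsum, hs2, hfr, hse, hfe⟩ := hsf
  have hP : ∀ i, s ≤ i → i + 1 ≤ f → D.Adj (P i) (P (i + 1)) := by
    intro i hi hif
    simp only [P]
    by_cases i2 : i = 2
    · subst i2
      simp only [if_true, show 2 + 1 ≠ 2 by omega, show 2 + 1 ≠ r by omega, if_false]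
      exact D.symm he
    by_cases ir : i + 1 = r
    · simp only [if_neg i2, show i ≠ r by omega, ir, show r ≠ 2 by omega, if_false, if_true]
      rw [show i = r - 1 by omega]; exact he'
    · simp only [if_neg i2, show i ≠ r by omega, show i + 1 ≠ 2 by omega, if_neg ir, if_false]
      exact hL.1 i (by omega)
  have hP2 : ∀ i, s ≤ i → i + 2 ≤ f → P (i + 2) ≠ P i := by
    intro i hi hif
    simp only [P]
    by_cases i2 : i = 2
    · subst i2
      simp only [if_true, show 2 + 2 ≠ 2 by omega, show 2 + 2 ≠ r by omega, if_false]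
      exact (hse (by omega)).symm
    by_cases ir : i + 2 = r
    · simp only [if_neg i2, show i ≠ r by omega, ir, show r ≠ 2 by omega, if_false, if_true]
      rw [show i = r - 2 by omega]; exact hfe (by omega)
    · simp only [if_neg i2, show i ≠ r by omega, show i + 2 ≠ 2 by omega, if_neg ir, if_false]
      exact hL.2 i (by omega)
  refine E.ne_of_path hr (by omega) (w := fun i => P (s + i)) (n := f - s)
    ⟨fun i hi => by simp only [← add_assoc]; exact hP _ (by omega) (by omega),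
     fun i hi => by simp only [← add_assoc]; exact hP2 _ (by omega) (by omega)⟩
    hlen1 hlen2 (by simpa [hPs] using hBe) (by simpa [hsum, hPf] using hBe') ?_
  simp only [Nat.add_zero, hsum, hPs, hPf]
  rw [← hye, ← hye', e1, e2]

theorem not_triv (hr : Even E.r) (h6 : 6 ≤ E.r) :
    ¬ ∀ c S, D.isB c → E.IsSig c S → S = 1 ∨ S = E.z c := by
  intro htriv
  obtain ⟨c, hc⟩ := D.exB
  obtain ⟨w, -, hw, hB, -⟩ := E.exists_moved_at hc
  obtain ⟨V, hV, hVw⟩ := D.exists_extend hw (by omega) (E.r + 4) (by omega)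
  have hBV : D.isB (V 0) := by rw [hVw 0 (by omega)]; exact hB
  obtain ⟨h6', -⟩ := E.middle_of_triv hr h6 htriv (hV.mono (by omega)) hBV
  rw [h6'] at hV
  have hmid : ∀ L : ℕ → Ω, D.NB 8 L → D.isB (L 0) →
      E.z (L 0) * E.z (L 8) * E.z (L 0) * E.z (L 8) = E.z (L 4) := fun L hL hBL => by
    have := (E.middle_of_triv hr h6 htriv (by rw [h6']; exact hL) hBL).2
    rwa [h6'] at this
  have hev := D.isB_walk hV.1 hBV
  have hB10 : D.isB (V 10) := (hev 10 le_rfl).2 (by decide)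
  set a := E.z (V 0)
  set b := E.z (V 10)
  have ha6 : a • V 6 = V 6 := E.z_fix_walk hV.1 hBV (by omega) (by omega) (by omega) (by omega)
  have hb4 : b • V 4 = V 4 := E.z_fix_walk hV.1 hB10 le_rfl (by omega) (by omega) (by omega)
  have ha7 : a • V 7 ≠ V 7 := by
    have := (E.all_moved hr (by omega) (by rw [h6']; exact hV.mono (by omega)) hBV).2.2
    rwa [h6'] at this
  have hb3 : b • V 3 ≠ V 3 := by
    have := (E.all_moved hr (by omega) (Q := fun i => V (10 - i))
      (by rw [h6']; exact hV.rev.mono (by omega)) (by simpa using hB10)).2.2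
    rw [h6'] at this
    simpa using this
  have h1 : D.NB (4 + 4) (CD.app 4 (fun i => V (10 - i)) (fun i => a • V (6 + i))) :=
    CD.NB.app (hV.rev.mono (by omega)) ((hV.shift 6 (by omega)).smul a) (by simp [ha6])
      fun _ _ => by simpa using ha7
  have h2 : D.NB (4 + 4) (CD.app 4 V (fun i => b • V (4 - i))) :=
    CD.NB.app (hV.mono (by omega)) ((hV.mono (m := 4) (by omega)).rev.smul b) (by simp [hb4])
      fun _ _ => by simpa using hb3
  have e1 := hmid _ h1 (by simpa [CD.app] using hB10)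
  have e2 := hmid _ h2 (by simpa [CD.app] using hBV)
  simp [CD.app] at e1 e2
  rw [← E.z_conj a _ hB10, E.z_inv hBV] at e1
  rw [← E.z_conj b _ hBV, E.z_inv hB10] at e2
  have ha2 : a * a = 1 := E.z_sq _ hBV
  have hb2 : b * b = 1 := E.z_sq _ hB10
  have h46 : E.z (V 4) = E.z (V 6) := by
    have hB6 : D.isB (V 6) := (hev 6 (by omega)).2 (by decide)
    have i4 : a * (b * a * b) * a * (b * a * b) = (a * b * a * b) * (a * b * a * b) := by group
    have i6 : ((a * b * a * b) * (a * b * a * b))⁻¹ = b * (a * b * a) * b * (a * b * a) := by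
      simp only [mul_inv_rev, a, b, E.z_inv hBV, E.z_inv hB10, mul_assoc]
    have e3 : ((a * b * a * b) * (a * b * a * b))⁻¹ = E.z (V 6) := i6.trans e1
    rw [← i4, e2] at e3
    rwa [E.z_inv ((hev 4 (by omega)).2 (by decide))] at e3
  exact E.ne_of_nbr ((hev 4 (by omega)).2 (by decide)) (hV.1 4 (by omega)) (hV.1 5 (by omega))
    (hV.2 4 (by omega)).symm h46

/-! ### Nontrivial products -/

theorem sig_ne (hr : Even E.r) (h6 : 6 ≤ E.r) {c : Ω} (hc : D.isB c) {S : X} (hS : E.IsSig c S) :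
    S ≠ 1 ∧ S ≠ E.z c := by
  have hsq := fun d hd => E.z_sq d hd
  by_contra hcon
  refine E.not_triv hr h6 fun c' S' hc' hS' => ?_
  obtain ⟨g, rfl⟩ := D.exists_smul_eq hc hc'
  have htr : g * S * g⁻¹ = 1 ∨ g * S * g⁻¹ = E.z (g • c) := by
    rw [not_and_or] at hcon
    simp only [ne_eq, not_not] at hcon
    rcases hcon with h | h <;> rw [h]
    · left; group
    · right; exact E.z_conj g c hc
  rcases E.isSig_unique (by omega) hc' (E.isSig_smul hc hS g) hS' with h | h <;>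
    rcases htr with h' | h' <;> rw [h, h']
  exacts [Or.inl rfl, Or.inr rfl, Or.inr (one_mul _), Or.inl (hsq _ hc')]

theorem lift_mem_ker (hr : Even E.r) (h4 : 4 ≤ E.r) {c : Ω} (hc : D.isB c) {l : X}
    (h : E.Lift c l) : l ∈ D.ker E.r c := by
  obtain ⟨S, hS, e⟩ := h
  suffices hmem : S ∈ D.ker E.r c by
    rcases e with rfl | rfl
    · exact hmem
    · exact mul_mem hmem (E.z_mem c hc)
  have hSc := E.sig_fix h4 hc hS
  obtain ⟨a₁, a₂, a₃, d₁, d₂, d₃, h1, h2, h3, n12, n13, n23, e1, e2, e3, m1, m2, m3, rfl⟩ := hS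
  have hS : E.IsSig c (E.z d₁ * E.z d₂ * E.z d₃) :=
    ⟨a₁, a₂, a₃, d₁, d₂, d₃, h1, h2, h3, n12, n13, n23, e1, e2, e3, m1, m2, m3, rfl⟩
  set r := E.r with hr'
  have hnear : ∀ (v : ℕ → Ω) (k : ℕ), D.Walk k v → v 0 = c → k + 2 ≤ r →
      (E.z d₁ * E.z d₂ * E.z d₃) • v k = v k := by
    intro v k hv hv0 hk
    have key : ∀ a d, D.Adj c a → D.Adj a d → E.z d • v k = v k := fun a d ha hd => by
      have hw : D.Walk (k + 1 + 1) (CD.cons d (CD.cons a v)) :=
        D.walk_cons (by rw [CD.cons_zero]; exact D.symm hd)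
          (D.walk_cons (by rw [hv0]; exact D.symm ha) hv)
      have := E.z_fix_walk (i := 0) (j := k + 1 + 1) hw
        (by rw [CD.cons_zero]; exact isB_two hc ha hd) (by omega) le_rfl (by omega) (by omega)
      simpa [CD.cons] using this
    rw [mul_smul, mul_smul, key _ _ h3 e3, key _ _ h2 e2, key _ _ h1 e1]
  have hfar : ∀ v : ℕ → Ω, D.NB r v → v 0 = c →
      (E.z d₁ * E.z d₂ * E.z d₃) • v (r - 1) = v (r - 1) ∧
        (E.z d₁ * E.z d₂ * E.z d₃) • v r = v r := by
    intro v hv hv0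
    have hBr : D.isB (v r) := (D.isB_walk hv.1 (by rwa [hv0]) r le_rfl).2 hr
    set z' := E.z (v r)
    have hzfix : ∀ i, i ≤ r → z' • v i = v i := fun i hi =>
      E.z_fix_walk hv.1 hBr le_rfl hi (by omega) (by omega)
    have hzc : z' • c = c := hv0 ▸ hzfix 0 (Nat.zero_le _)
    have hc1 : D.Adj c (v 1) := hv0 ▸ hv.1 0 (by omega)
    have h12 : D.Adj (v 1) (v 2) := hv.1 1 (by omega)
    obtain ⟨b, hb, hb1⟩ := D.exists_other hc1
    obtain ⟨d, hd, hdc⟩ := D.exists_other (D.symm hb)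
    have hzb : z' • b ≠ b := by
      have := E.moves_next hr h4 hv.rev (by simpa using hBr) (u := b)
        (by simpa [← hr', hv0] using hb) (by simpa [← hr', show r - (r - 1) = 1 by omega] using hb1)
      simpa using this
    have hBd := isB_two hc hb hd
    have hBd' : D.isB (z' • d) := (D.isB_smul _ _).2 hBd
    have hb' : D.Adj c (z' • b) := D.adj_fix hzc hb
    have hd' : D.Adj (z' • b) (z' • d) := D.adj_smul _ _ _ hd
    have hsig : E.IsSig c (E.z (v 2) * E.z d * E.z (z' • d)) :=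
      ⟨v 1, b, z' • b, v 2, d, z' • d, hc1, hb, hb', hb1.symm,
        (CD.smul_ne (hzfix 1 (by omega)) hb1).symm, hzb.symm, h12, hd, hd', hv0 ▸ hv.2 0 (by omega),
        hdc, CD.smul_ne hzc hdc, rfl⟩
    have hB2 := isB_two hc hc1 h12
    have hcomm0 : z' * (E.z (v 2) * E.z d * E.z (z' • d)) =
        E.z (v 2) * E.z d * E.z (z' • d) * z' := by
      have e2 : z' * E.z (v 2) = E.z (v 2) * z' := E.comm_of_fix hB2 (hzfix 2 (by omega))
      have ec := E.comm_branches h4 hc hb hb' hd hd'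
      have e3 : z' * E.z d = E.z (z' • d) * z' := by
        rw [← E.z_conj z' d hBd, inv_mul_cancel_right]
      have e4 : z' * E.z (z' • d) = E.z d * z' := by
        rw [← E.conj_z hBr hBd, ← mul_assoc, ← mul_assoc, E.z_sq _ hBr, one_mul]
      calc z' * (E.z (v 2) * E.z d * E.z (z' • d))
          = z' * E.z (v 2) * E.z d * E.z (z' • d) := by simp [mul_assoc]
        _ = E.z (v 2) * (z' * E.z d) * E.z (z' • d) := by rw [e2]; simp [mul_assoc]
        _ = E.z (v 2) * E.z (z' • d) * (z' * E.z (z' • d)) := by rw [e3]; simp [mul_assoc]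
        _ = E.z (v 2) * (E.z (z' • d) * E.z d) * z' := by rw [e4]; simp [mul_assoc]
        _ = _ := by rw [← ec]; simp [mul_assoc]
    have hcomm : z' * (E.z d₁ * E.z d₂ * E.z d₃) = E.z d₁ * E.z d₂ * E.z d₃ * z' := by
      rcases E.isSig_unique h4 hc hsig hS with h | h <;> rw [h]
      · exact hcomm0
      · rw [← mul_assoc, hcomm0, mul_assoc _ z', E.comm_of_fix hc hzc]
        simp [mul_assoc]
    have hfix2 : (E.z d₁ * E.z d₂ * E.z d₃) • v (r - 2) = v (r - 2) :=
      hnear v (r - 2) (hv.1.mono (by omega)) hv0 (by omega)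
    have a1 : D.Adj (v r) (v (r - 1)) := by
      have := D.symm (hv.1 (r - 1) (by omega))
      rwa [show r - 1 + 1 = r by omega] at this
    have a2 : D.Adj (v (r - 1)) (v (r - 2)) := by
      have := D.symm (hv.1 (r - 2) (by omega))
      rwa [show r - 2 + 1 = r - 1 by omega] at this
    have a3 : v (r - 2) ≠ v r := by
      have := (hv.2 (r - 2) (by omega)).symm
      rwa [show r - 2 + 2 = r by omega] at this
    exact E.fix_of_comm₂ hBr a1 a2 a3 hfix2 hcomm.symm
  refine D.mem_ker_of_paths hSc r fun v k hk hv hv0 => ?_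
  rcases (show k + 2 ≤ r ∨ k = r - 1 ∨ k = r by omega) with h | h | h
  · exact hnear v k hv.1 hv0 h
  · subst h
    obtain ⟨v', hv', hve⟩ := D.exists_extend hv (by omega) r (by omega)
    have := (hfar v' hv' (by rw [hve 0 (Nat.zero_le _), hv0])).1
    rwa [hve _ le_rfl] at this
  · subst h
    exact (hfar v hv hv0).2

/-- Two vertices around `m` in different branches share a product, or differ by a far involution. -/
theorem share_or (hr : Even E.r) (h6 : 6 ≤ E.r) {m a a' c c' : Ω} (hm : D.isB m) (ha : D.Adj m a)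
    (ha' : D.Adj m a') (hc : D.Adj a c) (hc' : D.Adj a' c') (hcm : c ≠ m) (hc'm : c' ≠ m)
    {R : ℕ → Ω} (hR : D.NB (E.r - 2) R) (hR0 : R 0 = m) (hRa : R 1 ≠ a) (hRa' : R 1 ≠ a') :
    ∃ S S', E.Lift c S ∧ E.Lift c' S' ∧ (S' = S ∨ S' = E.z (R (E.r - 4)) * S) := by
  set r := E.r with hr'
  have hmk : ∀ b d, D.Adj m b → D.Adj b d → d ≠ m → R 1 ≠ b → ∃ L : ℕ → Ω, D.NB (r + 2) L ∧
      D.isB (L 0) ∧ L 2 = d ∧ ∀ i, L (4 + i) = R i := by
    intro b d hb hd hdm hRb
    obtain ⟨e1, he1, he1b⟩ := D.exists_other (D.symm hd)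
    obtain ⟨e0, he0, he0d⟩ := D.exists_other (D.symm he1)
    have h4 : D.NB 4 (CD.seq5 e0 e1 d b m) :=
      D.nb_seq5 (D.symm he0) (D.symm he1) (D.symm hd) (D.symm hb) he0d.symm he1b.symm hdm.symm
    have hL := CD.NB.app h4 hR hR0.symm fun _ _ => hRb
    refine ⟨_, hL.mono (by omega), ?_, rfl, fun i => CD.app_right hR0.symm i⟩
    exact isB_two (isB_two hm hb hd) he1 he0
  obtain ⟨L, hL, hBL, hL2, hLR⟩ := hmk a c ha hc hcm hRa
  obtain ⟨L', hL', hBL', hL'2, hL'R⟩ := hmk a' c' ha' hc' hc'm hRa'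
  obtain ⟨S, T, hS, hT, e1, e2⟩ := E.line_sig hr (by omega) hL hBL
  obtain ⟨S', T', hS', hT', e1', e2'⟩ := E.line_sig hr (by omega) hL' hBL'
  have hx : L r = R (r - 4) := by rw [← hLR]; congr 1; omega
  have hx' : L' r = R (r - 4) := by rw [← hL'R]; congr 1; omega
  have hp : L (r - 2) = R (r - 6) := by rw [← hLR]; congr 1; omega
  have hp' : L' (r - 2) = R (r - 6) := by rw [← hL'R]; congr 1; omega
  have hm4 : L 4 = m := (hLR 0).trans hR0
  have hm4' : L' 4 = m := (hL'R 0).trans hR0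
  rw [hL2] at hS; rw [hL'2] at hS'; rw [hx] at hT; rw [hx'] at hT'
  refine ⟨S, S', ⟨S, hS, Or.inl rfl⟩, ⟨S', hS', Or.inl rfl⟩, ?_⟩
  have hBx : D.isB (R (r - 4)) := hx ▸ (E.even_isB_end hr hL hBL).2.1
  have h1 : S = T * E.z (R (r - 6)) * (E.z m)⁻¹ := by
    rw [← hp, e2, ← e1, hm4, mul_inv_cancel_right]
  have h2 : S' = T' * E.z (R (r - 6)) * (E.z m)⁻¹ := by
    rw [← hp', e2', ← e1', hm4', mul_inv_cancel_right]
  rcases E.isSig_unique (by omega) hBx hT hT' with h | h
  · exact Or.inl (by rw [h2, h, h1])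
  · refine Or.inr ?_
    rw [h2, h, h1, E.comm_of_fix hBx (E.sig_fix (by omega) hBx hT)]
    simp [mul_assoc]

theorem pair_indep {m a a' c c' : Ω} (hm : D.isB m) (ha : D.Adj m a) (ha' : D.Adj m a')
    (hne : a ≠ a') (hc : D.Adj a c) (hc' : D.Adj a' c') (hcm : c ≠ m) (hc'm : c' ≠ m) :
    E.z c ≠ E.z c' ∧ E.z c * E.z c' ≠ E.z m := by
  have hBc := isB_two hm ha hc
  refine ⟨E.ne_of_four hBc (D.symm hc) (D.symm ha) ha' hc' hcm.symm hne.symm hc'm, fun h => ?_⟩
  obtain ⟨d, hd, hdm, hdc⟩ := D.exists_third (D.symm ha) hc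
  have e : E.z c' = E.z d := by
    have := congrArg (fun x => E.z c * x) h
    simp only [E.mul_left_z hBc] at this
    rw [this, E.z_triple hBc hc (D.symm ha) hd hcm hdc.symm hdm.symm]
  exact E.ne_of_four (isB_two hm ha hd) (D.symm hd) (D.symm ha) ha' hc' hdm.symm hne.symm hc'm e.symm

theorem share (hr : Even E.r) (h6 : 6 ≤ E.r) {m a a' c c' : Ω} (hm : D.isB m) (ha : D.Adj m a)
    (ha' : D.Adj m a') (hne : a ≠ a') (hc : D.Adj a c) (hc' : D.Adj a' c') (hcm : c ≠ m)
    (hc'm : c' ≠ m) : ∃ l, E.Lift c l ∧ E.Lift c' l := by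
  obtain ⟨b, hb, hba, hba'⟩ := D.exists_third ha ha'
  have hBc := isB_two hm ha hc
  have hBc' := isB_two hm ha' hc'
  set r := E.r with hr'
  have hray : ∀ x, D.Adj b x → x ≠ m → ∃ R : ℕ → Ω, D.NB (r - 2) R ∧ R 0 = m ∧ R 1 = b ∧ R 2 = x := by
    intro x hx hxm
    obtain ⟨R, hR, hRe⟩ := D.exists_extend (m := 2) (w := CD.cons m (CD.cons b fun _ => x))
      (D.nb_cons (by simpa [CD.cons] using hb)
        (D.nb_cons hx ⟨fun i hi => absurd hi (by omega), fun i hi => absurd hi (by omega)⟩ (by omega))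
        fun _ => by simpa [CD.cons] using hxm) one_le_two (r - 2) (by omega)
    exact ⟨R, hR, by simpa [CD.cons] using hRe 0 (by omega), by simpa [CD.cons] using hRe 1 (by omega),
      by simpa [CD.cons] using hRe 2 le_rfl⟩
  obtain ⟨x, hx, hxm⟩ := D.exists_other (D.symm hb)
  obtain ⟨R, hR, hR0, hR1, hR2⟩ := hray x hx hxm
  obtain ⟨S, S', hS, hS', he | he⟩ := E.share_or hr h6 hm ha ha' hc hc' hcm hc'm hR hR0
    (hR1 ▸ hba) (hR1 ▸ hba')
  · exact ⟨S, hS, he ▸ hS'⟩
  have hSc : S * E.z c = E.z c * S := E.comm_of_fix hBc (E.lift_fix (by omega) hBc hS)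
  have hSc' : S' * E.z c' = E.z c' * S' := E.comm_of_fix hBc' (E.lift_fix (by omega) hBc' hS')
  rcases (show r = 6 ∨ 8 ≤ r by obtain ⟨j, hj⟩ := hr; omega) with h6' | h8
  · have hR4 : R (r - 4) = x := by rw [show r - 4 = 2 by omega, hR2]
    rw [hR4] at he
    obtain ⟨x', hx', hx'm, hxx'⟩ := D.exists_third (D.symm hb) hx
    obtain ⟨R', hR', hR'0, hR'1, hR'2⟩ := hray x' hx' hx'm
    obtain ⟨T, T', hT, hT', he' | he'⟩ := E.share_or hr h6 hm ha ha' hc hc' hcm hc'm hR' hR'0
      (hR'1 ▸ hba) (hR'1 ▸ hba')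
    · exact ⟨T, hT, he' ▸ hT'⟩
    exfalso
    rw [show r - 4 = 2 by omega, hR'2] at he'
    obtain ⟨u, hu, hTu⟩ : ∃ u, (u = 1 ∨ u = E.z c) ∧ T = S * u := by
      rcases E.lift_unique (by omega) hBc hS hT with h | h
      exacts [⟨1, Or.inl rfl, by rw [h, mul_one]⟩, ⟨_, Or.inr rfl, h⟩]
    obtain ⟨w, hw, hTw⟩ : ∃ w, (w = 1 ∨ w = E.z c') ∧ T' = S' * w := by
      rcases E.lift_unique (by omega) hBc' hS' hT' with h | h
      exacts [⟨1, Or.inl rfl, by rw [h, mul_one]⟩, ⟨_, Or.inr rfl, h⟩]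
    have hSu : S * u = u * S := by rcases hu with rfl | rfl <;> [simp; exact hSc]
    have hSw : S' * w = w * S' := by rcases hw with rfl | rfl <;> [simp; exact hSc']
    have hwx : w * E.z x = E.z x' * u := by
      have h1 : w * E.z x * S = E.z x' * u * S := by
        calc w * E.z x * S = w * S' := by rw [he, mul_assoc]
          _ = T' := by rw [← hSw, hTw]
          _ = E.z x' * (S * u) := by rw [he', hTu]
          _ = E.z x' * u * S := by rw [hSu, mul_assoc]
      exact mul_right_cancel h1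
    have hBx' := isB_two hm hb hx'
    have hBx := isB_two hm hb hx
    have hcx : ∀ d e, D.Adj m d → D.Adj d e → E.z e * E.z x' = E.z x' * E.z e := fun d e hd he =>
      E.comm_branches (by omega) hm hd hb he hx'
    have hzm : E.z x' * E.z x = E.z m :=
      E.z_triple hBx' hx' hx (D.symm hb) hxx' hx'm hxm
    have hwm : w * E.z m = u := by
      have hwx' : w * E.z x' = E.z x' * w := by
        rcases hw with rfl | rfl <;> [simp; exact hcx a' c' ha' hc']
      calc w * E.z m = E.z x' * (w * E.z x) := by rw [← hzm, ← mul_assoc, hwx', mul_assoc]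
        _ = u := by rw [hwx, E.mul_left_z hBx']
    rcases hu with rfl | rfl <;> rcases hw with rfl | rfl
    · exact E.z_ne m hm (by simpa using hwm)
    · refine E.ne_of_nbr hBc' (D.symm hc') (D.symm ha') hc'm ?_
      rw [← E.z_inv hBc']
      exact inv_eq_of_mul_eq_one_right hwm
    · exact E.ne_of_nbr hBc (D.symm hc) (D.symm ha) hcm (by simpa using hwm.symm)
    · refine (E.pair_indep hm ha' ha hne.symm hc' hc hc'm hcm).2 ?_
      rw [← hwm, E.mul_left_z hBc']
  · exfalso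
    obtain ⟨alt, halt, haltm, haltc⟩ := D.exists_third (D.symm ha) hc
    obtain ⟨W, hW, hWe⟩ := D.exists_extend (m := 2) (w := CD.cons m (CD.cons a fun _ => alt))
      (D.nb_cons (by simpa [CD.cons] using ha)
        (D.nb_cons halt ⟨fun i hi => absurd hi (by omega), fun i hi => absurd hi (by omega)⟩
          (by omega)) fun _ => by simpa [CD.cons] using haltm) one_le_two 5 (by omega)
    have hW0 : W 0 = m := by simpa [CD.cons] using hWe 0 (by omega)
    have hW1 : W 1 = a := by simpa [CD.cons] using hWe 1 (by omega)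
    have hRr : D.NB (r - 4) (fun i => R (r - 4 - i)) := (hR.mono (by omega)).rev
    have hv := CD.NB.app hRr hW (by simp [hR0, hW0]) fun _ _ => by
      rw [hW1, show r - 4 - (r - 4 - 1) = 1 by omega, hR1]; exact hba.symm
    have hBx : D.isB (R (r - 4)) := (D.isB_walk hR.1 (hR0 ▸ hm) _ (by omega)).2
      (by obtain ⟨j, hj⟩ := hr; exact ⟨j - 2, by omega⟩)
    rw [show r - 4 + 5 = r + 1 by omega] at hv
    have hmoved := (E.all_moved hr (by omega) hv
      (by rw [CD.app_left _ _ (Nat.zero_le _)]; simpa using hBx)).2.2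
    rw [CD.app_left _ _ (Nat.zero_le _), ← hr', show r + 1 = r - 4 + 5 by omega,
      CD.app_right (by simp [hR0, hW0])] at hmoved
    simp only [Nat.sub_zero] at hmoved
    refine hmoved ?_
    have hze : E.z (R (r - 4)) = S' * S⁻¹ := by rw [he, mul_inv_cancel_right]
    rw [hze, mul_smul]
    have w1 : D.Walk 5 (CD.cons c (fun i => W (1 + i))) :=
      D.walk_cons (by simpa [hW1] using D.symm hc) (hW.1.shift 1 (by omega))
    have w2 : D.Walk 7 (CD.cons c' (CD.cons a' W)) :=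
      D.walk_cons (by rw [CD.cons_zero]; exact D.symm hc')
        (D.walk_cons (by rw [hW0]; exact D.symm ha') hW.1)
    have hS5 : S • W 5 = W 5 := by
      have := D.ker_fix (i := 0) (j := 5) w1 (g := S) (n := r)
        (by rw [CD.cons_zero]; exact E.lift_mem_ker hr (by omega) hBc hS) (by omega) le_rfl
        (by omega) (by omega)
      simpa [CD.cons] using this
    have hS'5 : S' • W 5 = W 5 := by
      have := D.ker_fix (i := 0) (j := 7) w2 (g := S') (n := r)
        (by rw [CD.cons_zero]; exact E.lift_mem_ker hr (by omega) hBc' hS') (by omega) le_rfl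
        (by omega) (by omega)
      simpa [CD.cons] using this
    rw [inv_smul_eq_iff.2 hS5.symm, hS'5]

/-- A product shared by two branches is shared by the third. -/
theorem share_third (hr : Even E.r) (h6 : 6 ≤ E.r) {m a₁ a₂ a₃ c₁ c₂ c₃ : Ω} (hm : D.isB m)
    (h1 : D.Adj m a₁) (h2 : D.Adj m a₂) (h3 : D.Adj m a₃) (n12 : a₁ ≠ a₂) (n13 : a₁ ≠ a₃)
    (n23 : a₂ ≠ a₃) (e1 : D.Adj a₁ c₁) (e2 : D.Adj a₂ c₂) (e3 : D.Adj a₃ c₃) (m1 : c₁ ≠ m)
    (m2 : c₂ ≠ m) (m3 : c₃ ≠ m) {l : X} (hl1 : E.Lift c₁ l) (hl2 : E.Lift c₂ l) : E.Lift c₃ l := by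
  have hB1 := isB_two hm h1 e1
  have hB2 := isB_two hm h2 e2
  have hB3 := isB_two hm h3 e3
  obtain ⟨p, hp1, hp3⟩ := E.share hr h6 hm h1 h3 n13 e1 e3 m1 m3
  obtain ⟨q, hq2, hq3⟩ := E.share hr h6 hm h2 h3 n23 e2 e3 m2 m3
  rcases E.lift_unique (by omega) hB1 hl1 hp1 with rfl | rfl
  · exact hp3
  rcases E.lift_unique (by omega) hB2 hl2 hq2 with rfl | rfl
  · exact hq3
  exfalso
  rcases E.lift_unique (by omega) hB3 hp3 hq3 with h | h
  · exact (E.pair_indep hm h1 h2 n12 e1 e2 m1 m2).1 (mul_left_cancel h).symm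
  · rw [mul_assoc, mul_right_inj] at h
    refine (E.sig_ne hr h6 hm (S := E.z c₁ * E.z c₂ * E.z c₃)
      ⟨a₁, a₂, a₃, c₁, c₂, c₃, h1, h2, h3, n12, n13, n23, e1, e2, e3, m1, m2, m3, rfl⟩).1 ?_
    rw [h, E.mul_left_z hB1, E.z_sq _ hB3]

theorem not_even_six (hr : Even E.r) (h6 : 6 ≤ E.r) : False := by
  obtain ⟨m, hm⟩ := D.exB
  obtain ⟨a₁, h1⟩ := D.exists_adj m
  obtain ⟨a₂, h2, n21⟩ := D.exists_other h1
  obtain ⟨a₃, h3, n31, n32⟩ := D.exists_third h1 h2
  obtain ⟨c₁, e1, m1⟩ := D.exists_other (D.symm h1)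
  obtain ⟨c₂, e2, m2⟩ := D.exists_other (D.symm h2)
  obtain ⟨c₃, e3, m3⟩ := D.exists_other (D.symm h3)
  obtain ⟨l, hl1, hl2⟩ := E.share hr h6 hm h1 h2 n21.symm e1 e2 m1 m2
  have hl3 : E.Lift c₃ l :=
    E.share_third hr h6 hm h1 h2 h3 n21.symm n31.symm n32.symm e1 e2 e3 m1 m2 m3 hl1 hl2
  have hall : ∀ a d, D.Adj m a → D.Adj a d → d ≠ m → E.Lift d l := by
    intro a d ha hd hdm
    rcases D.nbr_cases h1 h2 h3 n21.symm n31.symm n32.symm ha with rfl | rfl | rfl
    · exact E.share_third hr h6 hm h2 h3 h1 n32.symm n21 n31 e2 e3 hd m2 m3 hdm hl2 hl3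
    · exact E.share_third hr h6 hm h1 h3 h2 n31.symm n21.symm n32 e1 e3 hd m1 m3 hdm hl1 hl3
    · exact E.share_third hr h6 hm h1 h2 h3 n21.symm n31.symm n32.symm e1 e2 hd m1 m2 hdm hl1 hl2
  have hB1 := isB_two hm h1 e1
  have hk := E.lift_mem_ker hr (by omega) hB1 hl1
  have hlm : l • m = m := by
    have hw : D.Walk 2 (CD.cons c₁ (CD.cons a₁ fun _ => m)) :=
      D.walk_cons (by rw [CD.cons_zero]; exact D.symm e1)
        (D.walk_cons (D.symm h1) fun i hi => absurd hi (by omega))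
    have := D.ker_fix (i := 0) (j := 2) hw (g := l) (n := E.r) (by simpa [CD.cons] using hk)
      (by omega) le_rfl (by omega) (by omega)
    simpa [CD.cons] using this
  have hmem : l ∈ D.ker (E.r + 1) m := by
    refine D.mem_ker_of_paths hlm _ fun v k hk' hv hv0 => ?_
    rcases (show k = 0 ∨ k = 1 ∨ 2 ≤ k by omega) with rfl | rfl | hk2
    · rwa [hv0]
    · have hw : D.Walk 3 (CD.cons c₁ (CD.cons a₁ v)) :=
        D.walk_cons (by rw [CD.cons_zero]; exact D.symm e1)
          (D.walk_cons (by rw [hv0]; exact D.symm h1) hv.1)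
      have := D.ker_fix (i := 0) (j := 3) hw (g := l) (n := E.r) (by simpa [CD.cons] using hk)
        (by omega) le_rfl (by omega) (by omega)
      simpa [CD.cons] using this
    · have h01 : D.Adj m (v 1) := hv0 ▸ hv.1 0 (by omega)
      have hv2 := hall (v 1) (v 2) h01 (hv.1 1 (by omega)) (hv0 ▸ hv.2 0 (by omega))
      have := E.lift_mem_ker hr (by omega) (isB_two hm h01 (hv.1 1 (by omega))) hv2
      exact D.ker_fix (i := 2) hv.1 this hk2 le_rfl (by omega) (by omega)
  rw [E.max m hm, Subgroup.mem_bot] at hmem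
  subst hmem
  obtain ⟨S, hS, h | h⟩ := hl1
  · exact (E.sig_ne hr h6 hB1 hS).1 h.symm
  · refine (E.sig_ne hr h6 hB1 hS).2 ?_
    rw [eq_inv_of_mul_eq_one_left h.symm, E.z_inv hB1]

end CZ

end CfsgLib.LocalEven.AmalgamCentral
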