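import Cfsg.Agent.Lib.LocalEven.AmalgamCentral.Central

/-!
The largest radius cannot be odd and at least five.
-/

set_option autoImplicit false

namespace CfsgLib.LocalEven.AmalgamCentral

open MulAction AmalgamZ

variable {X Ω : Type*} [Group X] [MulAction X Ω] {D : CD X Ω} (E : CZ D)

namespace CZ

theorem odd_eq (hr : Odd E.r) {w : ℕ → Ω} (h : E.Moved w) (h3 : 3 ≤ E.r) :
    E.z (w 2) = E.z (w (E.r - 1)) ∧ D.isB (w (E.r + 1)) ∧ E.z (w (E.r + 1)) • w 0 ≠ w 0 := by
  obtain ⟨hw, h0, hmv⟩ := h
  set r := E.r with hr'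
  set t := E.z (w 0)
  obtain ⟨m, hm⟩ := hr
  have hB : D.isB (w (r + 1)) := (D.isB_walk hw.1 h0 _ le_rfl).2 ⟨m + 1, by omega⟩
  have hB' : D.isB (w (r - 1)) := (D.isB_walk hw.1 h0 _ (by omega)).2 ⟨m, by omega⟩
  have hB2 : D.isB (w 2) := (D.isB_walk hw.1 h0 _ (by omega)).2 even_two
  set u := E.z (w (r + 1))
  have htr : t • w r = w r := E.z_fix_walk hw.1 h0 (by omega) (by omega) (by omega) (by omega)
  have hu1 : u • w 1 = w 1 := E.z_fix_walk hw.1 hB le_rfl (by omega) (by omega) (by omega)
  have hadj : D.Adj (w r) (w (r + 1)) := hw.1 r (by omega)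
  have hu0 : u • w 0 ≠ w 0 := fun hfix =>
    hmv (E.fix_of_comm hB (D.symm hadj) htr (E.comm_of_fix h0 hfix).symm)
  have h01 := D.symm (hw.1 0 (by omega))
  have h12 := hw.1 1 (by omega)
  have n02 : w 0 ≠ w 2 := (hw.2 0 (by omega)).symm
  have nr : w (r + 1) ≠ w (r - 1) := by
    have := hw.2 (r - 1) (by omega)
    rwa [show r - 1 + 2 = r + 1 by omega] at this
  have hrm : D.Adj (w r) (w (r - 1)) := by
    have := D.symm (hw.1 (r - 1) (by omega))
    rwa [show r - 1 + 1 = r by omega] at this
  have hu2 : u • w 2 = w 2 := E.z_fix_walk hw.1 hB le_rfl (by omega) (by omega) (by omega)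
  have htr' : t • w (r - 1) = w (r - 1) :=
    E.z_fix_walk hw.1 h0 (by omega) (by omega) (by omega) (by omega)
  have e1 : t * (u * t * u) = E.z (w 2) := by
    rw [E.conj_z hB h0]
    exact E.z_triple h0 h01 (D.adj_fix hu1 h01) h12 hu0.symm n02 (CD.smul_ne hu2 n02)
  have e2 : u * (t * u * t) = E.z (w (r - 1)) := by
    rw [E.conj_z h0 hB]
    exact E.z_triple hB hadj (D.adj_fix htr hadj) hrm hmv.symm nr (CD.smul_ne htr' nr)
  refine ⟨?_, hB, hu0⟩
  rw [← E.z_inv hB2, ← e1, ← e2]
  simp only [mul_inv_rev, E.z_inv h0, E.z_inv hB, mul_assoc, t, u]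

theorem not_odd (hr : Odd E.r) (h5 : 5 ≤ E.r) : False := by
  obtain ⟨c, hc⟩ := D.exB
  obtain ⟨w, -, hM⟩ := E.exists_moved_at hc
  obtain ⟨he, hB, hu0⟩ := E.odd_eq hr hM (by omega)
  obtain ⟨hw, h0, hmv⟩ := hM
  set r := E.r with hr'
  set t := E.z (w 0)
  set u := E.z (w (r + 1))
  obtain ⟨m, hm⟩ := hr
  have hBr : ¬ D.isB (w r) := fun h => by
    have := (D.isB_walk hw.1 h0 r (by omega)).1 h
    obtain ⟨k, hk⟩ := this
    omega
  have hBe : ∀ e d, D.Adj (w 0) e → D.Adj e d → D.isB d := fun e d h1 h2 =>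
    D.isB_right h2 (D.not_isB h1 h0)
  have hfix : ∀ e d, D.Adj (w 0) e → D.Adj e d →
      E.z d • w (r - 1) = w (r - 1) ∧ E.z d • w r = w r := by
    intro e d he0 hed
    have hBd := hBe e d he0 hed
    by_cases h1 : e = w 1
    · subst h1
      have hv : D.Walk r (CD.cons d (fun i => w (1 + i))) :=
        ((D.walk_cons (n := r - 1) (w := fun i => w (1 + i)) (D.symm hed)
          (hw.1.shift 1 (by omega))).mono (by omega))
      refine ⟨?_, ?_⟩
      · have := E.z_fix_walk (i := 0) (j := r - 1) hv (by rwa [CD.cons_zero]) (by omega) (by omega)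
          (by omega) (by omega)
        rw [CD.cons_zero, show r - 1 = r - 2 + 1 by omega, CD.cons_succ] at this
        rwa [show 1 + (r - 2) = r - 1 by omega] at this
      · have := E.z_fix_walk (i := 0) (j := r) hv (by rwa [CD.cons_zero]) (by omega) (by omega)
          (by omega) (by omega)
        rw [CD.cons_zero, show r = r - 1 + 1 by omega, CD.cons_succ] at this
        rwa [show 1 + (r - 1) = r by omega] at this
    by_cases h2 : d = w 0
    · subst h2
      exact ⟨E.z_fix_walk hw.1 h0 (by omega) (by omega) (by omega) (by omega),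
        E.z_fix_walk hw.1 h0 (by omega) (by omega) (by omega) (by omega)⟩
    let v := CD.cons d (CD.cons e w)
    have hv : D.NB (r + 1 + 1 + 1) v :=
      D.nb_cons (by rw [CD.cons_zero]; exact D.symm hed)
        (D.nb_cons (D.symm he0) hw fun _ => Ne.symm h1)
        fun _ => by rw [CD.cons_succ]; exact Ne.symm h2
    have hv0 : v 0 = d := CD.cons_zero _ _
    have hvs : ∀ i, v (i + 2) = w i := fun i => by simp only [v, CD.cons_succ]
    have hlo : E.z d • w (r - 1) = w (r - 1) := by
      by_contra hmove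
      have hMv : E.Moved v := ⟨hv.mono (by omega), by rwa [hv0], by
        rw [hv0, ← hr', show r + 1 = r - 1 + 2 by omega, hvs]
        exact hmove⟩
      have h := (E.odd_eq ⟨m, hm⟩ hMv (by omega)).1
      rw [show (2 : ℕ) = 0 + 2 by rfl, hvs, ← hr', show r - 1 = r - 3 + 2 by omega, hvs] at h
      have hB3 : D.isB (w (r - 3)) := (D.isB_walk hw.1 h0 _ (by omega)).2 ⟨m - 1, by omega⟩
      apply hmv
      show E.z (w 0) • w (r + 1) = w (r + 1)
      rw [h]
      exact E.z_fix_walk hw.1 hB3 (by omega) le_rfl (by omega) (by omega)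
    refine ⟨hlo, ?_⟩
    by_contra hmove
    have hTr : Tr D (r + 1) := by
      refine E.tr_of (fun K _ hK => ?_) (by omega)
      by_cases hev : Even K
      · exact ⟨w, t, r + 1, hK, hw, iff_of_true hB hev,
          fun i hi => E.z_fix_walk hw.1 h0 (by omega) (by omega) (by omega) (by omega), hmv⟩
      · refine ⟨v, E.z d, r + 2, by omega, hv.mono (by omega), ?_, fun i hi => ?_, ?_⟩
        · rw [hvs]; exact iff_of_false hBr hev
        · by_cases hi' : i ≤ r
          · rw [← hv0]
            exact E.z_fix_walk hv.1 (by rwa [hv0]) (by omega) (by omega) (by omega) (by omega)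
          · rw [show i = r - 1 + 2 by omega, hvs]; exact hlo
        · rw [hvs]; exact hmove
    have := (E.moved_of_tr hTr (w := v) (hv.mono (by omega)) (by rwa [hv0])).2.2
    rw [hv0, ← hr', show r + 1 = r - 1 + 2 by omega, hvs] at this
    exact this hlo
  let S : Set X := {x | ∃ e d, D.Adj (w 0) e ∧ D.Adj e d ∧ x = E.z d}
  have h01 := hw.1 0 (by omega)
  have h12 := hw.1 1 (by omega)
  have hu : u ∈ CD.normK (Subgroup.closure S) := by
    have hgen : ∀ x ∈ Subgroup.closure S, u * x * u⁻¹ ∈ Subgroup.closure S := by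
      have hle : Subgroup.closure S ≤ (Subgroup.closure S).comap (MulAut.conj u).toMonoidHom := by
        rw [Subgroup.closure_le]
        rintro x ⟨e, d, he0, hed, rfl⟩
        show u * E.z d * u⁻¹ ∈ Subgroup.closure S
        obtain ⟨hlo, hhi⟩ := hfix e d he0 hed
        have hBd := hBe e d he0 hed
        have hadj : D.Adj (w r) (w (r + 1)) := hw.1 r (by omega)
        have hrm : D.Adj (w r) (w (r - 1)) := by
          have := D.symm (hw.1 (r - 1) (by omega))
          rwa [show r - 1 + 1 = r by omega] at this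
        have nr : w (r + 1) ≠ w (r - 1) := by
          have := hw.2 (r - 1) (by omega)
          rwa [show r - 1 + 2 = r + 1 by omega] at this
        have hB' : D.isB (w (r - 1)) := (D.isB_walk hw.1 h0 _ (by omega)).2 ⟨m, by omega⟩
        have hmem : E.z d ∈ Subgroup.closure S := Subgroup.subset_closure ⟨e, d, he0, hed, rfl⟩
        rw [E.z_inv hB]
        rcases E.z_sib hB' hrm hadj (D.adj_fix hhi hadj) nr (CD.smul_ne hlo nr) with h | h
        · rw [← E.conj_z hBd hB] at h
          change E.z d * u * E.z d = u at h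
          have e' : E.z d * u = u * E.z d := by
            calc E.z d * u = E.z d * u * E.z d * E.z d := by
                  rw [mul_assoc _ (E.z d), E.z_sq d hBd, mul_one]
              _ = u * E.z d := by rw [h]
          rw [mul_assoc, e', E.mul_left_z hB]
          exact hmem
        · rw [← E.conj_z hBd hB] at h
          have e' : E.z d * u = u * E.z (w (r - 1)) * E.z d := by
            rw [← h, mul_assoc, E.z_sq d hBd, mul_one]
          rw [mul_assoc, e', mul_assoc u, E.mul_left_z hB, ← he]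
          exact Subgroup.mul_mem _
            (Subgroup.subset_closure ⟨w 1, w 2, h01, h12, rfl⟩) hmem
      exact fun x hx => hle hx
    exact ⟨hgen, fun x hx => by
      have := hgen x hx
      rwa [E.z_inv hB] at this ⊢⟩
  have h0N : stabilizer X (w 0) ≤ CD.normK (Subgroup.closure S) := CD.le_normK fun g hg => by
    have hle : Subgroup.closure S ≤ (Subgroup.closure S).comap (MulAut.conj g).toMonoidHom := by
      rw [Subgroup.closure_le]
      rintro x ⟨e, d, he0, hed, rfl⟩
      exact Subgroup.subset_closure ⟨g • e, g • d, D.adj_fix (mem_stabilizer_iff.1 hg) he0,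
        D.adj_smul g _ _ hed, E.z_conj g d (hBe e d he0 hed)⟩
    exact fun x hx => hle hx
  have hu1 : u • w 1 = w 1 := E.z_fix_walk hw.1 hB le_rfl (by omega) (by omega) (by omega)
  have h1N : stabilizer X (w 1) ≤ CD.normK (Subgroup.closure S) :=
    D.stab_le_of (D.symm h01) (fun x hx => h0N hx.1) hu hu1 hu0
  have hS : Subgroup.closure S ≤ edgeGrp (w 0) (w 1) := by
    rw [Subgroup.closure_le]
    rintro x ⟨e, d, he0, hed, rfl⟩
    have hv : D.Walk 3 (CD.cons d (CD.cons e w)) :=
      D.walk_cons (by rw [CD.cons_zero]; exact D.symm hed)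
        (D.walk_cons (D.symm he0) (hw.1.mono (m := 1) (by omega)))
    have hBd : D.isB (CD.cons d (CD.cons e w) 0) := hBe e d he0 hed
    refine CD.mem_edge.2 ⟨?_, ?_⟩
    · exact E.z_fix_walk (i := 0) (j := 2) hv hBd (by omega) (by omega) (by omega) (by omega)
    · exact E.z_fix_walk (i := 0) (j := 3) hv hBd (by omega) (by omega) (by omega) (by omega)
  have hbot := D.eq_bot_of_normalized h01 hS h0N h1N
  have ht : t ∈ Subgroup.closure S := Subgroup.subset_closure ⟨w 1, w 0, h01, D.symm h01, rfl⟩
  rw [hbot, Subgroup.mem_bot] at ht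
  exact E.z_ne _ h0 ht

end CZ

end CfsgLib.LocalEven.AmalgamCentral
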