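import Cfsg.Agent.Lib.LocalEven.AmalgamCentral.Small
import Cfsg.Agent.Lib.LocalEven.AmalgamCentral.Odd
import Cfsg.Agent.Lib.LocalEven.AmalgamCentral.Four
import Cfsg.Agent.Lib.LocalEven.AmalgamCentral.Large

/-!
The edge groups of a centralizing cubic amalgam have order at most 128.
-/

set_option autoImplicit false

namespace CfsgLib.LocalEven.AmalgamCentral

open MulAction AmalgamZ

variable {X Ω : Type*} [Group X] [MulAction X Ω]

theorem CD.card_edge_le (D : CD X Ω) {a c : Ω} (h : D.Adj a c) (hc : D.isB c) :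
    Nat.card ↥(edgeGrp (X := X) a c) ≤ 128 := by
  obtain ⟨E⟩ := D.exists_CZ
  have hQ : Nat.card ↥(D.Q c) ≤ 64 := by
    rcases (show E.r = 2 ∨ E.r = 3 ∨ E.r = 4 ∨ 5 ≤ E.r by have := E.r2; omega) with hr | hr | hr | hr
    · exact E.card_Q_le_of_r_two hr hc
    · exact E.card_Q_le_of_r_three hr hc
    · exact E.card_Q_le_of_r_four hr hc
    · rcases Nat.even_or_odd E.r with hev | hodd
      · exact (E.not_even_six hev (by obtain ⟨j, hj⟩ := hev; omega)).elim
      · exact (E.not_odd hodd hr).elim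
  have := D.half a c h
  change Nat.card ↥(nbrKer X D.Adj c) ≤ 64 at hQ
  omega

end CfsgLib.LocalEven.AmalgamCentral
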