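import Cfsg.Agent.Lib.LocalEven.AmalgamCentral.Basic
import Cfsg.Agent.Lib.PGroup.Basic

/-!
The distinguished central involutions, their relations along short paths, transitivity on paths.
-/

set_option autoImplicit false

namespace CfsgLib.LocalEven.AmalgamCentral

open MulAction AmalgamZ

variable {X Ω : Type*} [Group X] [MulAction X Ω]

/-- An equivariant choice of a central involution at each vertex of the centralizing class, in the
kernel of the largest nontrivial radius. -/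
structure CZ (D : CD X Ω) where
  r : ℕ
  z : Ω → X
  r2 : 2 ≤ r
  z_mem : ∀ c, D.isB c → z c ∈ D.ker r c
  z_sq : ∀ c, D.isB c → z c * z c = 1
  z_ne : ∀ c, D.isB c → z c ≠ 1
  z_cent : ∀ c, D.isB c → ∀ g ∈ stabilizer X c, g * z c = z c * g
  z_conj : ∀ (g : X) (c : Ω), D.isB c → g * z c * g⁻¹ = z (g • c)
  max : ∀ c, D.isB c → D.ker (r + 1) c = ⊥

namespace CD

variable (D : CD X Ω)

theorem ker_le_of_conn (c v : Ω) : ∃ k, ∀ n, D.ker (n + k) c ≤ D.ker n v := by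
  induction D.conn c v with
  | refl => exact ⟨0, fun n => le_rfl⟩
  | @tail u u' _ huu' ih =>
    obtain ⟨k, hk⟩ := ih
    exact ⟨k + 1, fun n g hg =>
      (D.mem_ker_succ.1 (hk (n + 1) (by rwa [show n + 1 + k = n + (k + 1) by omega]))).2 _ huu'⟩

theorem exists_ker_eq_bot (c : Ω) : ∃ N, D.ker N c = ⊥ := by
  classical
  haveI := D.fin c
  haveI := Fintype.ofFinite ↥(stabilizer X c)
  let f : ↥(stabilizer X c) → ℕ := fun g => if h : ∃ n, (g : X) ∉ D.ker n c then h.choose else 0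
  refine ⟨Finset.univ.sup f, (Subgroup.eq_bot_iff_forall _).2 fun g hg => ?_⟩
  by_contra hne
  have h : ∃ n, g ∉ D.ker n c := by
    by_contra hcon
    push Not at hcon
    refine hne (D.faithful g fun v => ?_)
    obtain ⟨k, hk⟩ := D.ker_le_of_conn c v
    exact D.mem_ker_zero.1 (hk 0 (hcon _))
  have hgc : g ∈ stabilizer X c := mem_stabilizer_iff.2 (D.ker_fix_self hg)
  have hle : f ⟨g, hgc⟩ ≤ Finset.univ.sup f := Finset.le_sup (Finset.mem_univ _)
  simp only [f, dif_pos h] at hle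
  exact h.choose_spec (D.ker_antitone hle c hg)

theorem ker_eq_bot_smul {n : ℕ} {c : Ω} (h : D.ker n c = ⊥) (g : X) : D.ker n (g • c) = ⊥ := by
  refine (Subgroup.eq_bot_iff_forall _).2 fun x hx => ?_
  have := D.conj_mem_ker (g := g⁻¹) hx
  rw [inv_smul_smul, h, Subgroup.mem_bot, inv_inv] at this
  calc x = g * (g⁻¹ * x * g) * g⁻¹ := by group
    _ = 1 := by rw [this]; group

theorem exists_CZ : Nonempty (CZ D) := by
  classical
  haveI := Fact.mk Nat.prime_two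
  obtain ⟨c0, hc0⟩ := D.exB
  obtain ⟨N, hN⟩ := D.exists_ker_eq_bot c0
  have hex : ∃ n, D.ker (n + 1) c0 = ⊥ := ⟨N, eq_bot_iff.2 (hN ▸ D.ker_succ_le N c0)⟩
  let r := Nat.find hex
  have hmax : D.ker (r + 1) c0 = ⊥ := Nat.find_spec hex
  have hr : D.ker r c0 ≠ ⊥ ∧ 1 ≤ r := by
    rcases Nat.eq_zero_or_pos r with h | h
    · rw [h] at hmax
      exact absurd hmax (D.Q_ne_bot c0)
    · refine ⟨fun hb => ?_, h⟩
      exact Nat.find_min hex (show r - 1 < r by omega)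
        (by rwa [show r - 1 + 1 = r by omega])
  obtain ⟨a0, ha0⟩ := D.exists_adj c0
  let T := edgeGrp (X := X) a0 c0
  have hKT : D.ker r c0 ≤ T := (D.ker_antitone hr.2 c0).trans (D.Q_le_edge (D.symm ha0))
  haveI : ((D.ker r c0).subgroupOf T).Normal := ⟨fun x hx g => by
    rw [Subgroup.mem_subgroupOf] at hx ⊢
    simpa using D.conj_mem_ker_fix (mem_edge.1 g.2).2 hx⟩
  have hne : (D.ker r c0).subgroupOf T ≠ ⊥ := fun hb => hr.1 (by
    rw [Subgroup.subgroupOf_eq_bot, disjoint_iff, inf_eq_left.2 hKT] at hb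
    exact hb)
  have hTp := D.twogroup a0 c0 (D.symm ha0)
  haveI := D.finite_edge a0 c0
  obtain ⟨⟨w, hwT⟩, ⟨hwK, hwc⟩, hord⟩ :=
    CfsgLib.PGroup.exists_orderOf_eq hTp (CfsgLib.PGroup.inf_center_ne_bot hTp _ hne)
  rw [Subgroup.orderOf_mk] at hord
  have hwK : w ∈ D.ker r c0 := hwK
  have hw2 : w * w = 1 := by rw [← pow_two, ← hord]; exact pow_orderOf_eq_one w
  have hwne : w ≠ 1 := fun e => by simp [e] at hord
  have hcen : ∀ g ∈ stabilizer X c0, g * w = w * g :=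
    D.central a0 c0 (D.symm ha0) hc0 w hwT hw2 fun t ht =>
      congrArg Subtype.val (Subgroup.mem_center_iff.1 hwc ⟨t, ht⟩)
  have hbot : ∀ c, D.isB c → D.ker (r + 1) c = ⊥ := fun c hc => by
    obtain ⟨g, rfl⟩ := D.exists_smul_eq hc0 hc
    exact D.ker_eq_bot_smul hmax g
  let z : Ω → X := fun c =>
    if h : ∃ g : X, g • c0 = c then h.choose * w * h.choose⁻¹ else 1
  have hz : ∀ g : X, z (g • c0) = g * w * g⁻¹ := by
    intro g
    have h : ∃ k : X, k • c0 = g • c0 := ⟨g, rfl⟩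
    simp only [z, dif_pos h]
    have hk := h.choose_spec
    have he := hcen (g⁻¹ * h.choose) (mem_stabilizer_iff.2 (by rw [mul_smul, hk, inv_smul_smul]))
    calc h.choose * w * h.choose⁻¹
        = g * ((g⁻¹ * h.choose) * w) * h.choose⁻¹ := by group
      _ = g * (w * (g⁻¹ * h.choose)) * h.choose⁻¹ := by rw [he]
      _ = g * w * g⁻¹ := by group
  have key : ∀ c, D.isB c → ∃ g : X, g • c0 = c := fun c hc => D.exists_smul_eq hc0 hc
  have hmem : ∀ c, D.isB c → z c ∈ D.ker r c := fun c hc => by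
    obtain ⟨g, rfl⟩ := key c hc
    rw [hz]; exact D.conj_mem_ker hwK
  have hcent : ∀ c, D.isB c → ∀ g ∈ stabilizer X c, g * z c = z c * g := fun c hc k hk => by
    obtain ⟨g, rfl⟩ := key c hc
    rw [hz]
    have he := hcen (g⁻¹ * k * g) (mem_stabilizer_iff.2 (by
      rw [mul_smul, mul_smul, mem_stabilizer_iff.1 hk, inv_smul_smul]))
    calc k * (g * w * g⁻¹) = g * ((g⁻¹ * k * g) * w) * g⁻¹ := by group
      _ = g * (w * (g⁻¹ * k * g)) * g⁻¹ := by rw [he]
      _ = g * w * g⁻¹ * k := by group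
  have hne1 : ∀ c, D.isB c → z c ≠ 1 := fun c hc => by
    obtain ⟨g, rfl⟩ := key c hc
    rw [hz]
    exact fun e => hwne (by simpa using e)
  have hr2 : 2 ≤ r := by
    by_contra hlt
    refine hne1 c0 hc0 ?_
    have h2 : z c0 ∈ D.ker 2 c0 := by
      refine D.mem_ker_succ.2 ⟨D.ker_fix_self (hmem c0 hc0), fun a ha => ?_⟩
      have hza : z c0 • a = a :=
        (D.mem_Q.1 (D.ker_antitone hr.2 c0 (hmem c0 hc0))).2 a ha
      exact D.char a _ (mem_stabilizer_iff.2 hza) fun x hx =>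
        (hcent c0 hc0 x (mem_stabilizer_iff.2 ((D.mem_Q.1 hx).2 c0 (D.symm ha)))).symm
    have := D.ker_antitone (show r + 1 ≤ 2 by omega) c0 h2
    rwa [hmax, Subgroup.mem_bot] at this
  exact ⟨⟨r, z, hr2, hmem, fun c hc => by
    obtain ⟨g, rfl⟩ := key c hc
    rw [hz]
    calc g * w * g⁻¹ * (g * w * g⁻¹) = g * (w * w) * g⁻¹ := by group
      _ = 1 := by rw [hw2]; group,
    hne1, hcent, fun k c hc => by
    obtain ⟨g, rfl⟩ := key c hc
    rw [hz, ← mul_smul, hz]; group, hbot⟩⟩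

/-- A walk of length four given by its vertices. -/
def seq5 (a b c d e : Ω) : ℕ → Ω
  | 0 => a
  | 1 => b
  | 2 => c
  | 3 => d
  | _ => e

theorem nb_seq5 {a b c d e : Ω} (h1 : D.Adj a b) (h2 : D.Adj b c) (h3 : D.Adj c d) (h4 : D.Adj d e)
    (n1 : c ≠ a) (n2 : d ≠ b) (n3 : e ≠ c) : D.NB 4 (seq5 a b c d e) := by
  refine ⟨fun i hi => ?_, fun i hi => ?_⟩
  · interval_cases i <;> assumption
  · have hi' : i ≤ 2 := by omega
    interval_cases i <;> assumption

/-- The intersection of the kernels of two adjacent vertices. -/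
abbrev H (a c : Ω) : Subgroup X := D.Q a ⊓ D.Q c

theorem conj_mem_H {g x : X} {a c : Ω} (h : x ∈ D.H a c) :
    g * x * g⁻¹ ∈ D.H (g • a) (g • c) :=
  ⟨D.conj_mem_Q h.1, D.conj_mem_Q h.2⟩

theorem card_H_eq {a a' c : Ω} (ha : D.Adj c a) (ha' : D.Adj c a') :
    Nat.card ↥(D.H a c) = Nat.card ↥(D.H a' c) := by
  obtain ⟨g, hg, rfl⟩ := D.trans c a a' ha ha'
  have hg' : g⁻¹ • c = c := inv_smul_eq_iff.2 (mem_stabilizer_iff.1 hg).symm
  refine Nat.card_congr
    { toFun := fun x => ⟨g * x * g⁻¹, by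
        have := D.conj_mem_H (g := g) x.2
        rwa [mem_stabilizer_iff.1 hg] at this⟩
      invFun := fun x => ⟨g⁻¹ * x * g, by
        have := D.conj_mem_H (g := g⁻¹) x.2
        rwa [inv_smul_smul, hg', inv_inv] at this⟩
      left_inv := fun x => Subtype.ext (by group)
      right_inv := fun x => Subtype.ext (by group) }

/-- The intersections with the kernels of the neighbours differ. -/
def NE : Prop :=
  ∀ c a a', D.isB c → D.Adj c a → D.Adj c a' → a ≠ a' → D.H a c ≠ D.H a' c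

theorem ne_of_pair {c a a' : Ω} (hc : D.isB c) (ha : D.Adj c a) (ha' : D.Adj c a') (hne : a ≠ a')
    (h : D.H a c ≠ D.H a' c) : D.NE := by
  intro c₁ a₁ a₁' hc₁ ha₁ ha₁' hne₁ he
  obtain ⟨g, hgc, hga⟩ := D.exists_smul_arc hc₁ hc ha₁ ha
  have hga' : g • a₁' ≠ a := fun e => hne₁ (smul_left_cancel g (hga.trans e.symm))
  have hadj : D.Adj c (g • a₁') := hgc ▸ D.adj_smul g _ _ ha₁'
  obtain ⟨k, hk, hka⟩ := D.exists_swap ha hadj ha' hga' hne.symm
  have key : ∀ b b', D.H b c₁ ≤ D.H b' c₁ → D.H ((k * g) • b) c ≤ D.H ((k * g) • b') c := by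
    intro b b' hle x hx
    have e : (k * g) • c₁ = c := by rw [mul_smul, hgc, (mem_edge.1 hk).2]
    have e' : (k * g)⁻¹ • c = c₁ := inv_smul_eq_iff.2 e.symm
    have h1 := D.conj_mem_H (g := (k * g)⁻¹) hx
    rw [inv_smul_smul, e'] at h1
    have h2 := D.conj_mem_H (g := k * g) (hle h1)
    rw [e] at h2
    simpa [mul_assoc] using h2
  have e1 : (k * g) • a₁ = a := by rw [mul_smul, hga, (mem_edge.1 hk).1]
  have e2 : (k * g) • a₁' = a' := by rw [mul_smul, hka]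
  refine h (le_antisymm ?_ ?_)
  · rw [← e1, ← e2]; exact key _ _ he.le
  · rw [← e1, ← e2]; exact key _ _ he.ge

theorem exists_mem_H_not {a a' c : Ω} (hNE : D.NE) (hc : D.isB c) (ha : D.Adj c a) (ha' : D.Adj c a')
    (hne : a ≠ a') : ∃ x ∈ D.H a c, x ∉ D.Q a' := by
  by_contra hcon
  push Not at hcon
  haveI := D.finite_of_le (inf_le_right.trans (D.Q_le_stab c) : D.H a' c ≤ stabilizer X c)
  exact hNE c a a' hc ha ha' hne
    (Subgroup.eq_of_le_of_card_ge (fun x hx => ⟨hcon x hx, hx.2⟩) (D.card_H_eq ha ha').ge)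

theorem card_Q_le_two_H {a c : Ω} (h : D.Adj c a) :
    Nat.card ↥(D.Q c) ≤ 2 * Nat.card ↥(D.Q c ⊓ D.Q a : Subgroup X) := by
  haveI := D.finite_of_le (inf_le_left.trans (D.Q_le_stab c) : D.Q c ⊓ D.Q a ≤ stabilizer X c)
  exact card_le_two_mul fun x hx y hy hxA hyA => D.inv_mul_mem_Q h
    (mem_edge.2 ⟨(D.mem_Q.1 hx).1, (D.mem_Q.1 hx).2 a h⟩)
    (mem_edge.2 ⟨(D.mem_Q.1 hy).1, (D.mem_Q.1 hy).2 a h⟩) hxA hyA

/-- A subgroup of `K` containing a kernel and an element of `X_c` moving its vertex contains `X_c`. -/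
theorem stab_le_of_Q (hNE : D.NE) {a c : Ω} (hc : D.isB c) (ha : D.Adj c a) {K : Subgroup X}
    (hQ : D.Q a ≤ K) {d : X} (hdK : d ∈ K) (hdc : d • c = c) (hda : d • a ≠ a) :
    stabilizer X c ≤ K := by
  have hda' : D.Adj c (d • a) := D.adj_fix hdc ha
  have hQd : D.Q (d • a) ≤ K := by
    intro x hx
    have h1 := D.conj_mem_Q (g := d⁻¹) hx
    rw [inv_smul_smul, inv_inv] at h1
    have := K.mul_mem (K.mul_mem hdK (hQ h1)) (K.inv_mem hdK)
    simpa [mul_assoc] using this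
  have hedge : ∀ x ∈ D.Q c, x ∈ edgeGrp (X := X) c a := fun x hx =>
    mem_edge.2 ⟨(D.mem_Q.1 hx).1, (D.mem_Q.1 hx).2 a ha⟩
  have hQc : D.Q c ≤ K := by
    intro x hx
    by_cases hxa : x ∈ D.Q a
    · exact hQ hxa
    obtain ⟨y, hy, hya⟩ := D.exists_mem_H_not hNE hc hda' ha hda
    have := D.mul_mem_Q ha (hedge x hx) (hedge y hy.2) hxa hya
    simpa using K.mul_mem (hQ this) (K.inv_mem (hQd hy.1))
  have hE : edgeGrp (X := X) a c ≤ K := by
    intro g hg
    by_cases hgc : g ∈ D.Q c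
    · exact hQc hgc
    obtain ⟨q, hq, hqc⟩ := D.exists_mem_Q_not (D.symm ha)
    have := D.mul_mem_Q (D.symm ha) hg
      (mem_edge.2 ⟨(D.mem_Q.1 hq).1, (D.mem_Q.1 hq).2 c (D.symm ha)⟩) hgc hqc
    simpa using K.mul_mem (hQc this) (K.inv_mem (hQ hq))
  exact D.stab_le_of ha hE hdK hdc hda

/-- Subgroups attached to two neighbours of a vertex, each centralized by a mover, meet trivially. -/
theorem inf_eq_bot (hNE : D.NE) {a c c' : Ω} (ha : D.Adj c a) (ha' : D.Adj c' a) (hc : D.isB c)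
    (hne : c ≠ c') {S S' : Subgroup X} (hSa : S ≤ edgeGrp a c)
    (hS : D.Q a ≤ normK S) (hS' : D.Q a ≤ normK S')
    (hd : ∃ d : X, d • c = c ∧ d • a ≠ a ∧ ∀ x ∈ S, d * x = x * d)
    (hd' : ∃ d : X, d • c' = c' ∧ d • a ≠ a ∧ ∀ x ∈ S', d * x = x * d) : S ⊓ S' = ⊥ := by
  have hc' : D.isB c' := D.isB_right (D.symm ha') (D.not_isB ha hc)
  obtain ⟨d, hdc, hda, hdS⟩ := hd
  obtain ⟨d', hdc', hda', hdS'⟩ := hd'
  have hQ : D.Q a ≤ normK (S ⊓ S') := fun g hg =>
    ⟨fun x hx => ⟨(hS hg).1 x hx.1, (hS' hg).1 x hx.2⟩,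
      fun x hx => ⟨(hS hg).2 x hx.1, (hS' hg).2 x hx.2⟩⟩
  have hcomm : ∀ (e : X), (∀ x ∈ S ⊓ S', e * x = x * e) → e ∈ normK (S ⊓ S') := fun e he =>
    ⟨fun x hx => by rw [he x hx, mul_inv_cancel_right]; exact hx,
      fun x hx => by rw [mul_assoc, ← he x hx, inv_mul_cancel_left]; exact hx⟩
  have h1 := D.stab_le_of_Q hNE hc ha hQ (hcomm d fun x hx => hdS x hx.1) hdc hda
  have h2 := D.stab_le_of_Q hNE hc' ha' hQ (hcomm d' fun x hx => hdS' x hx.2) hdc' hda'
  obtain ⟨g, hg, hgQ⟩ := D.exists_not_mem_Q ha'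
  refine D.eq_bot_of_normalized (D.symm ha) (inf_le_left.trans hSa) ?_ h1
  refine D.stab_le_of (D.symm ha) (fun x hx => h1 hx.1) (h2 hg.1) (mem_edge.1 hg).2 ?_
  exact D.moves_of_not_mem_Q (D.symm ha') (D.symm ha) hne.symm (mem_edge.1 hg).2 (mem_edge.1 hg).1 hgQ

end CD

namespace CZ

variable {D : CD X Ω} (E : CZ D)

theorem z_fix_walk {L i j : ℕ} {w : ℕ → Ω} (hw : D.Walk L w) (hB : D.isB (w i)) (hi : i ≤ L)
    (hj : j ≤ L) (h1 : i ≤ j + E.r) (h2 : j ≤ i + E.r) : E.z (w i) • w j = w j :=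
  D.ker_fix hw (E.z_mem _ hB) hi hj h1 h2

theorem z_fix {c : Ω} (hc : D.isB c) : E.z c • c = c := D.ker_fix_self (E.z_mem c hc)

theorem z_mem_Q {c : Ω} (hc : D.isB c) : E.z c ∈ D.Q c :=
  D.ker_antitone (show 1 ≤ E.r from le_trans (by norm_num) E.r2) c (E.z_mem c hc)

theorem z_mem_Q_nbr {a c : Ω} (hc : D.isB c) (ha : D.Adj c a) : E.z c ∈ D.Q a :=
  (D.mem_ker_succ.1 (D.ker_antitone E.r2 c (E.z_mem c hc))).2 a ha

theorem z_inv {c : Ω} (hc : D.isB c) : (E.z c)⁻¹ = E.z c :=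
  inv_eq_of_mul_eq_one_right (E.z_sq c hc)

theorem comm_of_fix {g : X} {c : Ω} (hc : D.isB c) (hg : g • c = c) : g * E.z c = E.z c * g :=
  E.z_cent c hc g (mem_stabilizer_iff.2 hg)

theorem conj_z {c c' : Ω} (hc : D.isB c) (hc' : D.isB c') :
    E.z c * E.z c' * E.z c = E.z (E.z c • c') := by
  rw [← E.z_conj _ _ hc', E.z_inv hc]

theorem z_smul_eq {g : X} {c : Ω} (hc : D.isB c) (h : g * E.z c = E.z c * g) :
    E.z (g • c) = E.z c := by
  rw [← E.z_conj g c hc, h, mul_inv_cancel_right]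

theorem mul_left_z {c : Ω} (hc : D.isB c) (x : X) : E.z c * (E.z c * x) = x := by
  rw [← mul_assoc, E.z_sq c hc, one_mul]

theorem comm_walk {L i j : ℕ} {w : ℕ → Ω} (hw : D.Walk L w) (hBi : D.isB (w i)) (hBj : D.isB (w j))
    (hi : i ≤ L) (hj : j ≤ L) (h1 : i ≤ j + E.r) (h2 : j ≤ i + E.r) :
    E.z (w i) * E.z (w j) = E.z (w j) * E.z (w i) :=
  E.comm_of_fix hBj (E.z_fix_walk hw hBi hi hj h1 h2)

theorem comm_nbrs {a c c' : Ω} (hc : D.isB c) (ha : D.Adj c a) (ha' : D.Adj a c') :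
    E.z c * E.z c' = E.z c' * E.z c :=
  E.comm_of_fix (D.isB_right ha' (D.not_isB ha hc)) ((D.mem_Q.1 (E.z_mem_Q_nbr hc ha)).2 c' ha')

theorem ne_of_nbr {a c c' : Ω} (hc : D.isB c) (ha : D.Adj c a) (ha' : D.Adj a c') (hne : c ≠ c') :
    E.z c ≠ E.z c' := by
  intro he
  refine E.z_ne c hc ?_
  obtain ⟨g, hg, hgQ⟩ := D.exists_not_mem_Q (D.symm ha')
  obtain ⟨hgc', hga⟩ := CD.mem_edge.1 hg
  have hc' : D.isB c' := D.isB_right ha' (D.not_isB ha hc)
  have hcen : stabilizer X a ≤ Subgroup.centralizer {E.z c} := by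
    refine D.stab_le_of (D.symm ha) (fun t ht => ?_) (g := g) ?_ hga
      (D.moves_of_not_mem_Q ha' (D.symm ha) hne.symm hga hgc' hgQ)
    · exact Subgroup.mem_centralizer_singleton_iff.2 (E.comm_of_fix hc (CD.mem_edge.1 ht).1)
    · rw [he]; exact Subgroup.mem_centralizer_singleton_iff.2 (E.comm_of_fix hc' hgc')
  have hle : ∀ g : X, g * E.z c = E.z c * g → g ∈ CD.normK (Subgroup.zpowers (E.z c)) := by
    intro g hg
    refine ⟨fun x hx => ?_, fun x hx => ?_⟩ <;> obtain ⟨n, rfl⟩ := hx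
    · rw [(Commute.zpow_right hg n).eq, mul_inv_cancel_right]; exact ⟨n, rfl⟩
    · rw [mul_assoc, ← (Commute.zpow_right hg n).eq, inv_mul_cancel_left]; exact ⟨n, rfl⟩
  have := D.eq_bot_of_normalized (D.symm ha) (K := Subgroup.zpowers (E.z c))
    (Subgroup.zpowers_le.2 (CD.mem_edge.2 ⟨(D.mem_Q.1 (E.z_mem_Q_nbr hc ha)).1, E.z_fix hc⟩))
    (fun g hg => hle g (Subgroup.mem_centralizer_singleton_iff.1 (hcen hg)))
    (fun g hg => hle g (E.z_cent c hc g hg))
  rwa [Subgroup.zpowers_eq_bot] at this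

/-- An element fixing a vertex and commuting with the involution of a neighbour fixes it. -/
theorem fix_of_comm {g : X} {a c : Ω} (hc : D.isB c) (ha : D.Adj c a) (hga : g • a = a)
    (h : g * E.z c = E.z c * g) : g • c = c := by
  by_contra hne
  exact E.ne_of_nbr hc ha (D.adj_fix hga (D.symm ha)) (Ne.symm hne) (E.z_smul_eq hc h).symm

theorem z_triple {a c1 c2 c3 : Ω} (hc1 : D.isB c1) (h1 : D.Adj a c1) (h2 : D.Adj a c2)
    (h3 : D.Adj a c3) (n12 : c1 ≠ c2) (n13 : c1 ≠ c3) (n23 : c2 ≠ c3) :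
    E.z c1 * E.z c2 = E.z c3 := by
  have hB : ∀ u, D.Adj a u → D.isB u := fun u hu =>
    D.isB_right hu (D.not_isB (D.symm h1) hc1)
  have hQ : ∀ u, D.Adj a u → E.z u ∈ D.Q a := fun u hu => E.z_mem_Q_nbr (hB u hu) (D.symm hu)
  have hC : ∀ u v, D.Adj a u → D.Adj a v → E.z u * E.z v = E.z v * E.z u := fun u v hu hv =>
    E.comm_nbrs (hB u hu) (D.symm hu) hv
  let p := E.z c1 * E.z c2 * E.z c3
  have hperm : ∀ x y w, D.Adj a x → D.Adj a y → D.Adj a w → x ≠ y → x ≠ w → y ≠ w →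
      E.z x * E.z y * E.z w = p := by
    intro x y w hx hy hw hxy hxw hyw
    have c12 := hC c1 c2 h1 h2
    have c13 := hC c1 c3 h1 h3
    have c23 := hC c2 c3 h2 h3
    have e123 : E.z c1 * E.z c2 * E.z c3 = p := rfl
    have e132 : E.z c1 * E.z c3 * E.z c2 = p := by rw [mul_assoc, ← c23, ← mul_assoc]
    have e213 : E.z c2 * E.z c1 * E.z c3 = p := by rw [← c12]
    have e231 : E.z c2 * E.z c3 * E.z c1 = p := by
      rw [mul_assoc, ← c13, ← mul_assoc, ← c12]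
    have e312 : E.z c3 * E.z c1 * E.z c2 = p := by
      rw [← c13, mul_assoc, ← c23, ← mul_assoc]
    have e321 : E.z c3 * E.z c2 * E.z c1 = p := by
      rw [← c23, mul_assoc, ← c13, ← mul_assoc, ← c12]
    rcases D.nbr_cases h1 h2 h3 n12 n13 n23 hx with hx' | hx' | hx' <;>
      rcases D.nbr_cases h1 h2 h3 n12 n13 n23 hy with hy' | hy' | hy' <;>
      rcases D.nbr_cases h1 h2 h3 n12 n13 n23 hw with hw' | hw' | hw' <;>
      rw [hx', hy', hw'] <;>
      first
        | exact absurd (hx'.trans hy'.symm) hxy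
        | exact absurd (hx'.trans hw'.symm) hxw
        | exact absurd (hy'.trans hw'.symm) hyw
        | exact e123
        | exact e132
        | exact e213
        | exact e231
        | exact e312
        | exact e321
  have hfix : ∀ g ∈ stabilizer X a, g * p * g⁻¹ = p := by
    intro g hg
    rw [mem_stabilizer_iff] at hg
    calc g * p * g⁻¹ = (g * E.z c1 * g⁻¹) * (g * E.z c2 * g⁻¹) * (g * E.z c3 * g⁻¹) := by
          simp only [p]; group
      _ = E.z (g • c1) * E.z (g • c2) * E.z (g • c3) := by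
          rw [E.z_conj g _ hc1, E.z_conj g _ (hB c2 h2), E.z_conj g _ (hB c3 h3)]
      _ = p := hperm _ _ _ (D.adj_fix hg h1) (D.adj_fix hg h2) (D.adj_fix hg h3)
          (fun e => n12 (smul_left_cancel g e)) (fun e => n13 (smul_left_cancel g e))
          (fun e => n23 (smul_left_cancel g e))
  have hpQ : p ∈ D.Q a := mul_mem (mul_mem (hQ c1 h1) (hQ c2 h2)) (hQ c3 h3)
  have hp2 : p * p = 1 := by
    have e1 : E.z c2 * E.z c3 * E.z c1 = p := hperm _ _ _ h2 h3 h1 n23 n12.symm n13.symm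
    have e2 : E.z c3 * E.z c2 * E.z c1 = p := hperm _ _ _ h3 h2 h1 n23.symm n13.symm n12.symm
    calc p * p = E.z c1 * E.z c2 * E.z c3 * (E.z c3 * E.z c2 * E.z c1) := by rw [e2]
      _ = E.z c1 * (E.z c2 * (E.z c3 * E.z c3) * E.z c2) * E.z c1 := by group
      _ = 1 := by rw [E.z_sq _ (hB c3 h3), mul_one, E.z_sq _ (hB c2 h2), mul_one, E.z_sq _ hc1]
  have hedge : p ∈ edgeGrp (X := X) a c1 :=
    CD.mem_edge.2 ⟨(D.mem_Q.1 hpQ).1, (D.mem_Q.1 hpQ).2 c1 h1⟩
  have hcomm : ∀ g : X, g * p * g⁻¹ = p → g * p = p * g := fun g => mul_inv_eq_iff_eq_mul.1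
  have hc : ∀ g ∈ stabilizer X c1, g * p = p * g :=
    D.central a c1 h1 hc1 p hedge hp2 fun t ht => hcomm t (hfix t ht.1)
  have hle : ∀ g : X, g * p = p * g → g ∈ CD.normK (Subgroup.zpowers p) := by
    intro g hg
    refine ⟨fun x hx => ?_, fun x hx => ?_⟩ <;> obtain ⟨n, rfl⟩ := hx
    · rw [(Commute.zpow_right hg n).eq, mul_inv_cancel_right]; exact ⟨n, rfl⟩
    · rw [mul_assoc, ← (Commute.zpow_right hg n).eq, inv_mul_cancel_left]; exact ⟨n, rfl⟩
  have hbot := D.eq_bot_of_normalized h1 (Subgroup.zpowers_le.2 hedge)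
    (fun g hg => hle g (hcomm g (hfix g hg))) (fun g hg => hle g (hc g hg))
  rw [Subgroup.zpowers_eq_bot] at hbot
  calc E.z c1 * E.z c2 = p * (E.z c3)⁻¹ := by simp only [p]; group
    _ = E.z c3 := by rw [hbot, one_mul, E.z_inv (hB c3 h3)]

/-- The involutions of the neighbours other than `x` form one coset of that of `x`. -/
theorem z_sib {a x d d' : Ω} (hx : D.isB x) (hax : D.Adj a x) (hd : D.Adj a d) (hd' : D.Adj a d')
    (hdx : d ≠ x) (hdx' : d' ≠ x) : E.z d' = E.z d ∨ E.z d' = E.z d * E.z x := by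
  by_cases h : d' = d
  · exact Or.inl (by rw [h])
  · exact Or.inr (E.z_triple (D.isB_right hd (D.not_isB (D.symm hax) hx)) hd hax hd' hdx
      (Ne.symm h) hdx'.symm).symm

theorem ne_of_four {c a m a' c' : Ω} (hc : D.isB c) (h1 : D.Adj c a) (h2 : D.Adj a m)
    (h3 : D.Adj m a') (h4 : D.Adj a' c') (n1 : m ≠ c) (n2 : a' ≠ a) (n3 : c' ≠ m) :
    E.z c ≠ E.z c' := by
  intro he
  have hm : D.isB m := D.isB_right h2 (D.not_isB h1 hc)
  have hc' : D.isB c' := D.isB_right h4 (D.not_isB h3 hm)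
  obtain ⟨e, hea, hec, hem⟩ := D.exists_third (D.symm h1) h2
  obtain ⟨e', hea', hec', hem'⟩ := D.exists_third h4 (D.symm h3)
  let K := Subgroup.closure ({E.z c, E.z m} : Set X)
  have hKmem : E.z c ∈ K ∧ E.z m ∈ K :=
    ⟨Subgroup.subset_closure (by simp), Subgroup.subset_closure (by simp)⟩
  have key : ∀ b x y w, D.isB x → D.Adj b x → D.Adj b y → D.Adj b w → x ≠ y → x ≠ w → y ≠ w →
      E.z x ∈ K → E.z y ∈ K → ∀ u, D.Adj b u → E.z u ∈ K := by
    intro b x y w hx hbx hby hbw hxy hxw hyw hxK hyK u hu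
    rcases D.nbr_cases hbx hby hbw hxy hxw hyw hu with rfl | rfl | rfl
    · exact hxK
    · exact hyK
    · rw [← E.z_triple hx hbx hby hu hxy hxw hyw]; exact K.mul_mem hxK hyK
  have hKa : ∀ u, D.Adj a u → E.z u ∈ K :=
    key a c m e hc (D.symm h1) h2 hea n1.symm hec.symm hem.symm hKmem.1 hKmem.2
  have hKa' : ∀ u, D.Adj a' u → E.z u ∈ K :=
    key a' c' m e' hc' h4 (D.symm h3) hea' n3 hec'.symm hem'.symm (he ▸ hKmem.1) hKmem.2
  have norm : ∀ g : X, E.z (g • c) ∈ K → E.z (g • m) ∈ K → ∀ x ∈ K, g * x * g⁻¹ ∈ K := by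
    intro g h h'
    have hle : K ≤ K.comap (MulAut.conj g).toMonoidHom := by
      rw [Subgroup.closure_le]
      rintro x (rfl | rfl)
      · show g * E.z c * g⁻¹ ∈ K
        rw [E.z_conj g c hc]; exact h
      · show g * E.z m * g⁻¹ ∈ K
        rw [E.z_conj g m hm]; exact h'
    exact fun x hx => hle hx
  have na : stabilizer X a ≤ CD.normK K := CD.le_normK fun g hg =>
    norm g (hKa _ (D.adj_fix (mem_stabilizer_iff.1 hg) (D.symm h1)))
      (hKa _ (D.adj_fix (mem_stabilizer_iff.1 hg) h2))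
  have na' : stabilizer X a' ≤ CD.normK K := CD.le_normK fun g hg => by
    have hg' := mem_stabilizer_iff.1 hg
    refine norm g ?_ (hKa' _ (D.adj_fix hg' (D.symm h3)))
    rw [← E.z_conj g c hc, he, E.z_conj g c' hc']
    exact hKa' _ (D.adj_fix hg' h4)
  obtain ⟨g, hg, hgQ⟩ := D.exists_not_mem_Q (D.symm h3)
  have nm : stabilizer X m ≤ CD.normK K :=
    D.stab_le_of (D.symm h2) (fun t ht => na ht.1) (na' hg.1) (CD.mem_edge.1 hg).2
      (D.moves_of_not_mem_Q h3 (D.symm h2) n2 (CD.mem_edge.1 hg).2 (CD.mem_edge.1 hg).1 hgQ)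
  have hKQ : K ≤ edgeGrp a m := by
    rw [Subgroup.closure_le]
    rintro x (rfl | rfl)
    · exact D.Q_le_edge (D.symm h2) (E.z_mem_Q_nbr hc h1) |> fun hx =>
        CD.mem_edge.2 ⟨(CD.mem_edge.1 hx).2, (CD.mem_edge.1 hx).1⟩
    · exact D.Q_le_edge h2 (E.z_mem_Q hm)
  have hbot := D.eq_bot_of_normalized h2 hKQ na nm
  exact E.z_ne c hc (Subgroup.mem_bot.1 (hbot ▸ hKmem.1))

/-- An element fixing a vertex and commuting with the involution of a vertex at distance two fixes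
the connecting path. -/
theorem fix_of_comm₂ {g : X} {m a c : Ω} (hc : D.isB c) (h1 : D.Adj c a) (h2 : D.Adj a m)
    (n1 : m ≠ c) (hg : g • m = m) (h : g * E.z c = E.z c * g) : g • a = a ∧ g • c = c := by
  have hga : g • a = a := by
    by_contra hne
    refine E.ne_of_four hc h1 h2 (D.adj_fix hg (D.symm h2)) ?_ n1 hne ?_ (E.z_smul_eq hc h).symm
    · exact D.adj_smul g _ _ (D.symm h1)
    · exact CD.smul_ne hg n1.symm
  exact ⟨hga, E.fix_of_comm hc h1 hga h⟩

/-! ### Moved paths -/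

/-- A path along which the involution of the origin moves the end. -/
def Moved (w : ℕ → Ω) : Prop :=
  D.NB (E.r + 1) w ∧ D.isB (w 0) ∧ E.z (w 0) • w (E.r + 1) ≠ w (E.r + 1)

theorem moved_congr {w w' : ℕ → Ω} (h : E.Moved w) (he : ∀ i, i ≤ E.r + 1 → w' i = w i) :
    E.Moved w' := by
  refine ⟨h.1.congr he, ?_, ?_⟩
  · rw [he 0 (by omega)]; exact h.2.1
  · rw [he 0 (by omega), he _ le_rfl]; exact h.2.2

theorem moved_smul {w : ℕ → Ω} (h : E.Moved w) (g : X) : E.Moved (fun i => g • w i) := by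
  refine ⟨h.1.smul g, (D.isB_smul g _).2 h.2.1, fun e => h.2.2 ?_⟩
  dsimp only at e
  rw [← E.z_conj g _ h.2.1, mul_smul, mul_smul, inv_smul_smul] at e
  exact smul_left_cancel g e

theorem exists_moved_at {c : Ω} (hc : D.isB c) : ∃ w, w 0 = c ∧ E.Moved w := by
  obtain ⟨w, hw0, hw, hmv⟩ := D.exists_moved (E.z_mem c hc) (by
    rw [E.max c hc, Subgroup.mem_bot]; exact E.z_ne c hc)
  exact ⟨w, hw0, hw, by rw [hw0]; exact hc, by rw [hw0]; exact hmv⟩

theorem exists_moved_through {c : Ω} (hc : D.isB c) {k : ℕ} (hk : k ≤ E.r + 1) (hev : Even k) :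
    ∃ w, w k = c ∧ E.Moved w := by
  obtain ⟨w, -, hw⟩ := E.exists_moved_at hc
  obtain ⟨g, hg⟩ := D.exists_smul_eq ((D.isB_walk hw.1.1 hw.2.1 k hk).2 hev) hc
  exact ⟨_, hg, E.moved_smul hw g⟩

/-! ### Transitivity on paths -/

/-- The paths of a given length starting in the centralizing class are conjugate. -/
def Tr (D : CD X Ω) (K : ℕ) : Prop :=
  ∀ w w' : ℕ → Ω, D.NB K w → D.NB K w' → D.isB (w 0) → D.isB (w' 0) →
    ∃ g : X, ∀ i, i ≤ K → g • w i = w' i

theorem tr_one (D : CD X Ω) : Tr D 1 := by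
  intro w w' hw hw' hB hB'
  obtain ⟨g, h0, h1⟩ := D.exists_smul_arc hB hB' (hw.1 0 one_pos) (hw'.1 0 one_pos)
  exact ⟨g, fun i hi => by interval_cases i <;> assumption⟩

theorem tr_succ {K : ℕ} (hK : 1 ≤ K) (h : Tr D K) {v : ℕ → Ω} {g : X} (hv : D.NB (K + 1) v)
    (hvB : D.isB (v 0)) (hfix : ∀ i, i ≤ K → g • v i = v i) (hmv : g • v (K + 1) ≠ v (K + 1)) :
    Tr D (K + 1) := by
  intro w w' hw hw' hB hB'
  obtain ⟨h1, e1⟩ := h w v (hw.mono (by omega)) (hv.mono (by omega)) hB hvB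
  obtain ⟨h2, e2⟩ := h w' v (hw'.mono (by omega)) (hv.mono (by omega)) hB' hvB
  have hgQ : g ∉ D.Q (v K) := fun hq => hmv ((D.mem_Q.1 hq).2 _ (hv.1 K (by omega)))
  have hback : D.Adj (v K) (v (K - 1)) := by
    have := D.symm (hv.1 (K - 1) (by omega))
    rwa [Nat.sub_add_cancel hK] at this
  have key : ∀ (x : X) (u : ℕ → Ω), D.NB (K + 1) u → (∀ i, i ≤ K → x • u i = v i) →
      D.Adj (v K) (x • u (K + 1)) ∧ x • u (K + 1) ≠ v (K - 1) := by
    intro x u hu e
    refine ⟨e K le_rfl ▸ D.adj_smul x _ _ (hu.1 K (by omega)), ?_⟩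
    rw [← e (K - 1) (by omega)]
    intro he
    have := hu.2 (K - 1) (by omega)
    rw [show K - 1 + 2 = K + 1 by omega] at this
    exact this (smul_left_cancel x he)
  obtain ⟨ha, hae⟩ := key h1 w hw e1
  obtain ⟨hb, hbe⟩ := key h2 w' hw' e2
  by_cases hab : h1 • w (K + 1) = h2 • w' (K + 1)
  · refine ⟨h2⁻¹ * h1, fun i hi => ?_⟩
    rw [mul_smul, inv_smul_eq_iff]
    rcases Nat.lt_succ_iff_lt_or_eq.1 (Nat.lt_succ_of_le hi) with h | rfl
    · rw [e1 i (by omega), e2 i (by omega)]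
    · exact hab
  refine ⟨h2⁻¹ * g * h1, fun i hi => ?_⟩
  rw [mul_smul, mul_smul, inv_smul_eq_iff]
  rcases Nat.lt_succ_iff_lt_or_eq.1 (Nat.lt_succ_of_le hi) with h | rfl
  · rw [e1 i (by omega), e2 i (by omega), hfix i (by omega)]
  · exact D.eq_third hback ha hae.symm (D.adj_fix (hfix K le_rfl) ha) hb
      (CD.smul_ne (hfix (K - 1) (by omega)) hae)
      (D.moves_of_not_mem_Q hback ha hae.symm (hfix K le_rfl) (hfix _ (by omega)) hgQ)
      hbe (Ne.symm hab)

include E in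
/-- Transitivity from movers of both types of ends. -/
theorem tr_of {n : ℕ} (h : ∀ K, 4 ≤ K → K ≤ n → ∃ (v : ℕ → Ω) (g : X) (M : ℕ), K ≤ M ∧ D.NB M v ∧
    (D.isB (v M) ↔ Even K) ∧ (∀ i, i < M → g • v i = v i) ∧ g • v M ≠ v M) :
    1 ≤ n → Tr D n := by
  intro hn
  induction n with
  | zero => omega
  | succ n ih =>
    rcases Nat.eq_zero_or_pos n with rfl | hn'
    · exact tr_one D
    have hT : Tr D n := ih (fun K h4 hK => h K h4 (by omega)) hn'
    obtain ⟨c, hc⟩ := D.exB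
    obtain ⟨w, -, hw, hwB, -⟩ := E.exists_moved_at hc
    have hr := E.r2
    rcases (show n = 1 ∨ n = 2 ∨ 3 ≤ n by omega) with rfl | rfl | h3
    · obtain ⟨g, hg, hgQ⟩ := D.exists_not_mem_Q (hw.1 0 (by omega))
      obtain ⟨g0, g1⟩ := CD.mem_edge.1 hg
      exact tr_succ le_rfl hT (hw.mono (by omega)) hwB (fun i hi => by interval_cases i <;> assumption)
        (D.moves_of_not_mem_Q (D.symm (hw.1 0 (by omega))) (hw.1 1 (by omega))
          (hw.2 0 (by omega)).symm g1 g0 hgQ)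
    · obtain ⟨g, hg, hgQ⟩ := D.exists_mem_Q_not (hw.1 1 (by omega))
      have g1 := (D.mem_Q.1 hg).1
      have g0 := (D.mem_Q.1 hg).2 _ (D.symm (hw.1 0 (by omega)))
      have g2 := (D.mem_Q.1 hg).2 _ (hw.1 1 (by omega))
      exact tr_succ one_le_two hT (hw.mono (by omega)) hwB
        (fun i hi => by interval_cases i <;> assumption)
        (D.moves_of_not_mem_Q (D.symm (hw.1 1 (by omega))) (hw.1 2 (by omega))
          (hw.2 1 (by omega)).symm g2 g1 hgQ)
    · obtain ⟨v, g, M, hM, hv, hend, hfix, hmv⟩ := h (n + 1) (by omega) le_rfl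
      have hv' := hv.shift (M - (n + 1)) (k := n + 1) (by omega)
      have eM : M - (n + 1) + (n + 1) = M := by omega
      refine tr_succ hn' hT hv' ?_ (fun i hi => hfix _ (by omega)) (by rwa [eM])
      have hpar : ∀ i, i ≤ n + 1 → (D.isB (v (M - (n + 1) + i)) ↔
          (D.isB (v (M - (n + 1) + 0)) ↔ Even i)) := by
        intro i
        induction i with
        | zero => simp
        | succ i ih =>
          intro hi
          rw [← add_assoc, D.isB_adj _ _ (hv.1 _ (by omega)), ih (by omega), Nat.even_add_one]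
          tauto
      have := hpar (n + 1) le_rfl
      rw [eM, hend] at this
      show D.isB (v (M - (n + 1) + 0))
      tauto

/-- Transitivity makes every path of the critical length moved. -/
theorem moved_of_tr (h : Tr D (E.r + 1)) {w : ℕ → Ω} (hw : D.NB (E.r + 1) w) (hB : D.isB (w 0)) :
    E.Moved w := by
  obtain ⟨v, -, hv⟩ := E.exists_moved_at hB
  obtain ⟨g, hg⟩ := h v w hv.1 hw hv.2.1 hB
  exact E.moved_congr (E.moved_smul hv g) fun i hi => (hg i hi).symm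

/-- A mover of a path of length four. -/
theorem mover_four (hNE : D.NE) {v : ℕ → Ω} (hv : D.NB 4 v) (hB : D.isB (v 0)) :
    ∃ g : X, (∀ i, i < 4 → g • v i = v i) ∧ g • v 4 ≠ v 4 := by
  have h12 : D.Adj (v 1) (v 2) := hv.1 1 (by omega)
  have h23 : D.Adj (v 2) (v 3) := hv.1 2 (by omega)
  have hB2 : D.isB (v 2) := (D.isB_walk hv.1 hB 2 (by omega)).2 even_two
  obtain ⟨g, hg, hgQ⟩ := D.exists_mem_H_not hNE hB2 (D.symm h12) h23 (hv.2 1 (by omega)).symm
  have g1 := (D.mem_Q.1 hg.1).1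
  have g0 := (D.mem_Q.1 hg.1).2 _ (D.symm (hv.1 0 (by omega)))
  have g2 := (D.mem_Q.1 hg.2).1
  have g3 := (D.mem_Q.1 hg.2).2 _ h23
  exact ⟨g, fun i hi => by interval_cases i <;> assumption,
    D.moves_of_not_mem_Q (D.symm h23) (hv.1 3 (by omega)) (hv.2 2 (by omega)).symm g3 g2 hgQ⟩

include E in
theorem tr_four (hNE : D.NE) : Tr D 4 := by
  have h3 : Tr D 3 := E.tr_of (fun K h4 hK => by omega) (by norm_num)
  intro w w' hw hw' hB hB'
  obtain ⟨g, hfix, hmv⟩ := mover_four hNE hw hB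
  exact tr_succ (by norm_num) h3 hw hB (fun i hi => hfix i (by omega)) hmv w w' hw hw' hB hB'

end CZ

end CfsgLib.LocalEven.AmalgamCentral
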