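import Cfsg.Agent.Lib.LocalEven.AmalgamCentral.Central

/-!
An even radius: every path of the critical length is moved.
-/

set_option autoImplicit false

namespace CfsgLib.LocalEven.AmalgamCentral

open MulAction AmalgamZ

variable {X Ω : Type*} [Group X] [MulAction X Ω] {D : CD X Ω} (E : CZ D)

namespace CD

theorem exists_extend (D : CD X Ω) {m : ℕ} {w : ℕ → Ω} (hw : D.NB m w) (hm : 1 ≤ m) :
    ∀ n, m ≤ n → ∃ v, D.NB n v ∧ ∀ i, i ≤ m → v i = w i := by
  intro n hn
  induction hn with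
  | refl => exact ⟨w, hw, fun _ _ => rfl⟩
  | @step n hn ih =>
    obtain ⟨v, hv, he⟩ := ih
    obtain ⟨x, hx, hxn⟩ := D.exists_other (D.symm (show D.Adj (v (n - 1)) (v n) by
      have := hv.1 (n - 1) (by have : m ≤ n := hn; omega)
      rwa [Nat.sub_add_cancel (hm.trans hn)] at this))
    exact ⟨snoc n v x, D.nb_snoc hx hv fun _ => hxn,
      fun i hi => by rw [snoc_le _ _ (hi.trans hn)]; exact he i hi⟩

end CD

namespace CZ

theorem even_isB_end (hr : Even E.r) {L : ℕ → Ω} (hL : D.NB (E.r + 2) L) (h0 : D.isB (L 0)) :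
    D.isB (L (E.r + 2)) ∧ D.isB (L E.r) ∧ ¬ D.isB (L (E.r + 1)) := by
  refine ⟨(D.isB_walk hL.1 h0 _ le_rfl).2 (hr.add even_two),
    (D.isB_walk hL.1 h0 _ (by omega)).2 hr, fun h => ?_⟩
  exact Nat.even_add_one.1 ((D.isB_walk hL.1 h0 _ (by omega)).1 h) hr

theorem tr_of_two_movers (hr : Even E.r) {L : ℕ → Ω} (h : E.Moved L) {v : ℕ → Ω} {g : X} {M : ℕ}
    (hM : E.r + 1 ≤ M) (hv : D.NB M v) (hB : D.isB (v M)) (hfix : ∀ i, i < M → g • v i = v i)
    (hmv : g • v M ≠ v M) : Tr D (E.r + 1) := by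
  obtain ⟨hL, h0, hLmv⟩ := h
  refine E.tr_of (fun K _ hK => ?_) (by omega)
  by_cases hev : Even K
  · exact ⟨v, g, M, by omega, hv, iff_of_true hB hev, hfix, hmv⟩
  · exact ⟨L, E.z (L 0), E.r + 1, hK, hL,
      iff_of_false (fun h => Nat.even_add_one.1 ((D.isB_walk hL.1 h0 _ le_rfl).1 h) hr) hev,
      fun i hi => E.z_fix_walk hL.1 h0 (by omega) (by omega) (by omega) (by omega), hLmv⟩

/-- The reversal of a moved path prolonged by one step is moved. -/
theorem rev_moved (hr : Even E.r) {L : ℕ → Ω} (hL : D.NB (E.r + 2) L) (h : E.Moved L) :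
    E.Moved (fun i => L (E.r + 2 - i)) := by
  have h2 := E.r2
  obtain ⟨hBc, hBr, -⟩ := E.even_isB_end hr hL h.2.1
  have hR := hL.rev
  refine ⟨hR.mono (by omega), by simpa using hBc, ?_⟩
  simp only [show E.r + 2 - (E.r + 1) = 1 by omega, Nat.sub_zero]
  intro hfix1
  by_cases hfix0 : E.z (L (E.r + 2)) • L 0 = L 0
  · refine h.2.2 (E.fix_of_comm₂ hBc (D.symm (hL.1 (E.r + 1) (by omega)))
      (D.symm (hL.1 E.r (by omega))) ((hL.2 E.r le_rfl).symm)
      (E.z_fix_walk hL.1 h.2.1 (by omega) (by omega) (by omega) (by omega))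
      (E.comm_of_fix h.2.1 hfix0).symm).1
  · have hT := E.tr_of_two_movers hr h (M := E.r + 2) (g := E.z (L (E.r + 2))) (by omega) hR
      (by simpa using h.2.1) (fun i hi => by
        by_cases hi' : i = E.r + 1
        · subst hi'; simpa [show E.r + 2 - (E.r + 1) = 1 by omega] using hfix1
        · exact E.z_fix_walk hL.1 hBc le_rfl (by omega) (by omega) (by omega))
      (by simpa using hfix0)
    have := (E.moved_of_tr hT (w := fun i => L (E.r + 2 - i)) (hR.mono (by omega))
      (by simpa using hBc)).2.2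
    simp only [show E.r + 2 - (E.r + 1) = 1 by omega, Nat.sub_zero] at this
    exact this hfix1

/-- The commutator of the involutions at the ends of a prolonged moved path. -/
theorem comm_ends (hr : Even E.r) (h4 : 4 ≤ E.r) {L : ℕ → Ω} (hL : D.NB (E.r + 2) L)
    (h : E.Moved L) :
    E.z (L (E.r + 2)) * E.z (L 0) * E.z (L (E.r + 2)) * E.z (L 0) =
      E.z (L 0) * E.z (L (E.r + 2)) * E.z (L 0) * E.z (L (E.r + 2)) := by
  obtain ⟨hBc, -, -⟩ := E.even_isB_end hr hL h.2.1
  have hfix : E.z (L 0) • L E.r = L E.r :=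
    E.z_fix_walk hL.1 h.2.1 (by omega) (by omega) (by omega) (by omega)
  let v := CD.seq5 (L (E.r + 2)) (L (E.r + 1)) (L E.r) (E.z (L 0) • L (E.r + 1))
    (E.z (L 0) • L (E.r + 2))
  have hv : D.NB 4 v := D.nb_seq5 (D.symm (hL.1 (E.r + 1) (by omega)))
    (D.symm (hL.1 E.r (by omega))) (D.adj_fix hfix (hL.1 E.r (by omega)))
    (D.adj_smul _ _ _ (hL.1 (E.r + 1) (by omega))) (hL.2 E.r le_rfl).symm h.2.2
    (CD.smul_ne hfix (hL.2 E.r le_rfl))
  have := E.comm_walk (i := 0) (j := 4) hv.1 hBc ((D.isB_smul _ _).2 hBc) (by omega) le_rfl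
    (by omega) (by omega)
  change E.z (L (E.r + 2)) * E.z (E.z (L 0) • L (E.r + 2)) =
    E.z (E.z (L 0) • L (E.r + 2)) * E.z (L (E.r + 2)) at this
  rw [← E.conj_z h.2.1 hBc] at this
  simpa [mul_assoc] using this

theorem even_NE (hr : Even E.r) (h4 : 4 ≤ E.r) : D.NE := by
  obtain ⟨c0, hc0⟩ := D.exB
  obtain ⟨w, -, hM⟩ := E.exists_moved_at hc0
  obtain ⟨L, hL, he⟩ := D.exists_extend hM.1 (by omega) (E.r + 2) (by omega)
  have hM := E.moved_congr hM he
  clear he
  have hcomm := E.comm_ends hr h4 hL hM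
  obtain ⟨hBc, hBx, -⟩ := E.even_isB_end hr hL hM.2.1
  obtain ⟨-, h0, hmv⟩ := hM
  set r := E.r with hr'
  set t := E.z (L 0)
  set u := E.z (L (r + 2))
  set a := L (r + 1)
  set c := L (r + 2)
  set x := L r
  by_contra hNE
  have hxa : D.Adj x a := hL.1 r (by omega)
  have hac : D.Adj a c := hL.1 (r + 1) (by omega)
  have hcx : c ≠ x := hL.2 r le_rfl
  have htx : t • x = x := E.z_fix_walk hL.1 h0 (by omega) (by omega) (by omega) (by omega)
  have htm : t • L (r - 1) = L (r - 1) :=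
    E.z_fix_walk hL.1 h0 (by omega) (by omega) (by omega) (by omega)
  have hxm : D.Adj (L (r - 1)) x := by
    have := hL.1 (r - 1) (by omega)
    rwa [show r - 1 + 1 = r by omega] at this
  have ham : a ≠ L (r - 1) := by
    have := hL.2 (r - 1) (by omega)
    rwa [show r - 1 + 2 = r + 1 by omega] at this
  have hux : u • x = x := E.z_fix_walk hL.1 hBc le_rfl (by omega) (by omega) (by omega)
  have hum : u • L (r - 1) = L (r - 1) :=
    E.z_fix_walk hL.1 hBc le_rfl (by omega) (by omega) (by omega)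
  have hxa' : D.Adj x (t • a) := D.adj_fix htx hxa
  have hBtc : D.isB (t • c) := (D.isB_smul _ _).2 hBc
  have htc : E.z (t • c) = t * u * t := (E.conj_z h0 hBc).symm
  have htcx : t • c ≠ x := CD.smul_ne htx hcx
  have hsame : ∀ q ∈ D.Q x, (q ∈ D.Q a ↔ q ∈ D.Q (t • a)) := by
    intro q hq
    have heq : D.H a x = D.H (t • a) x := by
      by_contra h
      exact hNE (D.ne_of_pair hBx hxa hxa' (Ne.symm hmv) h)
    exact ⟨fun h => (heq ▸ (⟨h, hq⟩ : q ∈ D.H a x) : q ∈ D.H (t • a) x).1,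
      fun h => (heq.symm ▸ (⟨h, hq⟩ : q ∈ D.H (t • a) x) : q ∈ D.H a x).1⟩
  have hy : t * u * t * u = E.z (t • c) * u := by rw [htc]
  have hQy : ∀ q ∈ D.Q x, q * (t * u * t * u) = t * u * t * u * q := by
    intro q hq
    obtain ⟨hqx, hqn⟩ := D.mem_Q.1 hq
    have hqa : q • a = a := hqn a hxa
    have hqa' : q • (t • a) = t • a := hqn _ hxa'
    have hta : D.Adj (t • a) (t • c) := D.adj_smul t _ _ hac
    rw [hy]
    by_cases hin : q ∈ D.Q a
    · have h1 : q * u = u * q := E.comm_of_fix hBc ((D.mem_Q.1 hin).2 c hac)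
      have h2 : q * E.z (t • c) = E.z (t • c) * q :=
        E.comm_of_fix hBtc ((D.mem_Q.1 ((hsame q hq).1 hin)).2 _ hta)
      rw [← mul_assoc, h2, mul_assoc, h1, mul_assoc]
    · have hin' : q ∉ D.Q (t • a) := fun h => hin ((hsame q hq).2 h)
      have key : ∀ b d, D.Adj x b → q • b = b → D.Adj b d → d ≠ x → q ∉ D.Q b →
          q * E.z d * q⁻¹ = E.z d * E.z x := by
        intro b d hb hqb hbd hdx hqQ
        have hBd : D.isB d := D.isB_right hbd (D.not_isB hb hBx)
        rw [E.z_conj q d hBd]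
        rcases E.z_sib hBx (D.symm hb) hbd (D.adj_fix hqb hbd) hdx (CD.smul_ne hqx hdx) with h | h
        · refine absurd h.symm (E.ne_of_nbr hBd (D.symm hbd) (D.adj_fix hqb hbd) ?_)
          exact (D.moves_of_not_mem_Q (D.symm hb) hbd hdx.symm hqb hqx hqQ).symm
        · exact h
      have h1 := key a c hxa hqa hac hcx hin
      have h2 := key (t • a) (t • c) hxa' hqa' hta htcx hin'
      have hzu : E.z x * u = u * E.z x := (E.comm_of_fix hBx hux).symm
      apply mul_inv_eq_iff_eq_mul.1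
      calc q * (E.z (t • c) * u) * q⁻¹ = (q * E.z (t • c) * q⁻¹) * (q * u * q⁻¹) := by group
        _ = E.z (t • c) * E.z x * (u * E.z x) := by rw [h1, h2]
        _ = E.z (t • c) * u := by
          rw [← hzu, mul_assoc, E.mul_left_z hBx]
  have hyy : t * u * t * u * (t * u * t * u) = 1 := by
    nth_rewrite 2 [← hcomm]
    have ht2 : t * t = 1 := E.z_sq _ h0
    have hu2 : u * u = 1 := E.z_sq _ hBc
    calc t * u * t * u * (u * t * u * t) = t * u * t * (u * u) * t * u * t := by group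
      _ = t * u * (t * t) * u * t := by rw [hu2]; group
      _ = t * (u * u) * t := by rw [ht2]; group
      _ = 1 := by rw [hu2, mul_one, ht2]
  have htQ : t ∉ D.Q x := fun h => hmv ((D.mem_Q.1 h).2 a hxa)
  have hty : t * (t * u * t * u) = t * u * t * u * t := by
    conv_rhs => rw [← hcomm]
    simp only [mul_assoc, E.z_sq _ h0, E.mul_left_z h0, mul_one, t]
  have hfixy : t * u * t * u ∈ edgeGrp (X := X) (L (r - 1)) x := CD.mem_edge.2
    ⟨by simp only [mul_smul, htm, hum], by simp only [mul_smul, htx, hux]⟩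
  have hcen := D.central _ x hxm hBx _ hfixy hyy fun g hg => by
    by_cases hgQ : g ∈ D.Q x
    · exact hQy g hgQ
    · have hq := hQy _ (D.mul_mem_Q hxm hg (CD.mem_edge.2 ⟨htm, htx⟩) hgQ htQ)
      have e := E.z_sq _ h0
      calc g * (t * u * t * u) = g * t * (t * (t * u * t * u)) := by
            rw [mul_assoc g t, E.mul_left_z h0]
        _ = g * t * (t * u * t * u) * t := by rw [hty]; group
        _ = t * u * t * u * (g * t) * t := by rw [hq]
        _ = t * u * t * u * g := by rw [mul_assoc _ (g * t) t, mul_assoc g t t, e, mul_one]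
  obtain ⟨h, hh, hha⟩ := D.exists_swap hxa hxa' (D.symm hxm) hmv ham.symm
  obtain ⟨hha0, hhx⟩ := CD.mem_edge.1 hh
  have e := hcen h (mem_stabilizer_iff.2 hhx)
  have hBmc : D.isB (h • (t • c)) := (D.isB_smul _ _).2 hBtc
  have hd : D.Adj (L (r - 1)) (h • (t • c)) := hha ▸ D.adj_smul h _ _ (D.adj_smul t _ _ hac)
  have hdx : h • (t • c) ≠ x := CD.smul_ne hhx htcx
  have hux2 : E.z x * u = u * E.z x := (E.comm_of_fix hBx hux).symm
  have e1 : E.z (t • c) = E.z (h • (t • c)) * (E.z (h • c) * u) := by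
    rw [← E.z_conj h _ hBtc, ← E.z_conj h _ hBc]
    calc E.z (t • c) = (t * u * t * u) * u := by
          rw [hy, mul_assoc, E.z_sq _ hBc, mul_one]
      _ = (h * (t * u * t * u) * h⁻¹) * u := by rw [e, mul_inv_cancel_right]
      _ = (h * (E.z (t • c) * u) * h⁻¹) * u := by rw [hy]
      _ = _ := by rw [show E.z c = u from rfl]; group
  obtain ⟨d', hd', hd'x, hz'⟩ : ∃ d', D.Adj (L (r - 1)) d' ∧ d' ≠ x ∧ E.z (t • c) = E.z d' := by
    rcases E.z_sib hBx (D.symm hxa) hac (D.adj_fix hha0 hac) hcx (CD.smul_ne hhx hcx) with h' | h'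
    · exact ⟨_, hd, hdx, by rw [e1, h', E.z_sq _ hBc, mul_one]⟩
    · obtain ⟨d', hd', n1, n2⟩ := D.exists_third hxm hd
      refine ⟨d', hd', n1, ?_⟩
      rw [e1, h', mul_assoc, hux2, E.mul_left_z hBc]
      exact E.z_triple hBmc hd hxm hd' hdx n2.symm n1.symm
  exact E.ne_of_four hBtc (D.symm (D.adj_smul t _ _ hac)) (D.symm hxa') (D.symm hxm) hd'
    htcx.symm (Ne.symm (CD.smul_ne htm ham)) hd'x hz'

theorem tr_five (hr : Even E.r) (h4 : 4 ≤ E.r) : Tr D 5 := by
  have hNE := E.even_NE hr h4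
  obtain ⟨c0, hc0⟩ := D.exB
  obtain ⟨w, -, hw, h0, hmv⟩ := E.exists_moved_at hc0
  obtain ⟨g, hfix, hg⟩ := mover_four hNE (hw.mono (m := 4) (by omega)) h0
  refine E.tr_of (fun K hK4 hK => ?_) (by omega)
  rcases (show K = 4 ∨ K = 5 by omega) with rfl | rfl
  · exact ⟨w, g, 4, le_rfl, hw.mono (by omega), (D.isB_walk hw.1 h0 4 (by omega)), hfix, hg⟩
  · exact ⟨w, E.z (w 0), E.r + 1, by omega, hw,
      iff_of_false (fun h => Nat.even_add_one.1 ((D.isB_walk hw.1 h0 _ le_rfl).1 h) hr) (by decide),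
      fun i hi => E.z_fix_walk hw.1 h0 (by omega) (by omega) (by omega) (by omega), hmv⟩

theorem ne_of_eight (hr : Even E.r) (h4 : 4 ≤ E.r) {v : ℕ → Ω} (hv : D.NB 8 v)
    (hB : D.isB (v 0)) : E.z (v 0) ≠ E.z (v 8) := by
  intro he
  obtain ⟨w, -, hw, h0, hmv⟩ := E.exists_moved_at hB
  obtain ⟨g, hg⟩ := E.tr_five hr h4 w v (hw.mono (by omega)) (hv.mono (by omega)) h0 hB
  have hp : D.Walk (E.r + 1) (fun i => g • w i) := (hw.smul g).1
  have hq : D.Walk (3 + (E.r - 4)) (CD.app 3 (fun i => v (8 - i)) (fun i => g • w (5 + i))) :=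
    CD.Walk.app (hv.1.rev.mono (by omega)) (hp.shift 5 (by omega)) (hg 5 le_rfl).symm
  have e3 : CD.app 3 (fun i => v (8 - i)) (fun i => g • w (5 + i)) (3 + (E.r - 4)) =
      g • w (E.r + 1) := by
    rw [CD.app_right (hg 5 le_rfl).symm, show 5 + (E.r - 4) = E.r + 1 by omega]
  have hfix := E.z_fix_walk (i := 0) (j := 3 + (E.r - 4)) hq
    (by simpa [CD.app] using (D.isB_walk hv.1 hB 8 le_rfl).2 (by decide)) (by omega) le_rfl
    (by omega) (by omega)
  rw [e3, CD.app_left _ _ (Nat.zero_le 3)] at hfix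
  rw [Nat.sub_zero, ← he, ← hg 0 (by omega), ← E.z_conj g _ h0, mul_smul, mul_smul,
    inv_smul_smul] at hfix
  exact hmv (smul_left_cancel g hfix)

/-- Backwards shift by two. -/
theorem shift_back (hr : Even E.r) (h4 : 4 ≤ E.r) {L : ℕ → Ω} (hL : D.NB (E.r + 3) L)
    (h : E.Moved (fun i => L (2 + i))) : E.Moved L := by
  set r := E.r with hr'
  obtain ⟨hw, hB2, hmv⟩ := h
  simp only [Nat.add_zero, ← hr'] at hB2 hmv
  have he0 : D.Adj (L 0) (L 1) := hL.1 0 (by omega)
  have he1 : D.Adj (L 1) (L 2) := hL.1 1 (by omega)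
  have hnA : ¬ D.isB (L 1) := D.isB_left he1 hB2
  have hB0 : D.isB (L 0) := D.isB_right (D.symm he0) hnA
  refine ⟨hL.mono (by omega), hB0, fun hfix => ?_⟩
  have hev : ∀ i, i ≤ r + 3 → (D.isB (L i) ↔ Even i) := D.isB_walk hL.1 hB0
  set t := E.z (L 2)
  have htfix : ∀ i, i ≤ r + 2 → t • L i = L i := fun i hi =>
    E.z_fix_walk hL.1 hB2 (by omega) (by omega) (by omega) (by omega)
  have hBr2 : D.isB (L (r + 2)) := (hev _ (by omega)).2 (hr.add even_two)
  have hvar : ∀ d, D.Adj (L 1) d → d ≠ L 2 → E.z d • L (r + 1) = L (r + 1) →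
      D.NB (r + 3) (fun i => if i = 0 then d else L i) ∧ E.z d • L (r + 2) = L (r + 2) ∧
      (∀ i, i ≤ r + 1 → 1 ≤ i → E.z d • L i = L i) := by
    intro d hd hd2 hd1
    have hBd : D.isB d := D.isB_right hd hnA
    have hv : D.NB (r + 3) (fun i => if i = 0 then d else L i) :=
      ⟨fun i hi => by
        rcases i with _ | i
        · simpa using D.symm hd
        · simpa using hL.1 (i + 1) hi,
       fun i hi => by
        rcases i with _ | i
        · simpa using hd2.symm
        · simpa using hL.2 (i + 1) hi⟩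
    have hfx : ∀ i, i ≤ r + 1 → 1 ≤ i → E.z d • L i = L i := by
      intro i hi hi1
      rcases Nat.lt_or_ge i (r + 1) with h | h
      · have := E.z_fix_walk (i := 0) (j := i) hv.1 (by simpa using hBd) (by omega) (by omega)
          (by omega) (by omega)
        simpa [show i ≠ 0 by omega] using this
      · rw [show i = r + 1 by omega]; exact hd1
    refine ⟨hv, ?_, hfx⟩
    by_contra hmove
    have hT := E.tr_of_two_movers hr ⟨hw, hB2, hmv⟩ (M := r + 2) (g := E.z d) (by omega)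
      (hv.mono (by omega)) (by simpa using hBr2) (fun i hi => by
        rcases Nat.eq_zero_or_pos i with rfl | hi0
        · simpa using E.z_fix hBd
        · simpa [show i ≠ 0 by omega] using hfx i (by omega) hi0)
      (by simpa using hmove)
    have := (E.moved_of_tr hT (w := fun i => if i = 0 then d else L i) (hv.mono (by omega))
      (by simpa using hBd)).2.2
    simp only [if_true, ← hr', show r + 1 ≠ 0 by omega, if_false] at this
    exact this hd1
  obtain ⟨d', hd', hd'0, hd'2⟩ := D.exists_third (D.symm he0) he1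
  have hBd' : D.isB d' := D.isB_right hd' hnA
  have hn20 : L 0 ≠ L 2 := (hL.2 0 (by omega)).symm
  have hprod : E.z (L 0) * E.z d' = t := E.z_triple hB0 (D.symm he0) hd' he1 hd'0.symm hn20 hd'2
  have hd'fix : E.z d' • L (r + 1) = L (r + 1) := by
    have := htfix (r + 1) (by omega)
    rw [← hprod, mul_smul] at this
    nth_rewrite 2 [← hfix] at this
    exact smul_left_cancel _ this
  have h1 := hvar (L 0) (D.symm he0) hn20 hfix
  have h2 := hvar d' hd' hd'2 hd'fix
  obtain ⟨d, hd, hd2, hd1, hd3⟩ : ∃ d, D.Adj (L 1) d ∧ d ≠ L 2 ∧ E.z d • L (r + 1) = L (r + 1) ∧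
      E.z d • L (r + 3) = L (r + 3) := by
    by_cases ha : E.z (L 0) • L (r + 3) = L (r + 3)
    · exact ⟨_, D.symm he0, hn20, hfix, ha⟩
    by_cases hb : E.z d' • L (r + 3) = L (r + 3)
    · exact ⟨_, hd', hd'2, hd'fix, hb⟩
    exfalso
    have hadj : D.Adj (L (r + 2)) (L (r + 3)) := hL.1 (r + 2) (by omega)
    have hback : D.Adj (L (r + 2)) (L (r + 1)) := D.symm (hL.1 (r + 1) (by omega))
    have hne : L (r + 3) ≠ L (r + 1) := hL.2 (r + 1) le_rfl
    have he : E.z (L 0) • L (r + 3) = E.z d' • L (r + 3) :=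
      D.eq_third hback hadj hne.symm (D.adj_fix h1.2.1 hadj) (D.adj_fix h2.2.1 hadj)
        (CD.smul_ne hfix hne) ha (CD.smul_ne hd'fix hne) hb
    apply hmv
    rw [show 2 + (r + 1) = r + 3 by omega, ← hprod, mul_smul, ← he, ← mul_smul, E.z_sq _ hB0,
      one_smul]
  obtain ⟨hv, hdr2, hdfix⟩ := hvar d hd hd2 hd1
  have hBd : D.isB d := D.isB_right hd hnA
  obtain ⟨c, hc, hcx⟩ := D.exists_other (D.symm (hL.1 (r + 2) (by omega)))
  have hL4 : D.NB (r + 4) (CD.snoc (r + 3) L c) := D.nb_snoc hc hL fun _ => hcx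
  have hBc : D.isB c :=
    D.isB_right hc fun h => Nat.even_add_one.1 ((hev _ le_rfl).1 h) (hr.add even_two)
  set v := CD.snoc (r + 3) (fun i => if i = 0 then d else L i) c
  have hv4 : D.NB (r + 4) v := D.nb_snoc (by simpa using hc) hv fun _ => by simpa using hcx
  have hdc : E.z d • c = c := by
    by_contra hmove
    have hT := E.tr_of_two_movers hr ⟨hw, hB2, hmv⟩ (M := r + 4) (g := E.z d) (v := v) (by omega) hv4
      (by rw [show r + 4 = r + 3 + 1 from rfl]; simp only [v, CD.snoc_last]; exact hBc)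
      (fun i hi => by
        simp only [v, CD.snoc_le _ _ (show i ≤ r + 3 by omega)]
        rcases Nat.eq_zero_or_pos i with rfl | hi0
        · simpa using E.z_fix hBd
        · simp only [show i ≠ 0 by omega, if_false]
          rcases (show i ≤ r + 1 ∨ i = r + 2 ∨ i = r + 3 by omega) with h | rfl | rfl
          exacts [hdfix i h hi0, hdr2, hd3])
      (by rw [show r + 4 = r + 3 + 1 from rfl]; simp only [v, CD.snoc_last]; exact hmove)
    have := (E.moved_of_tr hT (w := fun i => if i = 0 then d else L i) (hv.mono (by omega))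
      (by simpa using hBd)).2.2
    simp only [if_true, ← hr', show r + 1 ≠ 0 by omega, if_false] at this
    exact this hd1
  have hzud : E.z (E.z c • d) = E.z d := E.z_smul_eq hBd (E.comm_of_fix hBc hdc).symm
  have hMw : E.Moved (fun i => CD.snoc (r + 3) L c (2 + i)) :=
    E.moved_congr ⟨hw, hB2, hmv⟩ fun i hi => CD.snoc_le _ _ (by omega)
  have hR := (E.rev_moved hr (hL4.shift 2 (k := r + 2) (by omega)) hMw).2.2
  simp only [← hr', show 2 + (r + 2 - 0) = r + 3 + 1 by omega,
    show 2 + (r + 2 - (r + 1)) = 3 by omega, CD.snoc_last, CD.snoc_le _ _ (show 3 ≤ r + 3 by omega)]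
    at hR
  set u := E.z c
  have hu4 : u • L 4 = L 4 := by
    have := E.z_fix_walk (i := r + 4) (j := 4) hL4.1
      (by rw [show r + 4 = r + 3 + 1 from rfl, CD.snoc_last]; exact hBc) le_rfl (by omega) (by omega)
      (by omega)
    rwa [show r + 4 = r + 3 + 1 from rfl, CD.snoc_last, CD.snoc_le _ _ (by omega)] at this
  have hA : D.NB 4 (CD.seq5 d (L 1) (L 2) (L 3) (L 4)) :=
    D.nb_seq5 (D.symm hd) he1 (hL.1 2 (by omega)) (hL.1 3 (by omega)) hd2.symm (hL.2 1 (by omega))
      (hL.2 2 (by omega))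
  have hC : D.NB 4 (CD.seq5 (L 4) (u • L 3) (u • L 2) (u • L 1) (u • d)) :=
    D.nb_seq5 (D.adj_fix hu4 (D.symm (hL.1 3 (by omega)))) (D.adj_smul u _ _ (D.symm (hL.1 2 (by omega))))
      (D.adj_smul u _ _ (D.symm he1)) (D.adj_smul u _ _ hd)
      (CD.smul_ne hu4 (hL.2 2 (by omega)).symm)
      (fun e => (hL.2 1 (by omega)).symm (smul_left_cancel u e))
      (fun e => hd2 (smul_left_cancel u e))
  have h8 : D.NB (4 + 4) (CD.app 4 (CD.seq5 d (L 1) (L 2) (L 3) (L 4))
      (CD.seq5 (L 4) (u • L 3) (u • L 2) (u • L 1) (u • d))) :=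
    CD.NB.app hA hC rfl fun _ _ => hR
  refine E.ne_of_eight hr h4 h8 hBd ?_
  show E.z d = E.z (u • d)
  exact hzud.symm

/-- Forwards shift by two. -/
theorem shift_fwd (hr : Even E.r) (h4 : 4 ≤ E.r) {L : ℕ → Ω} (hL : D.NB (E.r + 3) L)
    (h : E.Moved L) : E.Moved (fun i => L (2 + i)) := by
  obtain ⟨M, hM, he⟩ := D.exists_extend hL (by omega) (E.r + 4) (by omega)
  have hR := hM.rev
  have h1 : E.Moved (fun i => M (E.r + 2 - i)) :=
    E.rev_moved hr (hM.mono (by omega)) (E.moved_congr h fun i hi => he i (by omega))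
  have h2 : E.Moved (fun i => M (E.r + 4 - i)) := by
    refine E.shift_back hr h4 (hR.mono (by omega)) (E.moved_congr h1 fun i _ => ?_)
    congr 1; omega
  refine E.moved_congr (E.rev_moved hr (hR.mono (by omega)) h2) fun i hi => ?_
  rw [← he (2 + i) (by omega)]
  congr 1; omega

/-- A neighbour other than a given one. -/
noncomputable def nxt (D : CD X Ω) (p : Ω × Ω) : Ω × Ω :=
  letI := Classical.propDecidable (D.Adj p.2 p.1)
  if h : D.Adj p.2 p.1 then (p.2, (D.exists_other h).choose) else p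

/-- A path starting with a given arc. -/
noncomputable def ray (D : CD X Ω) (a b : Ω) (k : ℕ) : Ω := ((nxt D)^[k] (a, b)).1

theorem ray_spec (D : CD X Ω) {a b : Ω} (h : D.Adj a b) :
    ray D a b 0 = a ∧ ray D a b 1 = b ∧ ∀ n, D.NB n (ray D a b) := by
  classical
  have key : ∀ k, D.Adj ((nxt D)^[k] (a, b)).1 ((nxt D)^[k] (a, b)).2 ∧
      ((nxt D)^[k] (a, b)).2 = ray D a b (k + 1) := by
    intro k
    induction k with
    | zero => exact ⟨h, by simp [ray, nxt, dif_pos (D.symm h)]⟩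
    | succ k ih =>
      have hk := D.symm ih.1
      have e : (nxt D)^[k + 1] (a, b) =
          (((nxt D)^[k] (a, b)).2, (D.exists_other hk).choose) := by
        rw [Function.iterate_succ_apply']; simp [nxt, dif_pos hk]
      refine ⟨by rw [e]; exact (D.exists_other hk).choose_spec.1, ?_⟩
      have hk1 : D.Adj ((nxt D)^[k + 1] (a, b)).2 ((nxt D)^[k + 1] (a, b)).1 := by
        rw [e]; exact D.symm (D.exists_other hk).choose_spec.1
      simp only [ray, Function.iterate_succ_apply' _ (k + 1)]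
      rw [nxt, dif_pos hk1]
  have hadj : ∀ k, D.Adj (ray D a b k) (ray D a b (k + 1)) := fun k => (key k).2 ▸ (key k).1
  refine ⟨rfl, by rw [← (key 0).2]; rfl, fun n => ⟨fun i _ => hadj i, fun i _ => ?_⟩⟩
  have hk := D.symm (key i).1
  rw [← (key (i + 1)).2, Function.iterate_succ_apply', nxt, dif_pos hk]
  exact (D.exists_other hk).choose_spec.2

theorem all_moved (hr : Even E.r) (h4 : 4 ≤ E.r) {Q : ℕ → Ω} (hQ : D.NB (E.r + 1) Q)
    (hB : D.isB (Q 0)) : E.Moved Q := by
  obtain ⟨w, -, hw⟩ := E.exists_moved_at hB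
  obtain ⟨g, hg0, hg1⟩ := D.exists_smul_arc hw.2.1 hB (hw.1.1 0 (by omega)) (hQ.1 0 (by omega))
  have hP := E.moved_smul hw g
  set P := fun i => g • w i
  set r := E.r with hr'
  obtain ⟨e0, e1, he⟩ := ray_spec D (D.symm (hQ.1 0 (by omega)))
  set e := ray D (Q 1) (Q 0)
  have hback : D.NB r (fun i => e (r + 1 - i)) := (he (r + 1)).rev.mono (by omega)
  have hline : ∀ S : ℕ → Ω, D.NB (r + 1) S → S 0 = Q 0 → S 1 = Q 1 →
      D.NB (r + (r + 1)) (CD.app r (fun i => e (r + 1 - i)) S) := fun S hS h0 h1 =>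
    CD.NB.app hback hS (by rw [show r + 1 - r = 1 by omega, e1, h0]) fun _ _ => by
      rw [show r + 1 - (r - 1) = 2 by omega, h1, ← e0]
      exact ((he 2).2 0 le_rfl).symm
  have eP : (fun i => e (r + 1 - i)) r = P 0 := by
    simp only [P, hg0, show r + 1 - r = 1 by omega, e1]
  have eQ : (fun i => e (r + 1 - i)) r = Q 0 := by simp only [show r + 1 - r = 1 by omega, e1]
  set LP := CD.app r (fun i => e (r + 1 - i)) P
  set LQ := CD.app r (fun i => e (r + 1 - i)) Q
  have hLP := hline P hP.1 hg0 hg1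
  have hLQ := hline Q hQ rfl rfl
  have hdown : ∀ k, 2 * k ≤ r → E.Moved (fun i => LP (r - 2 * k + i)) := by
    intro k
    induction k with
    | zero => exact fun _ => E.moved_congr hP fun i _ => by simp only [Nat.mul_zero, Nat.sub_zero]; exact CD.app_right (m := r) (p := fun i => e (r + 1 - i)) (q := P) eP i
    | succ k ih =>
      intro hk
      refine E.shift_back hr h4 (hLP.shift _ (by omega)) (E.moved_congr (ih (by omega)) fun i _ => ?_)
      congr 1; omega
  obtain ⟨j, hj⟩ := hr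
  have hjr : r = 2 * j := by omega
  have hup : ∀ k, 2 * k ≤ r → E.Moved (fun i => LQ (2 * k + i)) := by
    intro k
    induction k with
    | zero =>
      intro _
      refine E.moved_congr (hdown j (by omega)) fun i hi => ?_
      rw [show r - 2 * j + i = i by omega, show 2 * 0 + i = i by omega]
      rcases Nat.lt_or_ge r i with h | h
      · obtain rfl : i = r + 1 := by omega
        exact (CD.app_right (m := r) (p := fun i => e (r + 1 - i)) (q := Q) eQ 1).trans
          (hg1.symm.trans (CD.app_right (m := r) (p := fun i => e (r + 1 - i)) (q := P) eP 1).symm)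
      · simp only [LP, LQ, CD.app_left _ _ h]
    | succ k ih =>
      intro hk
      refine E.moved_congr (E.shift_fwd ⟨j, hj⟩ h4 (hLQ.shift (2 * k) (by omega)) (ih (by omega)))
        fun i _ => ?_
      congr 1; omega
  refine E.moved_congr (hup j (by omega)) fun i _ => ?_
  rw [← hjr]
  exact (CD.app_right (m := r) (p := fun i => e (r + 1 - i)) (q := Q) eQ i).symm

theorem moves_next (hr : Even E.r) (h4 : 4 ≤ E.r) {v : ℕ → Ω} (hv : D.NB E.r v) (hB : D.isB (v 0))
    {u : Ω} (hu : D.Adj (v E.r) u) (hne : u ≠ v (E.r - 1)) : E.z (v 0) • u ≠ u := by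
  have := (E.all_moved hr h4 (D.nb_snoc hu hv fun _ => hne) (by simpa [CD.snoc] using hB)).2.2
  simpa [CD.snoc] using this

/-- Distinct involutions along paths. -/
theorem ne_of_path (hr : Even E.r) (h4 : 4 ≤ E.r) {n : ℕ} {w : ℕ → Ω} (hw : D.NB n w) (h1 : 1 ≤ n)
    (h2 : n ≤ 2 * E.r + 1) (hB : D.isB (w 0)) (hBn : D.isB (w n)) : E.z (w 0) ≠ E.z (w n) := by
  intro he
  obtain ⟨v, hv, heq⟩ := D.exists_extend hw h1 (n + (E.r + 1)) (Nat.le_add_right _ _)
  have hM := (E.all_moved hr h4 (hv.mono (Nat.le_add_left _ _)) (by rwa [heq 0 (by omega)])).2.2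
  refine hM ?_
  rw [heq 0 (by omega), he, ← heq n le_rfl]
  exact E.z_fix_walk hv.1 (by rwa [heq n le_rfl]) (Nat.le_add_right _ _) (Nat.le_add_left _ _) (by omega)
    (by omega)

end CZ

end CfsgLib.LocalEven.AmalgamCentral
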