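import Cfsg.Agent.Lib.LocalEven.AmalgamCentral.Bound
import Cfsg.Agent.Lib.LocalEven.AmalgamZ.Main

/-!
Goldschmidt's bound for amalgams of index `(3, 3)`.
-/

set_option autoImplicit false

namespace CfsgLib.LocalEven.AmalgamCentral

open MulAction Cfsg AmalgamZ

variable {G : Type*} [Group G]

/-- A group with a Sylow `2`-subgroup `T` of index three and `Q` its largest normal `2`-subgroup of
index two in `T`. -/
structure VH (T P Q : Subgroup G) : Prop where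
  le : T ≤ P
  fin : Finite ↥P
  index : Nat.card ↥P = 3 * Nat.card ↥T
  Qle : Q ≤ T
  half : Nat.card ↥T = 2 * Nat.card ↥Q
  norm : ∀ g ∈ P, ∀ x ∈ Q, g * x * g⁻¹ ∈ Q
  maxQ : ∀ R : Subgroup G, R ≤ P → IsPGroup 2 ↥R → (∀ g ∈ P, ∀ x ∈ R, g * x * g⁻¹ ∈ R) → R ≤ Q

theorem le_normalizer_of {P R : Subgroup G} (h : ∀ g ∈ P, ∀ x ∈ R, g * x * g⁻¹ ∈ R) :
    P ≤ Subgroup.normalizer (R : Set G) := fun g hg =>
  Subgroup.mem_normalizer_iff.2 fun x => ⟨h g hg x, fun hx => by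
    simpa [mul_assoc] using h g⁻¹ (P.inv_mem hg) _ hx⟩

theorem VH.pCoreOf_eq {T P Q : Subgroup G} (h : VH T P Q) (hT : IsPGroup 2 ↥T) :
    pCoreOf 2 P = Q := by
  haveI := h.fin
  refine le_antisymm (h.maxQ _ (pCoreOf_le 2 P) (isPGroup_pCoreOf 2 P) fun g hg x hx =>
    (Subgroup.mem_normalizer_iff.1 (le_normalizer_pCoreOf 2 P hg) x).1 hx) ?_
  exact le_pCoreOf (h.Qle.trans h.le) (hT.to_le h.Qle) (le_normalizer_of h.norm)

theorem VH.inv_mul_mem {T P Q : Subgroup G} (h : VH T P Q) {x y : G} (hx : x ∈ T) (hy : y ∈ T)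
    (hxQ : x ∉ Q) (hyQ : y ∉ Q) : x⁻¹ * y ∈ Q := by
  haveI := h.fin
  haveI : Finite ↥T := Finite.of_injective _ (Subgroup.inclusion_injective h.le)
  haveI : Finite ↥Q := Finite.of_injective _ (Subgroup.inclusion_injective h.Qle)
  have hidx : (Q.subgroupOf T).index = 2 := by
    have h1 := Subgroup.card_eq_card_quotient_mul_card_subgroup (Q.subgroupOf T)
    rw [Nat.card_congr (Subgroup.subgroupOfEquivOfLe h.Qle).toEquiv, h.half] at h1
    exact (Nat.eq_of_mul_eq_mul_right Nat.card_pos h1).symm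
  have := Subgroup.mul_mem_iff_of_index_two hidx (a := ⟨x⁻¹, T.inv_mem hx⟩) (b := ⟨y, hy⟩)
  simp only [Subgroup.mem_subgroupOf] at this
  exact this.2 ⟨fun hh => absurd (inv_inv x ▸ Q.inv_mem hh) hxQ, fun hh => absurd hh hyQ⟩

theorem VH.exists_three {T P Q C : Subgroup G} (h : VH T P Q) (hT : IsPGroup 2 ↥T) (hC : C ≤ P)
    (hnorm : ∀ g ∈ P, ∀ x ∈ C, g * x * g⁻¹ ∈ C) (hCQ : ¬ C ≤ Q) :
    ∃ d ∈ C, d ∈ P ∧ d ∉ T ∧ d ^ 3 = 1 := by
  haveI := h.fin
  haveI := Fact.mk Nat.prime_two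
  haveI := Fact.mk Nat.prime_three
  haveI : Finite ↥C := Finite.of_injective _ (Subgroup.inclusion_injective hC)
  haveI : Finite ↥T := Finite.of_injective _ (Subgroup.inclusion_injective h.le)
  obtain ⟨k, hk⟩ := IsPGroup.iff_card.1 hT
  have h3 : 3 ∣ Nat.card ↥C := by
    by_contra h3
    have hd : Nat.card ↥C ∣ 3 * 2 ^ k := by
      rw [← hk, ← h.index]; exact Subgroup.card_dvd_of_le hC
    have hd' : Nat.card ↥C ∣ 2 ^ k :=
      ((Nat.Prime.coprime_iff_not_dvd Nat.prime_three).2 h3).symm.dvd_of_dvd_mul_left hd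
    obtain ⟨j, -, hj⟩ := (Nat.dvd_prime_pow Nat.prime_two).1 hd'
    exact hCQ (h.maxQ C hC (IsPGroup.iff_card.2 ⟨j, hj⟩) hnorm)
  obtain ⟨⟨d, hd⟩, ho⟩ := exists_prime_orderOf_dvd_card' (G := ↥C) 3 h3
  rw [Subgroup.orderOf_mk] at ho
  refine ⟨d, hd, hC hd, fun hdT => ?_, by rw [← ho]; exact pow_orderOf_eq_one d⟩
  obtain ⟨j, hj⟩ := hT ⟨d, hdT⟩
  have h2 : orderOf d ∣ 2 ^ j := orderOf_dvd_of_pow_eq_one (congrArg Subtype.val hj)
  rw [ho] at h2
  have := Nat.Prime.dvd_of_dvd_pow Nat.prime_three h2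
  norm_num at this

theorem VH.exists_decomp {T P Q : Subgroup G} (h : VH T P Q) {d : G} (hdP : d ∈ P) (hdT : d ∉ T)
    (hd3 : d ^ 3 = 1) : ∀ g ∈ P, ∃ t ∈ T, ∃ i : Fin 3, g = t * d ^ (i : ℕ) := by
  haveI := h.fin
  haveI : Finite ↥T := Finite.of_injective _ (Subgroup.inclusion_injective h.le)
  let f : ↥T × Fin 3 → ↥P := fun p => ⟨p.1 * d ^ (p.2 : ℕ), P.mul_mem (h.le p.1.2) (P.pow_mem hdP _)⟩
  have hinj : Function.Injective f := by
    rintro ⟨⟨t, ht⟩, i⟩ ⟨⟨t', ht'⟩, j⟩ he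
    simp only [f, Subtype.mk.injEq] at he
    have key : ∀ k : ℕ, k < 3 → d ^ k ∈ T → k = 0 := by
      intro k hk hmem
      by_contra hk0
      refine hdT ?_
      rcases (show k = 1 ∨ k = 2 by omega) with rfl | rfl
      · simpa using hmem
      · have : d = d ^ 2 * d ^ 2 := by rw [← pow_add, show (2 + 2 : ℕ) = 3 + 1 from rfl, pow_add, hd3, one_mul, pow_one]
        rw [this]; exact T.mul_mem hmem hmem
    have hij : ∀ (a b : Fin 3) (u u' : G), u ∈ T → u' ∈ T → u * d ^ (a : ℕ) = u' * d ^ (b : ℕ) →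
        (b : ℕ) ≤ a → a = b := by
      intro a b u u' hu hu' he hba
      have : d ^ ((a : ℕ) - b) = u⁻¹ * u' := by
        rw [pow_sub _ hba, eq_inv_mul_iff_mul_eq, ← mul_assoc, he, mul_inv_cancel_right]
      have := key _ (by omega) (this ▸ T.mul_mem (T.inv_mem hu) hu')
      exact Fin.ext (by omega)
    have hij' : i = j := by
      rcases le_total (j : ℕ) i with hle | hle
      · exact hij i j t t' ht ht' he hle
      · exact (hij j i t' t ht' ht he.symm hle).symm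
    subst hij'
    simp [mul_right_cancel he]
  have hbij : Function.Bijective f :=
    (Nat.bijective_iff_injective_and_card f).2 ⟨hinj, by
      rw [Nat.card_prod, Nat.card_fin, h.index, mul_comm]⟩
  intro g hg
  obtain ⟨⟨t, i⟩, he⟩ := hbij.2 ⟨g, hg⟩
  exact ⟨t, t.2, i, (congrArg Subtype.val he).symm⟩

variable {P₁ P₂ T Q₁ Q₂ : Subgroup G}

theorem normal_of_both (hgen : P₁ ⊔ P₂ = ⊤) {K : Subgroup G}
    (h1 : ∀ g ∈ P₁, ∀ x ∈ K, g * x * g⁻¹ ∈ K) (h2 : ∀ g ∈ P₂, ∀ x ∈ K, g * x * g⁻¹ ∈ K) :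
    K.Normal := by
  rw [← Subgroup.normalizer_eq_top_iff, eq_top_iff, ← hgen]
  exact sup_le (le_normalizer_of h1) (le_normalizer_of h2)

/-- An element of order three centralizing one of the cores gives `|T| ≤ 16`. -/
theorem card_le_of_not_char (hgen : P₁ ⊔ P₂ = ⊤) (hinf : T = P₁ ⊓ P₂)
    (hcore : ∀ N : Subgroup G, N.Normal → N ≤ T → N = ⊥) (hT : IsPGroup 2 ↥T) (h₁ : VH T P₁ Q₁)
    (h₂ : VH T P₂ Q₂) (hchar : ¬ P₁ ⊓ Subgroup.centralizer (Q₁ : Set G) ≤ Q₁) :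
    Nat.card ↥T ≤ 16 := by
  haveI := h₁.fin
  haveI := h₂.fin
  haveI : Finite ↥T := Finite.of_injective _ (Subgroup.inclusion_injective h₁.le)
  by_cases hQ : Q₁ = Q₂
  · have := hcore Q₁ (normal_of_both hgen h₁.norm (hQ ▸ h₂.norm)) h₁.Qle
    rw [h₁.half, this]
    simp
  obtain ⟨d, hd, hdP, hdT, hd3⟩ := h₁.exists_three hT inf_le_left (fun g hg x hx => by
    refine ⟨P₁.mul_mem (P₁.mul_mem hg hx.1) (P₁.inv_mem hg),
      Subgroup.mem_centralizer_iff.2 fun y hy => ?_⟩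
    have hy' := h₁.norm g⁻¹ (P₁.inv_mem hg) y hy
    rw [inv_inv] at hy'
    have e := Subgroup.mem_centralizer_iff.1 hx.2 _ hy'
    calc y * (g * x * g⁻¹) = g * (g⁻¹ * y * g * x) * g⁻¹ := by group
      _ = g * (x * (g⁻¹ * y * g)) * g⁻¹ := by rw [e]
      _ = g * x * g⁻¹ * y := by group) hchar
  -- subgroups of `Q₁` normalized by `T` are normalized by `P₁`
  have hup : ∀ K : Subgroup G, K ≤ Q₁ → (∀ g ∈ T, ∀ x ∈ K, g * x * g⁻¹ ∈ K) →
      ∀ g ∈ P₁, ∀ x ∈ K, g * x * g⁻¹ ∈ K := by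
    intro K hK hTK g hg x hx
    obtain ⟨t, ht, i, rfl⟩ := h₁.exists_decomp hdP hdT hd3 g hg
    have e : d ^ (i : ℕ) * x * (d ^ (i : ℕ))⁻¹ = x :=
      mul_inv_eq_iff_eq_mul.2 (Commute.pow_left
        ((Subgroup.mem_centralizer_iff.1 hd.2 x (hK hx)).symm : Commute d x) _).eq
    have e' : t * d ^ (i : ℕ) * x * (t * d ^ (i : ℕ))⁻¹ =
        t * (d ^ (i : ℕ) * x * (d ^ (i : ℕ))⁻¹) * t⁻¹ := by group
    rw [e', e]
    exact hTK t ht _ hx
  let W := Q₁ ⊓ Q₂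
  let K : Subgroup G := W ⊓ ⨅ (g : G) (_ : g ∈ P₂), W.comap (MulAut.conj g).toMonoidHom
  have hKmem : ∀ x, x ∈ K ↔ x ∈ W ∧ ∀ g ∈ P₂, g * x * g⁻¹ ∈ W := fun x => by
    simp [K, Subgroup.mem_iInf, MulAut.conj_apply]
  have hK2 : ∀ g ∈ P₂, ∀ x ∈ K, g * x * g⁻¹ ∈ K := by
    intro g hg x hx
    rw [hKmem] at hx ⊢
    refine ⟨hx.2 g hg, fun g' hg' => ?_⟩
    have := hx.2 (g' * g) (P₂.mul_mem hg' hg)
    simpa [mul_assoc] using this
  have hKT : K ≤ T := (inf_le_left.trans inf_le_left).trans h₁.Qle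
  have hbot : K = ⊥ := hcore K (normal_of_both hgen
    (hup K (inf_le_left.trans inf_le_left) fun g hg => hK2 g (h₂.le hg)) hK2) hKT
  obtain ⟨e, he, heP, heT, he3⟩ := h₂.exists_three hT (C := P₂) le_rfl
    (fun g hg x hx => P₂.mul_mem (P₂.mul_mem hg hx) (P₂.inv_mem hg)) fun hle => by
      have := Subgroup.card_le_of_le (hle.trans h₂.Qle)
      rw [h₂.index] at this
      have := Nat.card_pos (α := ↥T)
      omega
  let W' : ℕ → Subgroup G := fun i => W.comap (MulAut.conj (e ^ i)).toMonoidHom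
  have hW' : ∀ i, ∀ x ∈ Q₂, ∀ y ∈ Q₂, x ∉ W' i → y ∉ W' i → x⁻¹ * y ∈ W' i := by
    intro i x hx y hy hxW hyW
    have hx' := h₂.norm _ (P₂.pow_mem heP i) x hx
    have hy' := h₂.norm _ (P₂.pow_mem heP i) y hy
    have := h₁.inv_mul_mem (h₂.Qle hx') (h₂.Qle hy') (fun h => hxW ⟨h, hx'⟩) (fun h => hyW ⟨h, hy'⟩)
    have hmem : e ^ i * (x⁻¹ * y) * (e ^ i)⁻¹ ∈ W := by
      refine ⟨?_, h₂.norm _ (P₂.pow_mem heP i) _ (Q₂.mul_mem (Q₂.inv_mem hx) hy)⟩
      simpa [mul_assoc] using this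
    exact hmem
  have hle : Q₂ ⊓ W' 0 ⊓ W' 1 ⊓ W' 2 ≤ K := by
    rintro x ⟨⟨⟨-, h0⟩, h1⟩, h2⟩
    have hall : ∀ i : Fin 3, e ^ (i : ℕ) * x * (e ^ (i : ℕ))⁻¹ ∈ W := by
      intro i; fin_cases i
      exacts [h0, h1, h2]
    rw [hKmem]
    refine ⟨by simpa using hall 0, fun g hg => ?_⟩
    obtain ⟨t, ht, i, rfl⟩ := h₂.exists_decomp heP heT he3 g hg
    have h := hall i
    have := (⟨h₁.norm t (h₁.le ht) _ h.1, h₂.norm t (h₂.le ht) _ h.2⟩ :
      t * (e ^ (i : ℕ) * x * (e ^ (i : ℕ))⁻¹) * t⁻¹ ∈ W)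
    simpa [W, mul_assoc] using this
  rw [hbot] at hle
  have fin : ∀ S : Subgroup G, S ≤ Q₂ → Finite ↥S := fun S hS =>
    Finite.of_injective _ (Subgroup.inclusion_injective (hS.trans h₂.Qle))
  haveI := fin (Q₂ ⊓ W' 0) inf_le_left
  haveI := fin (Q₂ ⊓ W' 0 ⊓ W' 1) (inf_le_left.trans inf_le_left)
  haveI := fin (Q₂ ⊓ W' 0 ⊓ W' 1 ⊓ W' 2) (inf_le_left.trans (inf_le_left.trans inf_le_left))
  have c0 : Nat.card ↥Q₂ ≤ 2 * Nat.card ↥(Q₂ ⊓ W' 0 : Subgroup G) :=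
    card_le_two_mul fun x hx y hy => hW' 0 x hx y hy
  have c1 : Nat.card ↥(Q₂ ⊓ W' 0 : Subgroup G) ≤ 2 * Nat.card ↥(Q₂ ⊓ W' 0 ⊓ W' 1 : Subgroup G) :=
    card_le_two_mul fun x hx y hy => hW' 1 x hx.1 y hy.1
  have c2 : Nat.card ↥(Q₂ ⊓ W' 0 ⊓ W' 1 : Subgroup G) ≤
      2 * Nat.card ↥(Q₂ ⊓ W' 0 ⊓ W' 1 ⊓ W' 2 : Subgroup G) :=
    card_le_two_mul fun x hx y hy => hW' 2 x hx.1.1 y hy.1.1
  have c3 := Subgroup.card_le_of_le hle
  rw [Subgroup.card_bot] at c3
  have := h₂.half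
  omega

/-- The facts at a base vertex. -/
theorem base_facts {Ω : Type*} [MulAction G Ω] {R : Ω → Ω → Prop}
    (hR : ∀ (g : G) a c, R a c → R (g • a) (g • c)) {P P' T Q : Subgroup G} (hP : VH T P Q)
    (hTp : IsPGroup 2 ↥T) (hT : T = P ⊓ P') {b b' : Ω} (hb : stabilizer G b = P)
    (hb' : stabilizer G b' = P') (hbb' : R b b')
    (htr : ∀ w, R b w → ∃ g ∈ stabilizer G b, g • b' = w) :
    nbrKer G R b = Q ∧ edgeGrp (X := G) b' b = T ∧ Nat.card {w // R b w} = 3 := by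
  haveI := hP.fin
  have hedge : edgeGrp (X := G) b' b = T := by
    change stabilizer G b' ⊓ stabilizer G b = T
    rw [hb, hb', hT, inf_comm]
  refine ⟨?_, hedge, ?_⟩
  · apply le_antisymm
    · have hleT : nbrKer G R b ≤ T := by
        rw [← hedge]
        exact le_inf (inf_le_right.trans (iInf₂_le b' hbb')) inf_le_left
      refine hP.maxQ _ (hleT.trans hP.le) (hTp.to_le hleT) fun g hg x hx => ?_
      have := conj_mem_nbrKer hR g hx
      rwa [show g • b = b by rwa [← hb, mem_stabilizer_iff] at hg] at this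
    · intro x hx
      simp only [nbrKer, Subgroup.mem_inf, Subgroup.mem_iInf, mem_stabilizer_iff]
      refine ⟨by rw [← mem_stabilizer_iff (G := G), hb]; exact hP.le (hP.Qle hx), fun w hw => ?_⟩
      obtain ⟨k, hk, rfl⟩ := htr w hw
      rw [hb] at hk
      have h1 := hP.Qle (hP.norm k⁻¹ (P.inv_mem hk) x hx)
      rw [inv_inv, ← hedge] at h1
      have h2 := (Data.mem_edgeGrp.1 h1).1
      rwa [mul_smul, mul_smul, inv_smul_eq_iff] at h2
  · have horb : MulAction.orbit ↥(stabilizer G b) b' = {w | R b w} := by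
      ext w
      constructor
      · rintro ⟨⟨g, hg⟩, rfl⟩
        change R b (g • b')
        have := hR g _ _ hbb'
        rwa [mem_stabilizer_iff.1 hg] at this
      · intro hw
        obtain ⟨g, hg, hgu⟩ := htr w hw
        exact ⟨⟨g, hg⟩, hgu⟩
    have h1 := Subgroup.card_eq_card_quotient_mul_card_subgroup
      (stabilizer ↥(stabilizer G b) b')
    have h2 : Nat.card ↥(stabilizer ↥(stabilizer G b) b') = Nat.card ↥T := by
      rw [← hedge]
      exact Nat.card_congr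
        { toFun := fun g => ⟨g.1.1, Data.mem_edgeGrp.2 ⟨g.2, g.1.2⟩⟩
          invFun := fun g => ⟨⟨g.1, (Data.mem_edgeGrp.1 g.2).2⟩, (Data.mem_edgeGrp.1 g.2).1⟩
          left_inv := fun _ => rfl
          right_inv := fun _ => rfl }
    have h3 : Nat.card ↥(stabilizer G b) = 3 * Nat.card ↥T := by rw [hb]; exact hP.index
    rw [h2, ← Nat.card_congr (MulAction.orbitEquivQuotientStabilizer ↥(stabilizer G b) b'), horb,
      h3] at h1
    haveI : Finite ↥T := Finite.of_injective _ (Subgroup.inclusion_injective hP.le)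
    exact (Nat.eq_of_mul_eq_mul_right Nat.card_pos h1).symm

/-- The graph data when the second group centralizes the central involutions. -/
theorem card_le_of_central (hgen : P₁ ⊔ P₂ = ⊤) (hinf : T = P₁ ⊓ P₂)
    (hcore : ∀ N : Subgroup G, N.Normal → N ≤ T → N = ⊥) (hT : IsPGroup 2 ↥T) (h₁ : VH T P₁ Q₁)
    (h₂ : VH T P₂ Q₂) (hc₁ : P₁ ⊓ Subgroup.centralizer (Q₁ : Set G) ≤ Q₁)
    (hc₂ : P₂ ⊓ Subgroup.centralizer (Q₂ : Set G) ≤ Q₂)
    (hA : ∀ z ∈ T, z * z = 1 → (∀ t ∈ T, t * z = z * t) → ∀ g ∈ P₂, g * z = z * g) :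
    Nat.card ↥T ≤ 128 := by
  set b₁ : CosetVertex P₁ P₂ := Sum.inl ((1 : G) : G ⧸ P₁)
  set b₂ : CosetVertex P₁ P₂ := Sum.inr ((1 : G) : G ⧸ P₂)
  have h01 : (cosetGraph P₁ P₂).Adj b₁ b₂ := adj_base 1
  have hR : ∀ (g : G) a c, (cosetGraph P₁ P₂).Adj a c → (cosetGraph P₁ P₂).Adj (g • a) (g • c) :=
    fun g _ _ hab => adj_smul g hab
  obtain ⟨eQ₁, eT₁, eV₁⟩ := base_facts hR h₁ hT hinf stabilizer_base₁ stabilizer_base₂ h01
    fun w hw => exists_stabilizer_smul_eq h01 hw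
  obtain ⟨eQ₂, eT₂, eV₂⟩ := base_facts hR h₂ hT (hinf.trans (inf_comm _ _)) stabilizer_base₂
    stabilizer_base₁ h01.symm fun w hw => exists_stabilizer_smul_eq h01.symm hw
  have hkey : ∀ (g : G) (w : CosetVertex P₁ P₂),
      Nat.card {z // (cosetGraph P₁ P₂).Adj (g • w) z} = Nat.card {z // (cosetGraph P₁ P₂).Adj w z} :=
    fun g w => (Nat.card_congr ((MulAction.toPerm g).subtypeEquiv fun z =>
      (adj_smul_iff g (a := w) (b := z)).symm)).symm
  let D : CD G (CosetVertex P₁ P₂) :=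
    { Adj := (cosetGraph P₁ P₂).Adj
      isB := fun v => v.isRight = true
      symm' := fun _ _ hab => hab.symm
      irrefl' := fun a ha => ha.ne rfl
      adj_smul := hR
      conn := fun a b =>
        (SimpleGraph.reachable_iff_reflTransGen a b).1 ((cosetGraph_connected hgen).preconnected a b)
      faithful := fun g hg => by
        have hker : (MulAction.toPermHom G (CosetVertex P₁ P₂)).ker = ⊥ :=
          hcore _ inferInstance fun x hx => hinf ▸ mem_of_toPermHom_eq_one hx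
        exact Subgroup.mem_bot.1
          (hker ▸ (Equiv.ext hg : MulAction.toPermHom G (CosetVertex P₁ P₂) g = 1))
      fin := fun v => by
        obtain ⟨u, hu⟩ := exists_adj v
        haveI := h₁.fin
        haveI := h₂.fin
        have key : ∀ (g : G) (w : CosetVertex P₁ P₂), Finite ↥(stabilizer G w) →
            Finite ↥(stabilizer G (g • w)) := fun g w hw =>
          Finite.of_injective (fun x => (⟨g⁻¹ * x * g, by
            have := Data.conj_mem_stab (g := g⁻¹) x.2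
            simpa using this⟩ : ↥(stabilizer G w)))
            fun x x' hxx => Subtype.ext (by simpa using congrArg Subtype.val hxx)
        obtain ⟨g, ⟨-, rfl⟩ | ⟨-, rfl⟩⟩ := arc_cases hu.symm
        · exact key g _ (by rw [stabilizer_base₁]; infer_instance)
        · exact key g _ (by rw [stabilizer_base₂]; infer_instance)
      trans := fun _ _ _ ha hb => exists_stabilizer_smul_eq ha hb
      valency := fun v => by
        obtain ⟨u, hu⟩ := exists_adj v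
        obtain ⟨g, ⟨-, rfl⟩ | ⟨-, rfl⟩⟩ := arc_cases hu.symm
        · rw [hkey]; exact eV₁
        · rw [hkey]; exact eV₂
      twogroup := fun u v huv => by
        have key : ∀ (g : G) (a c : CosetVertex P₁ P₂), edgeGrp (X := G) a c = T →
            IsPGroup 2 ↥(edgeGrp (X := G) (g • a) (g • c)) := by
          intro g a c he
          have hle : edgeGrp (X := G) (g • a) (g • c) ≤ T.map (MulAut.conj g).toMonoidHom := by
            intro x hx
            have := Data.conj_mem_edge (g := g⁻¹) hx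
            rw [inv_smul_smul, inv_smul_smul, he, inv_inv] at this
            exact ⟨_, this, by simp only [MulEquiv.coe_toMonoidHom, MulAut.conj_apply]; group⟩
          exact (hT.map _).to_le hle
        obtain ⟨g, ⟨rfl, rfl⟩ | ⟨rfl, rfl⟩⟩ := arc_cases huv
        · exact key g _ _ eT₁
        · exact key g _ _ eT₂
      half := fun u v huv => by
        obtain ⟨g, ⟨rfl, rfl⟩ | ⟨rfl, rfl⟩⟩ := arc_cases huv
        · rw [card_edgeGrp_smul, card_nbrKer_smul hR, eQ₁, eT₁]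
          exact h₁.half
        · rw [card_edgeGrp_smul, card_nbrKer_smul hR, eQ₂, eT₂]
          exact h₂.half
      char := fun v x hx hcomm => by
        have key : ∀ (g : G) (w : CosetVertex P₁ P₂) (P Q : Subgroup G), stabilizer G w = P →
            nbrKer G (cosetGraph P₁ P₂).Adj w = Q →
            P ⊓ Subgroup.centralizer (Q : Set G) ≤ Q → ∀ x ∈ stabilizer G (g • w),
            (∀ z ∈ nbrKer G (cosetGraph P₁ P₂).Adj (g • w), x * z = z * x) →
            x ∈ nbrKer G (cosetGraph P₁ P₂).Adj (g • w) := by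
          intro g w P Q hw hK hc x hx hcomm
          have hx' : g⁻¹ * x * g ∈ P := by
            rw [← hw]
            have := Data.conj_mem_stab (g := g⁻¹) hx
            simpa using this
          have hxK : g⁻¹ * x * g ∈ Q := by
            refine hc ⟨hx', Subgroup.mem_centralizer_iff.2 fun z hz => ?_⟩
            rw [SetLike.mem_coe, ← hK] at hz
            have e := hcomm _ (conj_mem_nbrKer hR g hz)
            calc z * (g⁻¹ * x * g) = g⁻¹ * (g * z * g⁻¹ * x) * g := by group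
              _ = g⁻¹ * (x * (g * z * g⁻¹)) * g := by rw [e]
              _ = g⁻¹ * x * g * z := by group
          rw [← hK] at hxK
          have := conj_mem_nbrKer hR g hxK
          simpa [mul_assoc] using this
        obtain ⟨u, hu⟩ := exists_adj v
        obtain ⟨g, ⟨-, rfl⟩ | ⟨-, rfl⟩⟩ := arc_cases hu.symm
        · exact key g _ _ _ stabilizer_base₁ eQ₁ hc₁ x hx hcomm
        · exact key g _ _ _ stabilizer_base₂ eQ₂ hc₂ x hx hcomm
      isB_smul := fun g v => by cases v <;> rfl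
      isB_adj := fun u v huv => by
        rcases cosetGraph_adj_iff.1 huv with ⟨x, rfl, rfl⟩ | ⟨x, rfl, rfl⟩ <;> simp
      exB := ⟨b₂, rfl⟩
      central := fun u v huv hv w hw hw2 hwc => by
        obtain ⟨g, ⟨rfl, rfl⟩ | ⟨rfl, rfl⟩⟩ := arc_cases huv
        · exact absurd hv (by simp [smul_inl_coe])
        · intro k hk
          have h1 := Data.conj_mem_edge (g := g⁻¹) hw
          rw [inv_smul_smul, inv_smul_smul, eT₂, inv_inv] at h1
          have hk' : g⁻¹ * k * g ∈ P₂ := by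
            rw [← stabilizer_base₂ (P₁ := P₁) (P₂ := P₂)]
            have := Data.conj_mem_stab (g := g⁻¹) hk
            simpa using this
          have e := hA _ h1 (by
            calc g⁻¹ * w * g * (g⁻¹ * w * g) = g⁻¹ * (w * w) * g := by group
              _ = 1 := by rw [hw2]; group) (fun t ht => by
            rw [← eT₂] at ht
            have e := hwc _ (Data.conj_mem_edge (g := g) ht)
            calc t * (g⁻¹ * w * g) = g⁻¹ * (g * t * g⁻¹ * w) * g := by group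
              _ = g⁻¹ * (w * (g * t * g⁻¹)) * g := by rw [e]
              _ = g⁻¹ * w * g * t := by group) _ hk'
          calc k * w = g * (g⁻¹ * k * g * (g⁻¹ * w * g)) * g⁻¹ := by group
            _ = g * (g⁻¹ * w * g * (g⁻¹ * k * g)) * g⁻¹ := by rw [e]
            _ = w * k := by group }
  have := D.card_edge_le (a := b₁) (c := b₂) h01 rfl
  rwa [eT₂] at this

/-- The bound for a pair generating the group. -/
theorem card_le_of_gen (hgen : P₁ ⊔ P₂ = ⊤) (hinf : T = P₁ ⊓ P₂)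
    (hcore : ∀ N : Subgroup G, N.Normal → N ≤ T → N = ⊥) (hT : IsPGroup 2 ↥T) (h₁ : VH T P₁ Q₁)
    (h₂ : VH T P₂ Q₂) : Nat.card ↥T ≤ 128 := by
  have hgen' : P₂ ⊔ P₁ = ⊤ := by rw [sup_comm, hgen]
  have hinf' : T = P₂ ⊓ P₁ := by rw [inf_comm, hinf]
  by_cases hc₁ : P₁ ⊓ Subgroup.centralizer (Q₁ : Set G) ≤ Q₁
  swap
  · exact (card_le_of_not_char hgen hinf hcore hT h₁ h₂ hc₁).trans (by norm_num)
  by_cases hc₂ : P₂ ⊓ Subgroup.centralizer (Q₂ : Set G) ≤ Q₂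
  swap
  · exact (card_le_of_not_char hgen' hinf' hcore hT h₂ h₁ hc₂).trans (by norm_num)
  by_cases hA₂ : ∀ z ∈ T, z * z = 1 → (∀ t ∈ T, t * z = z * t) → ∀ g ∈ P₂, g * z = z * g
  · exact card_le_of_central hgen hinf hcore hT h₁ h₂ hc₁ hc₂ hA₂
  by_cases hA₁ : ∀ z ∈ T, z * z = 1 → (∀ t ∈ T, t * z = z * t) → ∀ g ∈ P₁, g * z = z * g
  · exact card_le_of_central hgen' hinf' hcore hT h₂ h₁ hc₂ hc₁ hA₁
  have hnc : ∀ P : Subgroup G,
      (¬ ∀ z ∈ T, z * z = 1 → (∀ t ∈ T, t * z = z * t) → ∀ g ∈ P, g * z = z * g) →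
      ¬ P ≤ Subgroup.centralizer (omegaOne 2 (T ⊓ Subgroup.centralizer (T : Set G)) : Set G) := by
    intro P hA hle
    refine hA fun z hz hz2 hzc g hg => (Subgroup.mem_centralizer_iff.1 (hle hg) z ?_).symm
    exact Subgroup.subset_closure
      ⟨⟨hz, Subgroup.mem_centralizer_iff.2 hzc⟩, by rw [pow_two]; exact hz2⟩
  have e₁ := h₁.pCoreOf_eq hT
  have e₂ := h₂.pCoreOf_eq hT
  have hp : PairHyp P₁ P₂ T 3 :=
    ⟨Nat.prime_three, by decide, hgen, hinf, hcore, hT,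
      ⟨h₁.le, h₁.fin, h₁.index, e₁ ▸ h₁.Qle, e₁ ▸ h₁.half, e₁ ▸ hc₁, hnc _ hA₁⟩,
      ⟨h₂.le, h₂.fin, h₂.index, e₂ ▸ h₂.Qle, e₂ ▸ h₂.half, e₂ ▸ hc₂, hnc _ hA₂⟩⟩
  have h24 : Nat.card (Equiv.Perm (Fin 4)) = 24 := by
    rw [Nat.card_perm, Nat.card_fin]; rfl
  have hidx := h₁.index
  rcases (pair_structure hp).2 with ⟨⟨e⟩, -⟩ | ⟨⟨e⟩, -⟩
  · rw [Nat.card_congr e.toEquiv, h24] at hidx
    omega
  · rw [Nat.card_congr e.toEquiv, Nat.card_prod, h24, Nat.card_congr Multiplicative.toAdd,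
      Nat.card_zmod] at hidx
    omega

theorem vh_of_sylow {M T : Subgroup G} [Finite ↥M] (hle : T ≤ M) (S : Sylow 2 ↥M)
    (hS : (S : Subgroup ↥M) = T.subgroupOf M) (hcard : Nat.card (↥M ⧸ pCore 2 ↥M) = 6) :
    VH T M (pCoreOf 2 M) ∧ IsPGroup 2 ↥T := by
  haveI := Fact.mk Nat.prime_two
  have hT : (S : Subgroup ↥M).map M.subtype = T := by
    rw [hS, Subgroup.map_subgroupOf_eq_of_le hle]
  have hcardT : Nat.card ↥T = Nat.card ↥(S : Subgroup ↥M) := by
    rw [← hT, Subgroup.card_map_of_injective M.subtype_injective]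
  have hcardQ : Nat.card ↥(pCoreOf 2 M) = Nat.card ↥(pCore 2 ↥M) :=
    Subgroup.card_map_of_injective M.subtype_injective
  obtain ⟨k, hk⟩ := IsPGroup.iff_card.1 (CfsgLib.Cores.isPGroup_pCore (G := ↥M) 2)
  have hM : Nat.card ↥M = 2 ^ (k + 1) * 3 := by
    rw [Subgroup.card_eq_card_quotient_mul_card_subgroup (pCore 2 ↥M), hcard, hk, pow_succ]; ring
  have hfac : (Nat.card ↥M).factorization 2 = k + 1 := by
    rw [hM, Nat.factorization_mul (by positivity) (by norm_num), Finsupp.add_apply,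
      Nat.Prime.factorization_pow Nat.prime_two, Finsupp.single_eq_same,
      Nat.factorization_eq_zero_of_not_dvd (by norm_num), add_zero]
  have hS2 : Nat.card ↥(S : Subgroup ↥M) = 2 ^ (k + 1) := by rw [S.card_eq_multiplicity, hfac]
  exact ⟨⟨hle, inferInstance, by rw [hcardT, hS2, hM, mul_comm],
    hT ▸ Subgroup.map_mono (CfsgLib.Cores.pCore_le_sylow S),
    by rw [hcardT, hS2, hcardQ, hk, pow_succ'],
    fun g hg x hx => (Subgroup.mem_normalizer_iff.1 (le_normalizer_pCoreOf 2 M hg) x).1 hx,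
    fun R hR hRp hn => le_pCoreOf hR hRp (le_normalizer_of hn)⟩, hT ▸ S.isPGroup'.map M.subtype⟩

theorem VH.subgroupOf {X T P Q : Subgroup G} (h : VH T P Q) (hPX : P ≤ X) :
    VH (T.subgroupOf X) (P.subgroupOf X) (Q.subgroupOf X) := by
  have hTX := h.le.trans hPX
  have eP := Nat.card_congr (Subgroup.subgroupOfEquivOfLe hPX).toEquiv
  have eT := Nat.card_congr (Subgroup.subgroupOfEquivOfLe hTX).toEquiv
  have eQ := Nat.card_congr (Subgroup.subgroupOfEquivOfLe (h.Qle.trans hTX)).toEquiv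
  haveI := h.fin
  refine ⟨Subgroup.comap_mono h.le, Finite.of_equiv _ (Subgroup.subgroupOfEquivOfLe hPX).symm.toEquiv,
    by rw [eP, eT]; exact h.index, Subgroup.comap_mono h.Qle, by rw [eT, eQ]; exact h.half,
    fun g hg x hx => ?_, fun R hR hRp hn => ?_⟩
  · exact h.norm g hg x hx
  · rintro x hx
    refine h.maxQ (R.map X.subtype) ?_ (hRp.map _) ?_ (Subgroup.mem_map_of_mem _ hx)
    · rintro _ ⟨y, hy, rfl⟩
      exact hR hy
    · rintro g hg _ ⟨y, hy, rfl⟩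
      exact ⟨⟨g, hPX hg⟩ * y * ⟨g, hPX hg⟩⁻¹, hn _ hg y hy, rfl⟩

/-- Goldschmidt's bound. -/
theorem goldschmidt_bound (M₁ M₂ : Subgroup G) [Finite ↥M₁] [Finite ↥M₂]
    (ha₁ : ∃ P : Sylow 2 M₁, (P : Subgroup M₁) = (M₁ ⊓ M₂).subgroupOf M₁)
    (ha₂ : ∃ P : Sylow 2 M₂, (P : Subgroup M₂) = (M₁ ⊓ M₂).subgroupOf M₂)
    (hb₁ : Nonempty (M₁ ⧸ Cfsg.pCore 2 M₁ ≃* Equiv.Perm (Fin 3)))
    (hb₂ : Nonempty (M₂ ⧸ Cfsg.pCore 2 M₂ ≃* Equiv.Perm (Fin 3)))
    (hc : ∀ N : Subgroup G, N ≤ M₁ ⊓ M₂ → (N.subgroupOf M₁).Normal → (N.subgroupOf M₂).Normal →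
      N = ⊥) :
    Nat.card ↥(M₁ ⊓ M₂ : Subgroup G) ≤ 2 ^ 7 := by
  obtain ⟨S₁, hS₁⟩ := ha₁
  obtain ⟨S₂, hS₂⟩ := ha₂
  obtain ⟨e₁⟩ := hb₁
  obtain ⟨e₂⟩ := hb₂
  have h6 : Nat.card (Equiv.Perm (Fin 3)) = 6 := by rw [Nat.card_perm, Nat.card_fin]; rfl
  obtain ⟨h₁, hT⟩ := vh_of_sylow inf_le_left S₁ hS₁ (by rw [Nat.card_congr e₁.toEquiv, h6])
  obtain ⟨h₂, -⟩ := vh_of_sylow inf_le_right S₂ hS₂ (by rw [Nat.card_congr e₂.toEquiv, h6])
  let X := M₁ ⊔ M₂
  have hle₁ : M₁ ≤ X := le_sup_left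
  have hle₂ : M₂ ≤ X := le_sup_right
  rw [← Nat.card_congr (Subgroup.subgroupOfEquivOfLe (inf_le_left.trans hle₁ : M₁ ⊓ M₂ ≤ X)).toEquiv]
  refine card_le_of_gen (P₁ := M₁.subgroupOf X) (P₂ := M₂.subgroupOf X) ?_ ?_ ?_ ?_
    (h₁.subgroupOf hle₁) (h₂.subgroupOf hle₂)
  · rw [← Subgroup.subgroupOf_sup hle₁ hle₂, Subgroup.subgroupOf_self]
  · exact Subgroup.comap_inf _ _ _
  · intro N hN hNT
    have key : ∀ M : Subgroup G, M ≤ X → ((N.map X.subtype).subgroupOf M).Normal := by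
      intro M hM
      refine ⟨fun n hn g => ?_⟩
      obtain ⟨y, hy, hy'⟩ := hn
      refine ⟨⟨g, hM g.2⟩ * y * ⟨g, hM g.2⟩⁻¹, hN.conj_mem y hy _, ?_⟩
      change (g : G) * (y : G) * (g : G)⁻¹ = (g : G) * (n : G) * (g : G)⁻¹
      change (y : G) = (n : G) at hy'
      rw [hy']
    have hbot := hc (N.map X.subtype) (by rintro _ ⟨y, hy, rfl⟩; exact hNT hy) (key M₁ hle₁)
      (key M₂ hle₂)
    exact (Subgroup.map_eq_bot_iff_of_injective N X.subtype_injective).1 hbot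
  · exact hT.comap_subtype

end CfsgLib.LocalEven.AmalgamCentral
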