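import Cfsg.Agent.Lib.LocalEven.AmalgamCentral.Central

/-!
The largest radius two or three: the vertex kernels have order at most 64.
-/

set_option autoImplicit false

namespace CfsgLib.LocalEven.AmalgamCentral

open MulAction AmalgamZ

variable {X Ω : Type*} [Group X] [MulAction X Ω]

namespace CD

variable (D : CD X Ω)

theorem eq_one_of_cube {u v : Ω} (h : D.Adj u v) {x : X} (hx : x ∈ edgeGrp u v) (h3 : x ^ 3 = 1) :
    x = 1 := by
  obtain ⟨k, hk⟩ := D.twogroup u v h ⟨x, hx⟩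
  have h1 : orderOf x ∣ 3 := orderOf_dvd_of_pow_eq_one h3
  have h2 : orderOf x ∣ 2 ^ k := orderOf_dvd_of_pow_eq_one (congrArg Subtype.val hk)
  rw [← orderOf_eq_one_iff]
  have hco : Nat.Coprime 3 (2 ^ k) := Nat.Coprime.pow_right k (by norm_num)
  exact Nat.eq_one_of_dvd_coprimes hco h1 h2

theorem mem_edge_of_mem_Q {a c : Ω} (h : D.Adj c a) {x : X} (hx : x ∈ D.Q c) :
    x ∈ edgeGrp (X := X) c a :=
  mem_edge.2 ⟨(D.mem_Q.1 hx).1, (D.mem_Q.1 hx).2 a h⟩

/-- An element outside the kernel centralizing the intersection with a neighbouring kernel forces the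
intersections to differ. -/
theorem ne_of_mover {a c : Ω} (hc : D.isB c) (ha : D.Adj c a) {t : X} (htc : t • c = c)
    (hta : t • a = a) (htQ : t ∉ D.Q c) (ht : ∀ x ∈ D.H a c, t * x = x * t) : D.NE := by
  by_contra hNE
  have hall : ∀ b, D.Adj c b → D.H b c = D.H a c := by
    intro b hb
    by_contra hb'
    exact hNE (D.ne_of_pair hc hb ha (fun e => hb' (by rw [e])) hb')
  have hconj : ∀ g : X, g • c = c → ∀ x ∈ D.H a c, g * x * g⁻¹ ∈ D.H a c := by
    intro g hg x hx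
    have := D.conj_mem_H (g := g) hx
    rwa [hg, hall _ (D.adj_fix hg ha)] at this
  let C : Subgroup X := stabilizer X c ⊓ Subgroup.centralizer (D.H a c : Set X)
  have hC : stabilizer X c ≤ normK C := le_normK fun g hg y hy => by
    rw [mem_stabilizer_iff] at hg
    refine ⟨?_, Subgroup.mem_centralizer_iff.2 fun x hx => ?_⟩
    · exact Subgroup.mul_mem _ (Subgroup.mul_mem _ (mem_stabilizer_iff.2 hg) hy.1)
        (Subgroup.inv_mem _ (mem_stabilizer_iff.2 hg))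
    · have h1 := hconj g⁻¹ (inv_smul_eq_iff.2 hg.symm) x hx
      rw [inv_inv] at h1
      have e := Subgroup.mem_centralizer_iff.1 hy.2 _ h1
      calc x * (g * y * g⁻¹) = g * (g⁻¹ * x * g * y) * g⁻¹ := by group
        _ = g * (y * (g⁻¹ * x * g)) * g⁻¹ := by rw [e]
        _ = g * y * g⁻¹ * x := by group
  obtain ⟨d, hd, hdc, hd3, hmv⟩ := D.exists_three (N := C) inf_le_left hC
    (t := t) (a := a) ⟨htc, Subgroup.mem_centralizer_iff.2 fun x hx => (ht x hx).symm⟩ ha hta htQ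
  have hdH : ∀ x ∈ D.H a c, d * x = x * d := fun x hx =>
    (Subgroup.mem_centralizer_iff.1 hd.2 x hx).symm
  refine hmv a ha ((D.mem_Q.1 (D.char c d (mem_stabilizer_iff.2 hdc) fun x hx => ?_)).2 a ha)
  change x ∈ D.Q c at hx
  by_cases hxa : x ∈ D.Q a
  · exact hdH x ⟨hxa, hx⟩
  have hy : d * x * d⁻¹ ∈ D.Q c := D.conj_mem_Q_fix hdc hx
  have hya : d * x * d⁻¹ ∉ D.Q a := by
    intro hmem
    have := hconj d⁻¹ (inv_smul_eq_iff.2 hdc.symm) _ ⟨hmem, hy⟩
    exact hxa (by simpa [mul_assoc] using this.1)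
  set h := x⁻¹ * (d * x * d⁻¹) with hh
  have hhH : h ∈ D.H a c :=
    ⟨D.inv_mul_mem_Q ha (D.mem_edge_of_mem_Q ha hx) (D.mem_edge_of_mem_Q ha hy) hxa hya,
      (D.Q c).mul_mem ((D.Q c).inv_mem hx) hy⟩
  have hdx : d * x = x * h * d := by rw [hh]; group
  have hcomm : d * h = h * d := hdH h hhH
  have h3 : x = x * h ^ 3 := by
    have e1 : d ^ 3 * x = x * h ^ 3 * d ^ 3 := by
      calc d ^ 3 * x = d * (d * (d * x)) := by simp [pow_succ, mul_assoc]
        _ = d * (d * (x * h * d)) := by rw [hdx]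
        _ = d * ((d * x) * h * d) := by simp [mul_assoc]
        _ = d * ((x * h * d) * h * d) := by rw [hdx]
        _ = d * (x * h * (d * h) * d) := by simp [mul_assoc]
        _ = d * (x * h * (h * d) * d) := by rw [hcomm]
        _ = (d * x) * h * h * d * d := by simp [mul_assoc]
        _ = (x * h * d) * h * h * d * d := by rw [hdx]
        _ = x * h * (d * h) * h * d * d := by simp [mul_assoc]
        _ = x * h * (h * d) * h * d * d := by rw [hcomm]
        _ = x * h * h * (d * h) * d * d := by simp [mul_assoc]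
        _ = x * h * h * (h * d) * d * d := by rw [hcomm]
        _ = x * h ^ 3 * d ^ 3 := by simp [pow_succ, mul_assoc]
    simpa [hd3] using e1
  have h1 : h = 1 := D.eq_one_of_cube ha (D.mem_edge_of_mem_Q ha hhH.2) (mul_eq_left.1 h3.symm)
  rw [hdx, h1, mul_one]

theorem mem_ker_two {c : Ω} {g : X} :
    g ∈ D.ker 2 c ↔ g • c = c ∧ ∀ a, D.Adj c a → g ∈ D.Q a := by
  rw [D.mem_ker_succ]; rfl

theorem card_ker_eq {c c' : Ω} (hc : D.isB c) (hc' : D.isB c') (n : ℕ) :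
    Nat.card ↥(D.ker n c) = Nat.card ↥(D.ker n c') := by
  obtain ⟨g, rfl⟩ := D.exists_smul_eq hc hc'
  exact Nat.card_congr
    { toFun := fun x => ⟨g * x * g⁻¹, D.conj_mem_ker x.2⟩
      invFun := fun x => ⟨g⁻¹ * x * g, by
        have := D.conj_mem_ker (g := g⁻¹) x.2
        rwa [inv_smul_smul, inv_inv] at this⟩
      left_inv := fun x => Subtype.ext (by group)
      right_inv := fun x => Subtype.ext (by group) }

theorem card_Q_le_inter {a a' c : Ω} (ha : D.Adj c a) (ha' : D.Adj c a') :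
    Nat.card ↥(D.Q c) ≤ 4 * Nat.card ↥(D.Q c ⊓ D.Q a ⊓ D.Q a' : Subgroup X) := by
  haveI := D.finite_of_le (inf_le_left.trans (inf_le_left.trans (D.Q_le_stab c)) :
    D.Q c ⊓ D.Q a ⊓ D.Q a' ≤ stabilizer X c)
  have h1 := D.card_Q_le_two_H ha
  have h2 : Nat.card ↥(D.Q c ⊓ D.Q a : Subgroup X) ≤
      2 * Nat.card ↥(D.Q c ⊓ D.Q a ⊓ D.Q a' : Subgroup X) :=
    card_le_two_mul fun x hx y hy hxA hyA =>
      D.inv_mul_mem_Q ha' (D.mem_edge_of_mem_Q ha' hx.1) (D.mem_edge_of_mem_Q ha' hy.1) hxA hyA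
  omega

theorem card_Q_le_ker_two (c : Ω) : Nat.card ↥(D.Q c) ≤ 8 * Nat.card ↥(D.ker 2 c) := by
  obtain ⟨a, ha⟩ := D.exists_adj c
  obtain ⟨a', ha', hne⟩ := D.exists_other ha
  obtain ⟨e, he, hea, hea'⟩ := D.exists_third ha ha'
  haveI := D.finite_of_le (inf_le_left.trans (inf_le_left.trans (inf_le_left.trans (D.Q_le_stab c))) :
    D.Q c ⊓ D.Q a ⊓ D.Q a' ⊓ D.Q e ≤ stabilizer X c)
  haveI := D.finite_of_le ((D.ker_antitone (Nat.zero_le 2) c).trans le_rfl :
    D.ker 2 c ≤ stabilizer X c)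
  have h1 := D.card_Q_le_inter ha ha'
  have h2 : Nat.card ↥(D.Q c ⊓ D.Q a ⊓ D.Q a' : Subgroup X) ≤
      2 * Nat.card ↥(D.Q c ⊓ D.Q a ⊓ D.Q a' ⊓ D.Q e : Subgroup X) :=
    card_le_two_mul fun x hx y hy hxA hyA =>
      D.inv_mul_mem_Q he (D.mem_edge_of_mem_Q he hx.1.1) (D.mem_edge_of_mem_Q he hy.1.1) hxA hyA
  have h3 : Nat.card ↥(D.Q c ⊓ D.Q a ⊓ D.Q a' ⊓ D.Q e : Subgroup X) ≤ Nat.card ↥(D.ker 2 c) :=
    Subgroup.card_le_of_le fun x hx => D.mem_ker_two.2 ⟨(D.mem_Q.1 hx.1.1.1).1, fun u hu => by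
      rcases D.nbr_cases ha ha' he hne.symm hea.symm hea'.symm hu with rfl | rfl | rfl
      exacts [hx.1.1.2, hx.1.2, hx.2]⟩
  omega

/-- If each radius-two kernel is centralized by movers, its square is at most the kernel. -/
theorem card_ker_two_sq (hNE : D.NE) {c a₀ : Ω} (hc : D.isB c) (ha₀ : D.Adj c a₀) {d₀ : X}
    (h1 : d₀ • c = c) (h2 : d₀ • a₀ = a₀) (h3 : d₀ ∉ D.Q c)
    (h4 : ∀ x ∈ D.ker 2 c, d₀ * x = x * d₀) :
    Nat.card ↥(D.ker 2 c) * Nat.card ↥(D.ker 2 c) ≤ Nat.card ↥(D.Q c) := by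
  have key : ∀ c' a, D.isB c' → D.Adj c' a →
      ∃ d : X, d • c' = c' ∧ d • a ≠ a ∧ ∀ x ∈ D.ker 2 c', d * x = x * d := by
    intro c' a hc' ha
    obtain ⟨b, hb, hba⟩ := D.exists_other ha
    obtain ⟨g, hgc, hga⟩ := D.exists_smul_arc hc hc' ha₀ hb
    have hfc : (g * d₀ * g⁻¹) • c' = c' := by rw [← hgc]; exact Data.conj_smul_eq h1
    have hfb : (g * d₀ * g⁻¹) • b = b := by rw [← hga]; exact Data.conj_smul_eq h2
    refine ⟨g * d₀ * g⁻¹, hfc, D.moves_of_not_mem_Q hb ha hba hfc hfb fun hm => h3 ?_, fun x hx => ?_⟩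
    · have := D.conj_mem_Q (g := g⁻¹) hm
      rw [← hgc, inv_smul_smul] at this
      simpa [mul_assoc] using this
    · have hx' := D.conj_mem_ker (g := g⁻¹) hx
      rw [← hgc, inv_smul_smul, inv_inv] at hx'
      calc g * d₀ * g⁻¹ * x = g * (d₀ * (g⁻¹ * x * g)) * g⁻¹ := by group
        _ = g * ((g⁻¹ * x * g) * d₀) * g⁻¹ := by rw [h4 _ hx']
        _ = x * (g * d₀ * g⁻¹) := by group
  obtain ⟨c', hc', hne⟩ := D.exists_other (D.symm ha₀)
  have hB' : D.isB c' := D.isB_right hc' (D.not_isB ha₀ hc)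
  have hle : ∀ u, D.Adj u a₀ → D.ker 2 u ≤ D.Q a₀ := fun u hu x hx => (D.mem_ker_two.1 hx).2 a₀ hu
  have hnorm : ∀ u, D.Adj u a₀ → D.Q a₀ ≤ normK (D.ker 2 u) := fun u hu => le_normK fun g hg x hx =>
    D.conj_mem_ker_fix ((D.mem_Q.1 hg).2 u (D.symm hu)) hx
  have hbot := D.inf_eq_bot hNE ha₀ (D.symm hc') hc hne.symm
    (fun x hx => mem_edge.2 ⟨(D.mem_Q.1 (hle c ha₀ hx)).1, D.ker_fix_self hx⟩) (hnorm c ha₀)
    (hnorm c' (D.symm hc')) (key c a₀ hc ha₀) (key c' a₀ hB' (D.symm hc'))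
  haveI := D.finite_Q a₀
  have := card_mul_le (hle c ha₀) (hle c' (D.symm hc')) hbot
  rwa [D.card_ker_eq hB' hc, ← D.card_Q_eq ha₀] at this

end CD

namespace CZ

variable {D : CD X Ω} (E : CZ D)

theorem card_Q_le_of_r_two (hr : E.r = 2) {c : Ω} (hc : D.isB c) : Nat.card ↥(D.Q c) ≤ 64 := by
  obtain ⟨w, rfl, hw, h0, hmv⟩ := E.exists_moved_through hc (k := 2) (by omega) even_two
  rw [hr] at hw hmv
  set t := E.z (w 0)
  have h01 := hw.1 0 (by norm_num)
  have h12 := hw.1 1 (by norm_num)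
  have h23 := hw.1 2 (by norm_num)
  have ht1 : t • w 1 = w 1 := E.z_fix_walk hw.1 h0 (Nat.zero_le _) (by norm_num) (by omega) (by omega)
  have ht2 : t • w 2 = w 2 := E.z_fix_walk hw.1 h0 (Nat.zero_le _) (by norm_num) (by omega) (by omega)
  have htQ : t ∉ D.Q (w 2) := fun h => hmv ((D.mem_Q.1 h).2 _ h23)
  have hcen : ∀ x ∈ D.Q (w 1), t * x = x * t := fun x hx =>
    (E.comm_of_fix h0 ((D.mem_Q.1 hx).2 _ (D.symm h01))).symm
  have hNE := D.ne_of_mover hc (D.symm h12) ht2 ht1 htQ fun x hx => hcen x hx.1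
  have hsq := D.card_ker_two_sq hNE hc (D.symm h12) ht2 ht1 htQ fun x hx =>
    hcen x ((D.mem_ker_two.1 hx).2 _ (D.symm h12))
  haveI := D.finite_of_le (D.ker_antitone (Nat.zero_le 2) (w 2))
  have hQ := D.card_Q_le_inter (D.symm h12) h23
  have hle : Nat.card ↥(D.Q (w 2) ⊓ D.Q (w 1) ⊓ D.Q (w 3) : Subgroup X) ≤
      Nat.card ↥(D.ker 2 (w 2)) := by
    refine Subgroup.card_le_of_le fun x hx => D.mem_ker_two.2 ⟨(D.mem_Q.1 hx.1.1).1, fun u hu => ?_⟩
    have hne : w 3 ≠ w 1 := hw.2 1 (by norm_num)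
    by_cases hu1 : u = w 1
    · exact hu1 ▸ hx.1.2
    by_cases hu3 : u = w 3
    · exact hu3 ▸ hx.2
    have he : u = t • w 3 := D.eq_third (D.symm h12) h23 hne.symm hu (D.adj_fix ht2 h23) hu1 hu3
      (CD.smul_ne ht1 hne) (D.moves_of_not_mem_Q (D.symm h12) h23 hne.symm ht2 ht1 htQ)
    have := D.conj_mem_Q (g := t) hx.2
    rwa [hcen x hx.1.2, mul_inv_cancel_right, ← he] at this
  nlinarith [Nat.card_pos (α := ↥(D.ker 2 (w 2)))]

theorem card_Q_le_of_r_three (hr : E.r = 3) {c : Ω} (hc : D.isB c) : Nat.card ↥(D.Q c) ≤ 64 := by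
  obtain ⟨w, rfl, hw, h0, hmv⟩ := E.exists_moved_through hc (k := 2) (by omega) even_two
  rw [hr] at hw hmv
  set t := E.z (w 0)
  have h01 := hw.1 0 (by norm_num)
  have h12 := hw.1 1 (by norm_num)
  have h23 := hw.1 2 (by norm_num)
  have h34 := hw.1 3 (by norm_num)
  have n13 : w 3 ≠ w 1 := hw.2 1 (by norm_num)
  have n24 : w 4 ≠ w 2 := hw.2 2 (by norm_num)
  have hB4 : D.isB (w 4) := (D.isB_walk hw.1 h0 4 le_rfl).2 (by decide)
  have ht3 : t • w 3 = w 3 := E.z_fix_walk hw.1 h0 (Nat.zero_le _) (by norm_num) (by omega) (by omega)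
  have htH : t ∈ D.H (w 1) (w 2) := by
    refine ⟨E.z_mem_Q_nbr h0 h01, ?_⟩
    have h3 := D.ker_antitone hr.ge (w 0) (E.z_mem _ h0)
    exact (D.mem_ker_succ.1 ((D.mem_ker_succ.1 h3).2 _ h01)).2 _ h12
  have htQ : t ∉ D.Q (w 3) := fun h => hmv ((D.mem_Q.1 h).2 _ h34)
  have hNE : D.NE := D.ne_of_pair hc (D.symm h12) h23 n13.symm fun e => htQ (e ▸ htH).1
  have hall : ∀ v : ℕ → Ω, D.NB 4 v → D.isB (v 0) → E.z (v 0) • v 4 ≠ v 4 := by
    intro v hv hB
    have hT : Tr D (E.r + 1) := by rw [hr]; exact E.tr_four hNE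
    have := (E.moved_of_tr hT (w := v) (by rw [hr]; exact hv) hB).2.2
    rwa [hr] at this
  obtain ⟨b, hb, hb3⟩ := D.exists_other (D.symm h34)
  obtain ⟨b', hb', hb'3, hbb'⟩ := D.exists_third (D.symm h34) hb
  obtain ⟨p, hp, hp4⟩ := D.exists_other (D.symm hb)
  obtain ⟨q, hq, hq4⟩ := D.exists_other (D.symm hb')
  have hBp : D.isB p := D.isB_right hp (D.not_isB hb hB4)
  have hBq : D.isB q := D.isB_right hq (D.not_isB hb' hB4)
  have wp := D.nb_seq5 (D.symm hp) (D.symm hb) (D.symm h34) (D.symm h23) hp4.symm hb3.symm n24.symm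
  have wq := D.nb_seq5 (D.symm hq) (D.symm hb') (D.symm h34) (D.symm h23) hq4.symm hb'3.symm n24.symm
  have wpq := D.nb_seq5 (D.symm hp) (D.symm hb) hb' hq hp4.symm hbb' hq4
  have hzp4 : E.z p • w 4 = w 4 := E.z_fix_walk (i := 0) (j := 2) wp.1 hBp (by omega) (by omega) (by omega) (by omega)
  have hzp3 : E.z p • w 3 = w 3 := E.z_fix_walk (i := 0) (j := 3) wp.1 hBp (by omega) (by omega) (by omega) (by omega)
  have hzq4 : E.z q • w 4 = w 4 := E.z_fix_walk (i := 0) (j := 2) wq.1 hBq (by omega) (by omega) (by omega) (by omega)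
  have hzq3 : E.z q • w 3 = w 3 := E.z_fix_walk (i := 0) (j := 3) wq.1 hBq (by omega) (by omega) (by omega) (by omega)
  have hzpb' : E.z p • b' = b' := E.z_fix_walk (i := 0) (j := 3) wpq.1 hBp (by omega) (by omega) (by omega) (by omega)
  set s := E.z p * E.z q with hs
  have hs3 : s ∈ D.Q (w 3) := D.mul_mem_Q (D.symm h34)
    (CD.mem_edge.2 ⟨hzp4, hzp3⟩) (CD.mem_edge.2 ⟨hzq4, hzq3⟩)
    (fun h => hall _ wp hBp ((D.mem_Q.1 h).2 _ (D.symm h23)))
    (fun h => hall _ wq hBq ((D.mem_Q.1 h).2 _ (D.symm h23)))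
  set z' := E.z (w 4)
  have hpq : E.z (E.z p • q) * E.z q = z' :=
    E.z_triple ((D.isB_smul _ _).2 hBq) (D.adj_fix hzpb' hq) hq (D.symm hb') (hall _ wpq hBp)
      (CD.smul_ne hzp4 hq4) hq4
  have hs2 : s * s = z' := by
    rw [← hpq, ← E.conj_z hBp hBq, hs]; simp [mul_assoc]
  have hcp : E.z p * z' = z' * E.z p := E.comm_of_fix hB4 hzp4
  have hcq : E.z q * z' = z' * E.z q := E.comm_of_fix hB4 hzq4
  have hs4 : s • w 4 = w 4 := by rw [mul_smul, hzq4, hzp4]
  have hsw2 : s • w 2 = w 2 := (D.mem_Q.1 hs3).2 _ (D.symm h23)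
  have hsQ : s ∉ D.Q (w 2) := by
    intro hsQ
    have hs1 : s • w 1 = w 1 := (D.mem_Q.1 hsQ).2 _ (D.symm h12)
    have he : ∃ e : X, s * t * s⁻¹ = t * e ∧ e * e = 1 ∧ s * e = e * s := by
      have hne : w 0 ≠ w 2 := (hw.2 0 (by norm_num)).symm
      rw [E.z_conj s _ h0]
      rcases E.z_sib hc h12 (D.symm h01) (D.adj_fix hs1 (D.symm h01)) hne
        (CD.smul_ne hsw2 hne) with h | h
      · exact ⟨1, by rw [mul_one, h], one_mul 1, by simp⟩
      · exact ⟨_, h, E.z_sq _ hc, E.comm_of_fix hc hsw2⟩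
    obtain ⟨e, he, he2, hes⟩ := he
    have hts : t * s * t = e * s := by
      have h1 : s * t = t * e * s := mul_inv_eq_iff_eq_mul.1 he
      rw [mul_assoc, h1, mul_assoc t e s, E.mul_left_z h0]
    have htz : t * z' = z' * t := by
      have h1 : t * z' * t = z' := by
        rw [← hs2]
        calc t * (s * s) * t = t * s * (t * t) * s * t := by rw [E.z_sq _ h0]; group
          _ = (t * s * t) * (t * s * t) := by group
          _ = e * (s * e) * s := by rw [hts]; group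
          _ = e * (e * s) * s := by rw [hes]
          _ = (e * e) * (s * s) := by group
          _ = s * s := by rw [he2, one_mul]
      calc t * z' = t * z' * t * t := by rw [mul_assoc _ t t, E.z_sq _ h0, mul_one]
        _ = z' * t := by rw [h1]
    exact hmv (E.fix_of_comm hB4 (D.symm h34) ht3 htz)
  have key : ∀ p' q', D.Adj b p' → p' ≠ w 4 → D.Adj b' q' → q' ≠ w 4 →
      (E.z p' * E.z q' = s ∨ E.z p' * E.z q' = s * z') ∧
        (E.z q' * E.z p' = s ∨ E.z q' * E.z p' = s * z') := by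
    intro p' q' hp' hp'4 hq' hq'4
    have h2 : z' * z' = 1 := E.z_sq _ hB4
    have hz'z' : ∀ x, x * z' * z' = x := fun x => by rw [mul_assoc, h2, mul_one]
    have hrev : E.z q * E.z p = s * z' := by
      rw [← hs2]
      have : s * (E.z q * E.z p) = 1 := by
        rw [hs, mul_assoc, E.mul_left_z hBq, E.z_sq p hBp]
      calc E.z q * E.z p = s⁻¹ := eq_inv_of_mul_eq_one_right this
        _ = s * (s * s) := inv_eq_of_mul_eq_one_right (by rw [← mul_assoc, hs2, h2])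
    rcases E.z_sib hB4 (D.symm hb) hp hp' hp4 hp'4 with e1 | e1 <;>
      rcases E.z_sib hB4 (D.symm hb') hq hq' hq4 hq'4 with e2 | e2 <;> rw [e1, e2]
    · exact ⟨Or.inl rfl, Or.inr hrev⟩
    · exact ⟨Or.inr (mul_assoc _ _ _).symm, Or.inl (by
        rw [mul_assoc, ← hcp, ← mul_assoc, hrev, hz'z'])⟩
    · exact ⟨Or.inr (by rw [mul_assoc, ← hcq, ← mul_assoc]),
        Or.inl (by rw [← mul_assoc, hrev, hz'z'])⟩
    · exact ⟨Or.inl (by rw [mul_assoc, ← mul_assoc z', ← hcq, mul_assoc, h2, mul_one]),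
        Or.inr (by rw [mul_assoc, ← mul_assoc z', ← hcp, mul_assoc, h2, mul_one, hrev])⟩
  have hcen : ∀ n ∈ D.ker 2 (w 2), s * n = n * s := by
    intro n hn
    have hn0 : n • w 0 = w 0 := D.ker_fix hw.1 (i := 2) hn (by omega) (by omega) (by omega) (by omega)
    have hn3 : n • w 3 = w 3 := D.ker_fix hw.1 (i := 2) hn (by omega) (by omega) (by omega) (by omega)
    have hn4 : n • w 4 = w 4 := D.ker_fix hw.1 (i := 2) hn (by omega) (by omega) (by omega) (by omega)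
    have hnp : n • p ≠ w 4 := CD.smul_ne hn4 hp4
    have hnq : n • q ≠ w 4 := CD.smul_ne hn4 hq4
    have hval : n * s * n⁻¹ = s ∨ n * s * n⁻¹ = s * z' := by
      have e : n * s * n⁻¹ = E.z (n • p) * E.z (n • q) := by
        rw [← E.z_conj n p hBp, ← E.z_conj n q hBq, hs]; group
      rw [e]
      have hp' : D.Adj (n • b) (n • p) := D.adj_smul n _ _ hp
      have hq' : D.Adj (n • b') (n • q) := D.adj_smul n _ _ hq
      rcases D.nbr_cases (D.symm h34) hb hb' hb3.symm hb'3.symm hbb'.symm (D.adj_fix hn4 hb)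
        with h | h | h
      · exact absurd h (CD.smul_ne hn3 hb3)
      · have h' : n • b' = b' := D.eq_third (D.symm h34) hb hb3.symm (D.adj_fix hn4 hb') hb'
          (CD.smul_ne hn3 hb'3) (CD.smul_ne h hbb') hb'3 hbb'
        rw [h] at hp'; rw [h'] at hq'
        exact (key _ _ hp' hnp hq' hnq).1
      · have h' : n • b' = b := D.eq_third (D.symm h34) hb' hb'3.symm (D.adj_fix hn4 hb') hb
          (CD.smul_ne hn3 hb'3) (fun e => hbb' (smul_left_cancel n (e.trans h.symm))) hb3 hbb'.symm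
        rw [h] at hp'; rw [h'] at hq'
        exact (key _ _ hq' hnq hp' hnp).2
    rcases hval with h | h
    · exact (mul_inv_eq_iff_eq_mul.1 h).symm
    exfalso
    have hz'N : z' ∈ D.ker 2 (w 2) := by
      have h1 : z' = s⁻¹ * n * s * n⁻¹ := by
        calc z' = s⁻¹ * (s * z') := by group
          _ = s⁻¹ * (n * s * n⁻¹) := by rw [h]
          _ = _ := by group
      rw [h1]
      have h2 := D.conj_mem_ker_fix (g := s⁻¹) (inv_smul_eq_iff.2 hsw2.symm) hn
      rw [inv_inv] at h2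
      exact mul_mem h2 (inv_mem hn)
    have : z' * t = t * z' :=
      E.comm_of_fix h0 (D.ker_fix hw.1 (i := 2) hz'N (by omega) (by omega) (by omega) (by omega))
    exact hmv (E.fix_of_comm hB4 (D.symm h34) ht3 this.symm)
  have hsq := D.card_ker_two_sq hNE hc h23 hsw2 (D.mem_Q.1 hs3).1 hsQ hcen
  have hQ := D.card_Q_le_ker_two (w 2)
  haveI := D.finite_of_le (D.ker_antitone (Nat.zero_le 2) (w 2))
  nlinarith [Nat.card_pos (α := ↥(D.ker 2 (w 2)))]

end CZ

end CfsgLib.LocalEven.AmalgamCentral
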